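import Cfsg.Agent.Lib.Golay.Fixed

/-!
Subgroups of index 24, 23, 22 in M₂₄, M₂₃, M₂₂ fix a point.
-/

set_option autoImplicit false

namespace Cfsg.Agent.Golay

open scoped Pointwise

/-- The first `i` base points, as a set. -/
def baseSet (i : ℕ) : Finset GolayPt := (Finset.range i).image bp

theorem mem_baseSet {i : ℕ} {p : GolayPt} : p ∈ baseSet i ↔ ∃ j < i, bp j = p := by
  simp [baseSet]

theorem card_baseSet {i : ℕ} (hi : i ≤ 7) : (baseSet i).card = i := by
  rw [baseSet, Finset.card_image_of_injOn, Finset.card_range]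
  intro a ha b hb hab
  by_contra hne
  have hai : a < 7 := lt_of_lt_of_le (Finset.mem_range.1 ha) hi
  have hbi : b < 7 := lt_of_lt_of_le (Finset.mem_range.1 hb) hi
  refine base_ne ⟨a, hai⟩ ⟨b, hbi⟩ (fun h => hne (congrArg Fin.val h)) ?_
  have := congrArg idx hab
  rwa [idx_bp, idx_bp] at this

theorem fix_baseSet {i : ℕ} {g : Equiv.Perm GolayPt} (hg : g ∈ fixUpTo M24 i) {w : GolayPt}
    (hw : w ∈ baseSet i) : g w = w := by
  obtain ⟨j, hj, rfl⟩ := mem_baseSet.1 hw
  exact (mem_fixUpTo.1 hg).2 j hj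

theorem some_zero_notMem : (some 0 : GolayPt) ∉ baseSet 1 := by decide +kernel

theorem exists_notMem_baseSet_two : ∃ p : GolayPt, p ∉ baseSet 2 :=
  ⟨some 1, by decide +kernel⟩

/-- An orbit, as a finite set. -/
noncomputable def orbF (K : Subgroup (Equiv.Perm GolayPt)) (p : GolayPt) : Finset GolayPt :=
  (Set.toFinite (MulAction.orbit K p)).toFinset

theorem mem_orbF {K : Subgroup (Equiv.Perm GolayPt)} {p q : GolayPt} :
    q ∈ orbF K p ↔ ∃ g ∈ K, g p = q := by
  rw [orbF, Set.Finite.mem_toFinset, MulAction.mem_orbit_iff]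
  constructor
  · rintro ⟨⟨g, hg⟩, h⟩
    exact ⟨g, hg, h⟩
  · rintro ⟨g, hg, h⟩
    exact ⟨⟨g, hg⟩, h⟩

theorem self_mem_orbF (K : Subgroup (Equiv.Perm GolayPt)) (p : GolayPt) : p ∈ orbF K p :=
  mem_orbF.2 ⟨1, K.one_mem, rfl⟩

theorem orbF_invariant {K : Subgroup (Equiv.Perm GolayPt)} {g : Equiv.Perm GolayPt} (hg : g ∈ K)
    {p : GolayPt} (q : GolayPt) : g q ∈ orbF K p ↔ q ∈ orbF K p := by
  simp only [mem_orbF]
  constructor
  · rintro ⟨h, hh, e⟩
    refine ⟨g⁻¹ * h, K.mul_mem (K.inv_mem hg) hh, ?_⟩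
    rw [Equiv.Perm.mul_apply, e, Equiv.Perm.coe_inv, Equiv.symm_apply_apply]
  · rintro ⟨h, hh, e⟩
    exact ⟨g * h, K.mul_mem hg hh, by rw [Equiv.Perm.mul_apply, e]⟩

theorem orbF_disjoint {K : Subgroup (Equiv.Perm GolayPt)} {p q : GolayPt} (h : q ∉ orbF K p) :
    Disjoint (orbF K p) (orbF K q) := by
  rw [Finset.disjoint_left]
  intro r hr hr'
  obtain ⟨a, ha, e⟩ := mem_orbF.1 hr'
  apply h
  rw [← orbF_invariant ha, e]
  exact hr

theorem orbF_subset {i : ℕ} {K : Subgroup (Equiv.Perm GolayPt)} (hK : K ≤ fixUpTo M24 i)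
    {p : GolayPt} (hp : p ∉ baseSet i) : orbF K p ⊆ Finset.univ \ baseSet i := by
  intro q hq
  refine Finset.mem_sdiff.2 ⟨Finset.mem_univ _, fun hw => ?_⟩
  obtain ⟨g, hg, rfl⟩ := mem_orbF.1 hq
  exact hp (g.injective (fix_baseSet (hK hg) hw) ▸ hw)

theorem card_orbF_le {i : ℕ} (hi : i ≤ 7) {K : Subgroup (Equiv.Perm GolayPt)}
    (hK : K ≤ fixUpTo M24 i) {p : GolayPt} (hp : p ∉ baseSet i) :
    (orbF K p).card ≤ 24 - i := by
  have := Finset.card_le_card (orbF_subset hK hp)
  rwa [Finset.card_sdiff_of_subset (Finset.subset_univ _), Finset.card_univ, card_golayPt,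
    card_baseSet hi] at this

theorem card_eq_orbF_mul (K : Subgroup (Equiv.Perm GolayPt)) (p : GolayPt) :
    Nat.card K = (orbF K p).card *
      Nat.card ↥(K ⊓ MulAction.stabilizer (Equiv.Perm GolayPt) p) := by
  have e : MulAction.stabilizer K p ≃ ↥(K ⊓ MulAction.stabilizer (Equiv.Perm GolayPt) p) :=
    { toFun := fun g => ⟨g.1.1, g.1.2, g.2⟩
      invFun := fun g => ⟨⟨g.1, g.2.1⟩, g.2.2⟩
      left_inv := fun _ => rfl
      right_inv := fun _ => rfl }
  rw [← Nat.card_congr e, orbF, ← Set.ncard_eq_toFinset_card _, ← Nat.card_coe_set_eq,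
    ← Nat.card_prod, Nat.card_congr (MulAction.orbitProdStabilizerEquivGroup K p)]

/-- Orbit sizes modulo a prime `p` dividing the order of a subgroup fixing the first `i` points. -/
theorem orbF_mod {i : ℕ} (hi : i ≤ 7) {K : Subgroup (Equiv.Perm GolayPt)}
    (hK : K ≤ fixUpTo M24 i) {p : ℕ} [hp : Fact p.Prime] (hdvd : p ∣ Nat.card K) (n : ℕ)
    (hn : ∀ g ∈ M24, orderOf g = p → (fixedPts g).card = n) (hpn : n - i < p) {q : GolayPt}
    (hq : q ∉ baseSet i) : (orbF K q).card % p ≤ n - i := by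
  obtain ⟨⟨g, hg⟩, hgo⟩ := exists_prime_orderOf_dvd_card' p hdvd
  rw [Subgroup.orderOf_mk] at hgo
  have hmod := card_modEq_fixed (p := p) (g := g) (S := orbF K q)
    (by rw [← hgo, pow_orderOf_eq_one]) (orbF_invariant hg)
  have hsub : (orbF K q).filter (fun r => g r = r) ⊆ fixedPts g \ baseSet i := by
    intro r hr
    rw [Finset.mem_filter] at hr
    exact Finset.mem_sdiff.2 ⟨mem_fixedPts.2 hr.2, (Finset.mem_sdiff.1 (orbF_subset hK hq hr.1)).2⟩
  have hb : baseSet i ⊆ fixedPts g := fun w hw => mem_fixedPts.2 (fix_baseSet (hK hg) hw)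
  have := Finset.card_le_card hsub
  rw [Finset.card_sdiff_of_subset hb, card_baseSet hi, hn g (fixUpTo_le M24 i (hK hg)) hgo] at this
  rw [hmod, Nat.mod_eq_of_lt (lt_of_le_of_lt this hpn)]
  exact this

theorem fixes_of_card_one {K : Subgroup (Equiv.Perm GolayPt)} {p : GolayPt}
    (h : (orbF K p).card = 1) : ∀ g ∈ K, g p = p := by
  intro g hg
  obtain ⟨a, ha⟩ := Finset.card_eq_one.1 h
  have h1 : p ∈ orbF K p := self_mem_orbF K p
  have h2 : g p ∈ orbF K p := mem_orbF.2 ⟨g, hg, rfl⟩
  rw [ha, Finset.mem_singleton] at h1 h2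
  rw [h2, ← h1]

/-- An orbit outside a given one, disjoint from it. -/
theorem exists_second_orbit {i : ℕ} (hi : i ≤ 7) {K : Subgroup (Equiv.Perm GolayPt)}
    (hK : K ≤ fixUpTo M24 i) {p : GolayPt} (hp : p ∉ baseSet i)
    (h : (orbF K p).card < 24 - i) :
    ∃ q, q ∉ baseSet i ∧ (orbF K p).card + (orbF K q).card ≤ 24 - i := by
  have hc : (Finset.univ \ baseSet i).card = 24 - i := by
    rw [Finset.card_sdiff_of_subset (Finset.subset_univ _), Finset.card_univ, card_golayPt,
      card_baseSet hi]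
  obtain ⟨q, hq, hq'⟩ := Finset.exists_mem_notMem_of_card_lt_card (hc.symm ▸ h :
    (orbF K p).card < (Finset.univ \ baseSet i).card)
  have hq1 := (Finset.mem_sdiff.1 hq).2
  refine ⟨q, hq1, ?_⟩
  rw [← Finset.card_union_of_disjoint (orbF_disjoint hq'), ← hc]
  exact Finset.card_le_card (Finset.union_subset (orbF_subset hK hp) (orbF_subset hK hq1))

/-- In a group with a subgroup `P` of order 11 whose centraliser order divides 22, the
normaliser of `P` has order `11 * e` with `e ∣ 20`. -/
theorem no_subgroup_18480 (L : Subgroup (Equiv.Perm GolayPt)) (hL : L ≤ fixUpTo M24 2) :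
    Nat.card L ≠ 18480 := by
  intro hcard
  have : Fact (Nat.Prime 11) := ⟨by norm_num⟩
  obtain ⟨x, hx⟩ := exists_prime_orderOf_dvd_card' (G := L) 11 (by rw [hcard]; norm_num)
  obtain ⟨P, hP⟩ := zpowers_sylow (by rw [hcard]; norm_num) hx
  set N := Subgroup.normalizer ((P : Subgroup L) : Set L) with hN
  set C := Subgroup.centralizer ((P : Subgroup L) : Set L) with hC
  obtain ⟨hxg, hxfix⟩ := mem_fixUpTo.1 (hL x.2)
  have hxo : orderOf x.1 = 11 := by rw [Subgroup.orderOf_coe, hx]
  -- a point moved by `x`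
  obtain ⟨a, -, ha⟩ := Finset.exists_mem_notMem_of_card_lt_card
    (show (fixedPts x.1).card < (Finset.univ : Finset GolayPt).card by
      rw [card_fixedPts_eleven hxg hxo, Finset.card_univ, card_golayPt]; norm_num)
  rw [mem_fixedPts] at ha
  have haw : a ∉ baseSet 2 := fun h => ha (fix_baseSet (hL x.2) h)
  have hinj : ∀ c ∈ C, c.1 a = a → c = 1 := by
    intro c hc hca
    have hcx : ∀ k : ℕ, c.1 ((x.1 ^ k) a) = (x.1 ^ k) a := by
      intro k
      have hcom := Subgroup.mem_centralizer_iff.1 hc x (hP.symm ▸ Subgroup.mem_zpowers x)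
      have hcom' : Commute x.1 c.1 := congrArg Subtype.val hcom
      have hh := DFunLike.congr_fun (hcom'.pow_left k).eq a
      rw [Equiv.Perm.mul_apply, Equiv.Perm.mul_apply, hca] at hh
      exact hh.symm
    refine Subtype.ext (eq_one_of_fixed (fixUpTo_le M24 2 (hL c.2))
      (s := (Finset.range 11).image fun k => (x.1 ^ k) a) ?_ ?_)
    · have hinj' : Set.InjOn (fun k => (x.1 ^ k) a) (Finset.range 11) := by
        intro j hj k hk hjk
        by_contra hne
        wlog hlt : j < k generalizing j k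
        · exact this hk hj hjk.symm (Ne.symm hne) (by omega)
        simp only [Finset.coe_range, Set.mem_Iio] at hj hk hjk
        have hd : (x.1 ^ (k - j)) a = a := by
          apply (x.1 ^ j).injective
          rw [← Equiv.Perm.mul_apply, ← pow_add, Nat.add_sub_cancel' hlt.le, hjk]
        have hcop : Nat.Coprime (k - j) (orderOf x.1) := by
          rw [hxo, Nat.coprime_comm, (by norm_num : Nat.Prime 11).coprime_iff_not_dvd]
          intro hd'
          have := Nat.le_of_dvd (by omega) hd'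
          omega
        obtain ⟨m, hm⟩ := exists_pow_eq_self_of_coprime hcop
        have := fixedPts_subset_pow (x.1 ^ (k - j)) m (mem_fixedPts.2 hd)
        rw [hm, mem_fixedPts] at this
        exact ha this
      rw [Finset.card_image_of_injOn hinj', Finset.card_range]; norm_num
    · intro p hp
      obtain ⟨k, -, rfl⟩ := Finset.mem_image.1 hp
      exact hcx k
  have hCle : Nat.card C ≤ 22 := by
    have hf : ∀ c : C, c.1.1 a ∈ Finset.univ \ baseSet 2 := fun c =>
      Finset.mem_sdiff.2 ⟨Finset.mem_univ _, fun h =>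
        haw (c.1.1.injective (fix_baseSet (hL c.1.2) h) ▸ h)⟩
    refine (Nat.card_le_card_of_injective (fun c : C => (⟨_, hf c⟩ :
      {p // p ∈ Finset.univ \ baseSet 2})) ?_).trans (le_of_eq ?_)
    · intro c d h
      have h' : c.1.1 a = d.1.1 a := congrArg Subtype.val h
      refine Subtype.ext (inv_mul_eq_one.1 (hinj _ (C.mul_mem (C.inv_mem d.2) c.2) ?_)).symm
      show ((d.1.1)⁻¹ * c.1.1) a = a
      rw [Equiv.Perm.mul_apply, h', Equiv.Perm.coe_inv, Equiv.symm_apply_apply]
    · rw [Nat.card_eq_fintype_card, Fintype.card_coe,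
        Finset.card_sdiff_of_subset (Finset.subset_univ _), Finset.card_univ, card_golayPt,
        card_baseSet (by norm_num)]
  have hCN : C ≤ N := Subgroup.centralizer_le_normalizer _
  have h11C : 11 ∣ Nat.card C := by
    rw [← hx, ← Nat.card_zpowers, ← hP]
    refine Subgroup.card_dvd_of_le fun y hy => Subgroup.mem_centralizer_iff.2 fun z hz => ?_
    rw [hP] at hy
    have hz' : z ∈ Subgroup.zpowers x := hP ▸ hz
    obtain ⟨j, rfl⟩ := Subgroup.mem_zpowers_iff.1 hy
    obtain ⟨k, rfl⟩ := Subgroup.mem_zpowers_iff.1 hz'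
    exact (Commute.refl x).zpow_zpow k j
  have hker : Nat.card C * (C.subgroupOf N).index = Nat.card N := by
    rw [← Subgroup.card_mul_index (C.subgroupOf N),
      Nat.card_congr (Subgroup.subgroupOfEquivOfLe hCN).toEquiv]
  have hidx : (C.subgroupOf N).index ∣ 10 := by
    rw [hC, hN, ← Subgroup.normalizerMonoidHom_ker, Subgroup.index_ker]
    refine (Subgroup.card_subgroup_dvd_card _).trans (dvd_of_eq ?_)
    have : IsCyclic (P : Subgroup L) := by rw [hP]; infer_instance
    rw [IsCyclic.card_mulAut, hP, Nat.card_zpowers, hx, Nat.totient_prime (by norm_num)]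
  have hsyl : Nat.card (Sylow 11 L) * Nat.card N = 18480 := by
    rw [Sylow.card_eq_index_normalizer P, ← hcard, ← Subgroup.card_mul_index N, mul_comm]
    rfl
  have hmod := card_sylow_modEq_one 11 L
  obtain ⟨c, hc⟩ := h11C
  obtain ⟨j, hj⟩ := hidx
  have hc2 : c = 1 ∨ c = 2 := by
    have : 0 < Nat.card C := Nat.card_pos
    omega
  have hidle : (C.subgroupOf N).index ≤ 10 := Nat.le_of_dvd (by norm_num) ⟨j, hj⟩
  have hsd : Nat.card N = 11 * c * (C.subgroupOf N).index := by rw [← hker, hc]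
  rw [hsd] at hsyl
  have hmod' : Nat.card (Sylow 11 L) % 11 = 1 := hmod
  interval_cases hi : (C.subgroupOf N).index <;> rcases hc2 with rfl | rfl <;> omega

/-- A subgroup of index 24 in `M₂₄` fixes a point. -/
theorem exists_fixed_M24 {K : Subgroup (Equiv.Perm GolayPt)} (hK : K ≤ fixUpTo M24 0)
    (hcard : Nat.card K = 10200960) : ∃ p ∉ baseSet 0, ∀ g ∈ K, g p = p := by
  have : Fact (Nat.Prime 23) := ⟨by norm_num⟩
  have hn : (none : GolayPt) ∉ baseSet 0 := by simp [mem_baseSet]
  have hle := card_orbF_le (by norm_num) hK hn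
  have hpos : 0 < (orbF K none).card := Finset.card_pos.2 ⟨_, self_mem_orbF K none⟩
  have hmod := orbF_mod (i := 0) (by norm_num) hK (p := 23) (by rw [hcard]; norm_num) 1
    (fun g hg => card_fixedPts_twentythree hg) (by norm_num) hn
  have hcases : (orbF K none).card = 1 ∨ (orbF K none).card = 23 ∨ (orbF K none).card = 24 := by
    omega
  rcases hcases with h | h | h
  · exact ⟨none, hn, fixes_of_card_one h⟩
  · obtain ⟨q, hq, hqc⟩ := exists_second_orbit (by norm_num) hK hn (by omega)
    have : 0 < (orbF K q).card := Finset.card_pos.2 ⟨_, self_mem_orbF K q⟩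
    exact ⟨q, hq, fixes_of_card_one (by omega)⟩
  exfalso
  set K1 := K ⊓ MulAction.stabilizer (Equiv.Perm GolayPt) (none : GolayPt) with hK1
  have hc1 : Nat.card K1 = 425040 := by
    have := card_eq_orbF_mul K none
    rw [hcard, h, ← hK1] at this
    omega
  have hK1le : K1 ≤ fixUpTo M24 1 := fun g hg => ⟨hK hg.1, hg.2⟩
  have h0 := some_zero_notMem
  have hle1 := card_orbF_le (by norm_num) hK1le h0
  have hpos1 : 0 < (orbF K1 (some 0)).card := Finset.card_pos.2 ⟨_, self_mem_orbF K1 _⟩
  have hmod1 := orbF_mod (i := 1) (by norm_num) hK1le (p := 23) (by rw [hc1]; norm_num) 1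
    (fun g hg => card_fixedPts_twentythree hg) (by norm_num) h0
  have h23 : (orbF K1 (some 0)).card = 23 := by omega
  refine no_subgroup_18480 (K1 ⊓ MulAction.stabilizer (Equiv.Perm GolayPt) (some 0 : GolayPt))
    (fun g hg => ⟨hK1le hg.1, hg.2⟩) ?_
  have := card_eq_orbF_mul K1 (some 0)
  rw [hc1, h23] at this
  omega

/-- A subgroup of index 23 in `M₂₃` fixes a second point. -/
theorem exists_fixed_M23 {K : Subgroup (Equiv.Perm GolayPt)} (hK : K ≤ fixUpTo M24 1)
    (hcard : Nat.card K = 443520) : ∃ p ∉ baseSet 1, ∀ g ∈ K, g p = p := by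
  have : Fact (Nat.Prime 7) := ⟨by norm_num⟩
  have : Fact (Nat.Prime 11) := ⟨by norm_num⟩
  by_contra hcon
  push Not at hcon
  have size : ∀ q ∉ baseSet 1, (orbF K q).card = 22 := by
    intro q hq
    have hle := card_orbF_le (by norm_num) hK hq
    have hpos : 0 < (orbF K q).card := Finset.card_pos.2 ⟨_, self_mem_orbF K q⟩
    have h11 := orbF_mod (i := 1) (by norm_num) hK (p := 11) (by rw [hcard]; norm_num) 2
      (fun g hg => card_fixedPts_eleven hg) (by norm_num) hq
    have h7 := orbF_mod (i := 1) (by norm_num) hK (p := 7) (by rw [hcard]; norm_num) 3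
      (fun g hg => card_fixedPts_seven hg) (by norm_num) hq
    have hne : (orbF K q).card ≠ 1 := fun e =>
      let ⟨g, hg, hgq⟩ := hcon q hq
      hgq (fixes_of_card_one e g hg)
    have h23 : (orbF K q).card ≠ 23 := fun e => by
      have hm := card_eq_orbF_mul K q
      rw [hcard, e] at hm
      omega
    omega
  have hn := some_zero_notMem
  obtain ⟨q, hq, hqc⟩ := exists_second_orbit (by norm_num) hK hn (by rw [size _ hn]; norm_num)
  rw [size _ hn, size q hq] at hqc
  omega

/-- A subgroup of index 22 in `M₂₂` fixes a third point. -/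
theorem exists_fixed_M22 {K : Subgroup (Equiv.Perm GolayPt)} (hK : K ≤ fixUpTo M24 2)
    (hcard : Nat.card K = 20160) : ∃ p ∉ baseSet 2, ∀ g ∈ K, g p = p := by
  have : Fact (Nat.Prime 7) := ⟨by norm_num⟩
  have : Fact (Nat.Prime 5) := ⟨by norm_num⟩
  by_contra hcon
  push Not at hcon
  have size : ∀ q ∉ baseSet 2, (orbF K q).card = 7 ∨ (orbF K q).card = 15 ∨
      (orbF K q).card = 21 := by
    intro q hq
    have hle := card_orbF_le (by norm_num) hK hq
    have hpos : 0 < (orbF K q).card := Finset.card_pos.2 ⟨_, self_mem_orbF K q⟩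
    have h5 := orbF_mod (i := 2) (by norm_num) hK (p := 5) (by rw [hcard]; norm_num) 4
      (fun g hg => card_fixedPts_five hg) (by norm_num) hq
    have h7 := orbF_mod (i := 2) (by norm_num) hK (p := 7) (by rw [hcard]; norm_num) 3
      (fun g hg => card_fixedPts_seven hg) (by norm_num) hq
    have hne : (orbF K q).card ≠ 1 := fun e =>
      let ⟨g, hg, hgq⟩ := hcon q hq
      hgq (fixes_of_card_one e g hg)
    have h22 : (orbF K q).card ≠ 22 := fun e => by
      have hm := card_eq_orbF_mul K q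
      rw [hcard, e] at hm
      omega
    omega
  -- an orbit of size 7
  obtain ⟨q, hq, h7⟩ : ∃ q ∉ baseSet 2, (orbF K q).card = 7 := by
    obtain ⟨p, hp⟩ := exists_notMem_baseSet_two
    rcases size p hp with h | h | h
    · exact ⟨p, hp, h⟩
    all_goals
      obtain ⟨q, hq, hqc⟩ := exists_second_orbit (by norm_num) hK hp (by omega)
      have := size q hq
      exact ⟨q, hq, by omega⟩
  set O := orbF K q with hO
  let f : K → Equiv.Perm {r // r ∈ O} := fun g => g.1.subtypePerm (fun r => orbF_invariant g.2 r)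
  have hinj : Function.Injective f := by
    intro g h hgh
    refine Subtype.ext (inv_mul_eq_one.1 ?_).symm
    refine eq_one_of_fixed (fixUpTo_le M24 2 (hK (K.mul_mem (K.inv_mem h.2) g.2)))
      (s := baseSet 2 ∪ O) ?_ ?_
    · rw [Finset.card_union_of_disjoint, card_baseSet (by norm_num), h7]
      rw [Finset.disjoint_left]
      exact fun r hr hr' => (Finset.mem_sdiff.1 (orbF_subset hK hq hr')).2 hr
    · intro r hr
      rcases Finset.mem_union.1 hr with hr | hr
      · exact fix_baseSet (hK (K.mul_mem (K.inv_mem h.2) g.2)) hr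
      · have := congrArg Subtype.val (DFunLike.congr_fun hgh ⟨r, hr⟩)
        simp only [f, Equiv.Perm.subtypePerm_apply] at this
        rw [Equiv.Perm.mul_apply, this, Equiv.Perm.coe_inv, Equiv.symm_apply_apply]
  have := Nat.card_le_card_of_injective f hinj
  rw [hcard, Nat.card_perm, Nat.card_eq_fintype_card, Fintype.card_coe, h7] at this
  exact absurd this (by decide)

end Cfsg.Agent.Golay
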