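import Cfsg.Agent.Lib.Golay.Simple
import Cfsg.Agent.Lib.Golay.Subgroups

/-!
The Mathieu groups M₁₂ and M₁₁ as the stabilisers of the dodecad of squares and of a point on it:
sharp 5-transitivity, orders, simplicity, the action on the complementary dodecad.
-/

set_option autoImplicit false

namespace Cfsg.Agent.Golay

open scoped Pointwise

/-- The dodecad of squares, as a mask. -/
def dMask : ℕ := 340831

/-- The points of the dodecad of squares. -/
def dList : List ℕ := [0, 1, 2, 3, 4, 6, 8, 9, 12, 13, 16, 18]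

/-- A table sending the base of the chain of M₂₄ to 0, 1, 2, 3, 4. -/
def toBaseTab : List ℕ := [1, 2, 3, 4, 8, 12, 9, 11, 18, 17, 5, 20, 13, 19, 10, 23, 15, 7, 21, 6, 14, 22, 16, 0]

/-- The preimage of the dodecad of squares under it. -/
def preMask : ℕ := 13111679

/-- Generators of M₁₁ of order 11. -/
def gens11 : List (List ℕ) := [
  [0, 18, 8, 4, 12, 20, 16, 7, 3, 6, 14, 19, 9, 2, 21, 22, 1, 5, 13, 17, 10, 15, 23, 11],
  [0, 16, 13, 8, 2, 19, 1, 21, 4, 18, 11, 14, 6, 9, 22, 20, 3, 17, 12, 7, 23, 15, 5, 10]]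

/-- Generators of M₁₂. -/
def gens12 : List (List ℕ) := [
  [0, 18, 8, 4, 12, 20, 16, 7, 3, 6, 14, 19, 9, 2, 21, 22, 1, 5, 13, 17, 10, 15, 23, 11],
  [0, 16, 13, 8, 2, 19, 1, 21, 4, 18, 11, 14, 6, 9, 22, 20, 3, 17, 12, 7, 23, 15, 5, 10],
  [18, 13, 8, 1, 3, 21, 2, 7, 16, 6, 15, 22, 12, 9, 17, 5, 0, 10, 4, 14, 23, 20, 19, 11]]

/-- Program for the chain of M₁₁. -/
def prog11 : List (ℕ × ℕ) := [
  (0, 2), (0, 3), (0, 4), (0, 5), (0, 6), (0, 7), (0, 8), (0, 9),
  (0, 10), (0, 11), (12, 12), (13, 13), (14, 14), (13, 15), (16, 1), (17, 2),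
  (17, 18), (17, 19), (1, 1), (7, 7), (22, 22), (23, 23), (22, 24), (25, 21),
  (26, 2), (26, 27), (17, 27), (26, 28), (17, 28), (26, 29), (26, 31), (17, 31),
  (0, 1), (1, 0), (9, 9), (37, 37), (38, 38), (37, 39), (40, 36), (41, 2),
  (17, 42), (41, 43), (26, 43), (17, 43), (26, 44), (17, 44), (41, 47), (17, 48),
  (35, 21), (7, 7), (52, 52), (53, 53), (52, 54), (55, 51), (45, 45), (57, 57),
  (58, 56), (59, 2), (59, 18), (59, 19), (59, 20)]

/-- Transversals of M₁₁. -/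
def reps11 : List (List (ℕ × ℕ)) := [
  [(1, 2), (2, 5), (3, 7), (4, 8), (6, 11), (8, 6), (9, 10), (12, 9), (13, 4), (16, 12), (18, 3)],
  [(2, 2), (3, 49), (4, 43), (6, 48), (8, 46), (9, 45), (12, 47), (13, 44), (16, 42), (18, 50)],
  [(3, 2), (4, 33), (6, 30), (8, 28), (9, 29), (12, 31), (13, 32), (16, 34), (18, 27)],
  [(4, 2), (6, 60), (8, 18), (9, 62), (12, 19), (13, 61), (16, 20), (18, 63)]]

/-- Program for the chain of M₁₂. -/
def prog12 : List (ℕ × ℕ) := [
  (0, 3), (0, 4), (0, 5), (0, 6), (0, 7), (0, 8), (0, 9), (0, 10),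
  (0, 11), (0, 12), (13, 13), (14, 14), (15, 15), (14, 16), (17, 1), (18, 3),
  (18, 19), (18, 20), (2, 3), (2, 22), (0, 22), (18, 22), (2, 23), (0, 23),
  (18, 23), (0, 24), (18, 24), (2, 26), (18, 27), (0, 0), (2, 1), (33, 0),
  (35, 2), (28, 28), (37, 37), (38, 38), (28, 39), (40, 36), (4, 4), (42, 42),
  (43, 43), (42, 44), (45, 41), (46, 3), (46, 47), (18, 47), (46, 48), (46, 49),
  (18, 49), (46, 50), (18, 50), (18, 53), (1, 34), (27, 27), (27, 57), (58, 56),
  (7, 7), (60, 60), (61, 61), (60, 62), (63, 59), (49, 49), (49, 65), (66, 64),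
  (67, 3), (18, 68), (67, 69), (18, 69), (18, 70), (18, 71), (18, 72), (67, 74),
  (56, 36), (28, 28), (77, 77), (78, 78), (28, 79), (80, 76), (4, 4), (82, 82),
  (83, 83), (82, 84), (85, 81), (53, 53), (87, 87), (88, 86), (74, 74), (74, 90),
  (91, 89), (92, 3), (92, 19), (92, 20), (92, 21)]

/-- Transversals of M₁₂. -/
def reps12 : List (List (ℕ × ℕ)) := [
  [(0, 3), (1, 31), (2, 29), (3, 26), (4, 23), (6, 30), (8, 28), (9, 25), (12, 27), (13, 24), (16, 32), (18, 22)],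
  [(1, 3), (2, 6), (3, 8), (4, 9), (6, 12), (8, 7), (9, 11), (12, 10), (13, 5), (16, 13), (18, 4)],
  [(2, 3), (3, 51), (4, 55), (6, 52), (8, 50), (9, 47), (12, 54), (13, 49), (16, 53), (18, 48)],
  [(3, 3), (4, 72), (6, 69), (8, 74), (9, 73), (12, 75), (13, 68), (16, 70), (18, 71)],
  [(4, 3), (6, 95), (8, 19), (9, 93), (12, 20), (13, 96), (16, 21), (18, 94)]]

/-- Transversals of M₁₁ on three points of the complement. -/
def triTabs : List (List (List ℕ)) := [
  [[0, 1, 2, 3, 4, 5, 6, 7, 8, 9, 10, 11, 12, 13, 14, 15, 16, 17, 18, 19, 20, 21, 22, 23],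
    [0, 1, 2, 6, 12, 7, 8, 5, 18, 4, 15, 20, 13, 9, 23, 17, 16, 19, 3, 10, 11, 22, 14, 21],
    [0, 1, 2, 8, 3, 10, 6, 19, 9, 4, 15, 14, 16, 18, 22, 17, 13, 5, 12, 7, 11, 23, 20, 21],
    [0, 1, 2, 4, 6, 11, 18, 14, 16, 9, 20, 19, 8, 12, 17, 23, 13, 21, 3, 22, 10, 7, 5, 15],
    [0, 1, 2, 3, 6, 14, 12, 22, 13, 4, 11, 7, 9, 16, 5, 21, 18, 23, 8, 20, 15, 19, 10, 17],
    [0, 1, 2, 4, 3, 15, 13, 10, 18, 16, 7, 23, 12, 6, 21, 5, 9, 17, 8, 19, 20, 14, 22, 11],
    [0, 1, 2, 3, 8, 17, 18, 15, 12, 13, 19, 21, 16, 6, 23, 10, 4, 5, 9, 7, 11, 22, 20, 14],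
    [0, 1, 2, 6, 16, 19, 9, 10, 12, 3, 17, 11, 18, 4, 21, 5, 13, 7, 8, 15, 14, 20, 22, 23],
    [0, 1, 2, 9, 3, 20, 8, 22, 16, 13, 11, 17, 6, 4, 15, 14, 12, 23, 18, 21, 19, 5, 7, 10],
    [0, 1, 2, 4, 13, 21, 12, 22, 6, 3, 23, 10, 16, 9, 15, 14, 8, 11, 18, 20, 5, 19, 7, 17],
    [0, 1, 2, 8, 4, 22, 3, 14, 12, 16, 20, 15, 6, 9, 10, 11, 18, 21, 13, 23, 7, 17, 19, 5],
    [0, 1, 2, 3, 13, 23, 8, 21, 9, 16, 20, 19, 18, 12, 17, 11, 6, 14, 4, 22, 7, 10, 15, 5]],
  [[0, 1, 2, 3, 4, 5, 6, 7, 8, 9, 10, 11, 12, 13, 14, 15, 16, 17, 18, 19, 20, 21, 22, 23],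
    [0, 1, 2, 3, 12, 5, 9, 10, 16, 6, 7, 22, 4, 18, 14, 19, 8, 17, 13, 15, 21, 20, 11, 23],
    [0, 1, 6, 9, 3, 5, 12, 11, 18, 4, 22, 17, 2, 13, 14, 15, 8, 7, 16, 21, 19, 20, 23, 10],
    [0, 2, 1, 8, 6, 5, 18, 14, 16, 12, 20, 23, 4, 9, 10, 19, 3, 21, 13, 15, 17, 7, 11, 22],
    [0, 3, 1, 2, 8, 5, 6, 15, 13, 9, 19, 11, 16, 4, 23, 21, 18, 14, 12, 20, 10, 7, 22, 17],
    [0, 1, 2, 8, 9, 5, 12, 17, 16, 18, 7, 23, 13, 6, 21, 15, 3, 10, 4, 19, 14, 20, 11, 22],
    [0, 3, 1, 2, 16, 5, 9, 19, 18, 6, 15, 22, 8, 12, 23, 20, 13, 14, 4, 21, 7, 10, 11, 17],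
    [0, 2, 1, 3, 13, 5, 9, 20, 8, 6, 21, 11, 18, 4, 17, 19, 16, 14, 12, 15, 7, 10, 22, 23],
    [0, 2, 1, 3, 18, 5, 6, 21, 16, 9, 20, 22, 13, 12, 17, 15, 8, 14, 4, 19, 10, 7, 11, 23],
    [0, 1, 4, 8, 3, 5, 9, 22, 13, 16, 17, 11, 18, 2, 15, 19, 12, 23, 6, 21, 14, 20, 10, 7],
    [0, 1, 3, 13, 6, 5, 12, 23, 18, 16, 10, 17, 8, 9, 19, 20, 2, 7, 4, 21, 14, 15, 11, 22]],
  [[0, 1, 2, 3, 4, 5, 6, 7, 8, 9, 10, 11, 12, 13, 14, 15, 16, 17, 18, 19, 20, 21, 22, 23],
    [0, 1, 6, 18, 4, 5, 2, 7, 8, 16, 11, 10, 13, 12, 20, 15, 9, 22, 3, 21, 14, 19, 17, 23],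
    [0, 4, 8, 18, 9, 5, 2, 7, 3, 13, 14, 15, 12, 16, 21, 17, 1, 20, 6, 22, 23, 19, 10, 11],
    [0, 4, 2, 6, 9, 5, 8, 7, 3, 1, 15, 14, 16, 12, 23, 17, 13, 10, 18, 19, 21, 22, 20, 11],
    [0, 1, 2, 8, 13, 5, 18, 7, 3, 12, 17, 11, 9, 4, 21, 19, 16, 10, 6, 15, 20, 14, 23, 22],
    [0, 12, 2, 18, 16, 5, 6, 7, 3, 4, 19, 22, 13, 1, 20, 15, 9, 10, 8, 17, 23, 11, 21, 14],
    [0, 4, 3, 8, 13, 5, 6, 7, 2, 12, 20, 11, 16, 1, 19, 21, 9, 10, 18, 23, 17, 22, 15, 14],
    [0, 9, 3, 6, 13, 5, 8, 7, 18, 16, 21, 17, 12, 1, 19, 20, 4, 23, 2, 10, 11, 22, 14, 15],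
    [0, 1, 6, 8, 12, 5, 3, 7, 18, 13, 22, 10, 16, 4, 19, 21, 9, 11, 2, 15, 14, 20, 23, 17],
    [0, 1, 3, 18, 16, 5, 8, 7, 2, 4, 23, 22, 9, 12, 15, 20, 13, 10, 6, 21, 19, 14, 17, 11]]]

/-- An involution of M₁₁ swapping 1, 2 and 3, 4. -/
def invTab : List ℕ := [0, 2, 1, 4, 3, 11, 18, 7, 13, 9, 10, 5, 12, 8, 21, 23, 16, 17, 6, 22, 20, 14, 19, 15]

/-- The elements of M₁₁ inducing (1 2 3). -/
def cycTabs : List (List ℕ) := [
  [0, 2, 3, 1, 4, 23, 16, 7, 18, 8, 10, 15, 12, 6, 14, 20, 13, 5, 9, 21, 11, 22, 19, 17],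
  [0, 2, 3, 1, 6, 17, 18, 22, 8, 13, 11, 21, 9, 12, 5, 15, 16, 14, 4, 19, 7, 10, 20, 23],
  [0, 2, 3, 1, 8, 14, 4, 15, 9, 12, 19, 10, 16, 18, 23, 11, 6, 17, 13, 22, 21, 20, 7, 5],
  [0, 2, 3, 1, 9, 17, 13, 11, 16, 18, 22, 20, 6, 4, 5, 19, 8, 14, 12, 15, 10, 7, 21, 23],
  [0, 2, 3, 1, 12, 23, 8, 10, 13, 16, 7, 19, 4, 9, 14, 21, 18, 5, 6, 20, 22, 11, 15, 17],
  [0, 2, 3, 1, 13, 5, 6, 21, 4, 9, 20, 11, 18, 8, 17, 7, 12, 23, 16, 10, 19, 15, 22, 14],
  [0, 2, 3, 1, 16, 14, 12, 19, 6, 4, 15, 7, 8, 13, 23, 22, 9, 17, 18, 11, 20, 21, 10, 5],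
  [0, 2, 3, 1, 18, 5, 9, 20, 12, 6, 21, 22, 13, 16, 17, 10, 4, 23, 8, 7, 15, 19, 11, 14]]

/-- The base points of the complement. -/
def triBase : List ℕ := [5, 7, 10]

theorem squareDodecad_eq : Spor.squareDodecad = toSet dMask := by
  rw [Spor.squareDodecad, ← support₂_toWord]
  congr 1
  funext p
  exact qrWord_eq' 0 p

theorem squareDodecad_mem : Spor.squareDodecad ∈ dodecads :=
  dodecad_mem_iff.2 ⟨dMask, by decide +kernel, by decide +kernel, squareDodecad_eq⟩

theorem card_squareDodecad : Spor.squareDodecad.card = 12 := squareDodecad_mem.2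

theorem mem_D_iff {p : GolayPt} : p ∈ Spor.squareDodecad ↔ dMask.testBit (idx p) = true := by
  rw [squareDodecad_eq, mem_toSet]

theorem zero_mem_D : (some 0 : GolayPt) ∈ Spor.squareDodecad :=
  mem_D_iff.2 (by decide +kernel)

theorem mem_M12_iff {g : Equiv.Perm GolayPt} :
    g ∈ Spor.M12 ↔ g ∈ M24 ∧ g • Spor.squareDodecad = Spor.squareDodecad := Iff.rfl

theorem mem_M11_iff {g : Equiv.Perm GolayPt} :
    g ∈ Spor.M11 ↔ g ∈ Spor.M12 ∧ g (some 0) = some 0 := by
  rw [Spor.M11, Subgroup.mem_inf, MulAction.mem_stabilizer_iff, Equiv.Perm.smul_def]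

theorem apply_mem_D {g : Equiv.Perm GolayPt} (hg : g ∈ Spor.M12) (p : GolayPt) :
    g p ∈ Spor.squareDodecad ↔ p ∈ Spor.squareDodecad :=
  apply_mem_iff_of_smul_eq (mem_M12_iff.1 hg).2 p

/-- A table of an element of M₁₂. -/
def ok12 (l : List ℕ) : Bool := isPermTab l && checkAut l && maps l dMask dMask

/-- A table of an element of M₁₁. -/
def ok11 (l : List ℕ) : Bool := ok12 l && l.getD 0 0 == 0

theorem exists_M12 {l : List ℕ} (h : ok12 l = true) : ∃ g ∈ Spor.M12, Tab g l := by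
  simp only [ok12, Bool.and_eq_true] at h
  refine ⟨permOf l h.1.1, mem_M12_iff.2 ⟨(tab_permOf _).mem_M24 h.1.2, ?_⟩, tab_permOf _⟩
  rw [squareDodecad_eq, (tab_permOf _).smul_toSet h.2]

theorem pt_zero : pt 0 = some 0 := by decide +kernel

theorem Tab.apply_pt {σ : Equiv.Perm GolayPt} {l : List ℕ} (h : Tab σ l) {i j : ℕ} (hi : i < 24)
    (e : l.getD i 0 = j) : σ (pt i) = pt j := by
  rw [h.apply, idx_pt hi, e]

theorem exists_M11 {l : List ℕ} (h : ok11 l = true) : ∃ g ∈ Spor.M11, Tab g l := by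
  simp only [ok11, Bool.and_eq_true, beq_iff_eq] at h
  obtain ⟨g, hg, ht⟩ := exists_M12 h.1
  refine ⟨g, mem_M11_iff.2 ⟨hg, ?_⟩, ht⟩
  rw [← pt_zero]
  exact ht.apply_pt (by norm_num) h.2

/-- The pointwise stabiliser in M₁₂ of the points 0, …, i - 1. -/
def fix12 : ℕ → Subgroup (Equiv.Perm GolayPt)
  | 0 => Spor.M12
  | i + 1 => fix12 i ⊓ MulAction.stabilizer (Equiv.Perm GolayPt) (pt i)

theorem mem_fix12 {g : Equiv.Perm GolayPt} :
    ∀ {i : ℕ}, g ∈ fix12 i ↔ g ∈ Spor.M12 ∧ ∀ j < i, g (pt j) = pt j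
  | 0 => by simp [fix12]
  | i + 1 => by
    rw [fix12, Subgroup.mem_inf, mem_fix12, MulAction.mem_stabilizer_iff, Equiv.Perm.smul_def]
    constructor
    · rintro ⟨⟨h1, h2⟩, h3⟩
      exact ⟨h1, fun j hj => (Nat.lt_succ_iff_lt_or_eq.1 hj).elim (h2 j) (fun e => e ▸ h3)⟩
    · rintro ⟨h1, h2⟩
      exact ⟨⟨h1, fun j hj => h2 j (Nat.lt_succ_of_lt hj)⟩, h2 i (Nat.lt_succ_self i)⟩

theorem M11_eq : Spor.M11 = fix12 1 := by
  rw [fix12, fix12, Spor.M11, pt_zero]

theorem exists_tab_fix_five {h : Equiv.Perm GolayPt} (hh : h ∈ fixUpTo M24 5) :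
    ∃ a ∈ reps24.getD 5 [], ∃ b ∈ reps24.getD 6 [],
      Tab h (comp ((evalSLP gens24 prog24).getD a.2 idTab) ((evalSLP gens24 prog24).getD b.2 idTab)) := by
  obtain ⟨k5, hk5, h5, hh5, t5, e5⟩ := transversal_tab (Or.inl rfl) (orbit_subset (by norm_num) hh)
  have hg6 : h5⁻¹ * h ∈ fixUpTo M24 6 := by
    obtain ⟨m1, m2⟩ := mem_fixUpTo.1 hh5
    obtain ⟨n1, n2⟩ := mem_fixUpTo.1 hh
    refine mem_fixUpTo.2 ⟨M24.mul_mem (M24.inv_mem m1) n1, fun j hj => ?_⟩
    rw [Equiv.Perm.mul_apply, Equiv.Perm.coe_inv, Equiv.symm_apply_eq]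
    rcases Nat.lt_succ_iff_lt_or_eq.1 hj with hj | rfl
    · rw [n2 j hj, m2 j hj]
    · exact (idx_injective e5).symm
  obtain ⟨k6, hk6, h6, hh6, t6, e6⟩ := transversal_tab (Or.inr rfl) (orbit_subset (by norm_num) hg6)
  have hg7 : h6⁻¹ * (h5⁻¹ * h) ∈ fixUpTo M24 7 := by
    obtain ⟨m1, m2⟩ := mem_fixUpTo.1 hh6
    obtain ⟨n1, n2⟩ := mem_fixUpTo.1 hg6
    refine mem_fixUpTo.2 ⟨M24.mul_mem (M24.inv_mem m1) n1, fun j hj => ?_⟩
    rw [Equiv.Perm.mul_apply, Equiv.Perm.coe_inv, Equiv.symm_apply_eq]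
    rcases Nat.lt_succ_iff_lt_or_eq.1 hj with hj | rfl
    · rw [n2 j hj, m2 j hj]
    · exact (idx_injective e6).symm
  rw [fixUpTo_seven, Subgroup.mem_bot, inv_mul_eq_one, eq_inv_mul_iff_mul_eq] at hg7
  exact ⟨_, hk5, _, hk6, hg7 ▸ t5.mul t6⟩

theorem five_facts : (checkAut toBaseTab = true ∧ isPermTab toBaseTab = true ∧
    maps toBaseTab preMask dMask = true) ∧
    (∀ j : Fin 5, toBaseTab.getD (baseN.getD j.val 0) 0 = j.val) ∧
    ∀ a ∈ reps24.getD 5 [], ∀ b ∈ reps24.getD 6 [],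
      maps (comp ((evalSLP gens24 prog24).getD a.2 idTab) ((evalSLP gens24 prog24).getD b.2 idTab))
          preMask preMask = true →
        comp ((evalSLP gens24 prog24).getD a.2 idTab) ((evalSLP gens24 prog24).getD b.2 idTab) =
          idTab := by
  decide +kernel

theorem fix12_five : fix12 5 = ⊥ := by
  rw [eq_bot_iff]
  intro g hg
  obtain ⟨hg12, hfix⟩ := mem_fix12.1 hg
  obtain ⟨hg24, hgD⟩ := mem_M12_iff.1 hg12
  obtain ⟨⟨hc, hp, hm⟩, hbase, hcomp⟩ := five_facts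
  set a := permOf toBaseTab hp with hadef
  have ta : Tab a toBaseTab := tab_permOf _
  have ha : a ∈ M24 := ta.mem_M24 hc
  have hj : ∀ j < 5, a (bp j) = pt j := fun j hj => by
    rw [ta.apply, idx_bp]; exact congrArg pt (hbase ⟨j, hj⟩)
  have hh : a⁻¹ * g * a ∈ fixUpTo M24 5 := by
    refine mem_fixUpTo.2 ⟨M24.mul_mem (M24.mul_mem (M24.inv_mem ha) hg24) ha, fun j hj5 => ?_⟩
    rw [Equiv.Perm.mul_apply, Equiv.Perm.mul_apply, hj j hj5, hfix j hj5, ← hj j hj5,
      Equiv.Perm.coe_inv, Equiv.symm_apply_apply]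
  have hpre : (a⁻¹ * g * a) • toSet preMask = toSet preMask := by
    rw [mul_smul, mul_smul, ta.smul_toSet hm, ← squareDodecad_eq, hgD, squareDodecad_eq,
      inv_smul_eq_iff, ta.smul_toSet hm]
  obtain ⟨x, hx, y, hy, ht⟩ := exists_tab_fix_five hh
  have hid := hcomp x hx y hy (by
    simp only [maps, List.all_eq_true, List.mem_range, beq_iff_eq]
    intro i hi
    rw [← ht i hi]
    refine Bool.eq_iff_iff.2 ?_
    rw [← mem_toSet, apply_mem_iff_of_smul_eq hpre, mem_toSet, idx_pt hi])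
  rw [hid] at ht
  rw [Subgroup.mem_bot]
  calc g = a * (a⁻¹ * g * a) * a⁻¹ := by group
    _ = 1 := by rw [tab_unique ht tab_one]; group

theorem dList_facts :
    (∀ i : Fin 5, ∀ x : Fin 24, dMask.testBit x.val = true → (∀ j : Fin i.val, x.val ≠ j.val) →
      x.val ∈ dList.drop i.val) ∧
    dList.Nodup ∧ (∀ x ∈ dList, x < 24) ∧ (∀ j : Fin 5, dMask.testBit j.val = true) := by
  decide +kernel

theorem pt_mem_D {j : ℕ} (hj : j < 5) : pt j ∈ Spor.squareDodecad :=
  mem_D_iff.2 (by rw [idx_pt (by omega)]; exact dList_facts.2.2.2 ⟨j, hj⟩)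

theorem pt_inj {i j : ℕ} (hi : i < 24) (hj : j < 24) (h : pt i = pt j) : i = j := by
  rw [← idx_pt hi, h, idx_pt hj]

theorem orbit12_subset {i : ℕ} (hi : i < 5) {g : Equiv.Perm GolayPt} (hg : g ∈ fix12 i) :
    idx (g (pt i)) ∈ dList.drop i := by
  obtain ⟨hg1, hg2⟩ := mem_fix12.1 hg
  refine dList_facts.1 ⟨i, hi⟩ ⟨_, idx_lt _⟩ (mem_D_iff.1 ((apply_mem_D hg1 _).2 (pt_mem_D hi)))
    fun ⟨j, hj⟩ h => ?_
  have hj' : j < i := hj
  have h2 : g (pt i) = pt j := by rw [← pt_idx (g (pt i))]; exact congrArg pt h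
  rw [← hg2 j hj'] at h2
  exact absurd (pt_inj (by omega) (by omega) (g.injective h2)) (Nat.ne_of_gt hj')

/-- Transversals of the chain of M₁₂ below level `lo`, as entries of `tabs`. -/
def repsCheck12 (tabs : List (List ℕ)) : ℕ → List (List (ℕ × ℕ)) → Bool
  | lo, [] => lo == 5
  | lo, R :: Rs => (R.map Prod.fst == dList.drop lo) &&
      R.all (fun xk => (tabs.getD xk.2 idTab).getD lo 0 == xk.1 &&
        (List.range lo).all fun j => (tabs.getD xk.2 idTab).getD j 0 == j) &&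
      repsCheck12 tabs (lo + 1) Rs

theorem fix12_le_of_repsCheck {H : Subgroup (Equiv.Perm GolayPt)} (hH : H ≤ Spor.M12)
    {tabs : List (List ℕ)} (htabs : ∀ k, ∃ g ∈ H, Tab g (tabs.getD k idTab)) :
    ∀ (Rs : List (List (ℕ × ℕ))) (lo : ℕ), repsCheck12 tabs lo Rs = true →
      (fix12 lo ≤ H ∧ ∀ i, lo ≤ i → i < 5 → ∀ x ∈ dList.drop i,
        ∃ h ∈ fix12 i, h ∈ H ∧ h (pt i) = pt x)
  | [], lo, hc => by
    rw [repsCheck12, beq_iff_eq] at hc
    subst hc
    exact ⟨by rw [fix12_five]; exact bot_le,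
      fun i h1 h2 => absurd (lt_of_le_of_lt h1 h2) (lt_irrefl _)⟩
  | R :: Rs, lo, hc => by
    simp only [repsCheck12, Bool.and_eq_true, beq_iff_eq, List.all_eq_true, List.mem_range] at hc
    obtain ⟨⟨hR, hall⟩, hrest⟩ := hc
    obtain ⟨ih1, ih2⟩ := fix12_le_of_repsCheck hH htabs Rs (lo + 1) hrest
    have hlvl : lo < 5 → ∀ x ∈ dList.drop lo, ∃ h ∈ fix12 lo, h ∈ H ∧ h (pt lo) = pt x := by
      intro hlo x hx
      rw [← hR, List.mem_map] at hx
      obtain ⟨xk, hxk, rfl⟩ := hx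
      obtain ⟨h1, h2⟩ := hall xk hxk
      obtain ⟨g, hg, hgt⟩ := htabs xk.2
      exact ⟨g, mem_fix12.2 ⟨hH hg, fun j hj => hgt.apply_pt (by omega) (h2 j hj)⟩, hg,
        hgt.apply_pt (by omega) h1⟩
    refine ⟨fun g hg => ?_, fun i h1 h2 => ?_⟩
    · rcases lt_or_ge lo 5 with hlo | hlo
      · obtain ⟨h, hh, hhH, hhx⟩ := hlvl hlo _ (orbit12_subset hlo hg)
        rw [pt_idx] at hhx
        obtain ⟨hh12, hhfix⟩ := mem_fix12.1 hh
        obtain ⟨hg12, hgfix⟩ := mem_fix12.1 hg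
        have hmem : h⁻¹ * g ∈ fix12 (lo + 1) := by
          refine mem_fix12.2 ⟨Spor.M12.mul_mem (Spor.M12.inv_mem hh12) hg12, fun j hj => ?_⟩
          rw [Equiv.Perm.mul_apply, Equiv.Perm.coe_inv, Equiv.symm_apply_eq]
          rcases Nat.lt_succ_iff_lt_or_eq.1 hj with hj | rfl
          · rw [hgfix j hj, hhfix j hj]
          · exact hhx.symm
        have := H.mul_mem hhH (ih1 hmem)
        rwa [← mul_assoc, mul_inv_cancel, one_mul] at this
      · obtain ⟨hg12, hgfix⟩ := mem_fix12.1 hg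
        have : g ∈ fix12 5 := mem_fix12.2 ⟨hg12, fun j hj => hgfix j (lt_of_lt_of_le hj hlo)⟩
        rw [fix12_five, Subgroup.mem_bot] at this
        rw [this]
        exact H.one_mem
    · rcases eq_or_lt_of_le h1 with rfl | h1
      · exact hlvl h2
      · exact ih2 i h1 h2

theorem gens_ok :
    (gens12.all ok12 && repsCheck12 (evalSLP (gens12 ++ [idTab]) prog12) 0 reps12) = true ∧
    (gens11.all ok11 && repsCheck12 (evalSLP (gens11 ++ [idTab]) prog11) 1 reps11) = true ∧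
    gens11.all (fun l => powTab l 11 == idTab && l.getD 1 0 != 1) = true := by
  decide +kernel

/-- The chosen generators of M₁₁. -/
def genSet11 : Set (Equiv.Perm GolayPt) := {g | g ∈ Spor.M11 ∧ ∃ l ∈ gens11, Tab g l}

theorem orderOf_genSet11 {g : Equiv.Perm GolayPt} (hg : g ∈ genSet11) : orderOf g = 11 := by
  obtain ⟨-, l, hl, ht⟩ := hg
  have h := List.all_eq_true.1 gens_ok.2.2 l hl
  simp only [Bool.and_eq_true, beq_iff_eq, bne_iff_ne] at h
  exact ht.orderOf_eq (by norm_num) (Or.inl h.2) h.1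

theorem closure_genSet11 : Subgroup.closure genSet11 = Spor.M11 := by
  have hle : Subgroup.closure genSet11 ≤ Spor.M11 := (Subgroup.closure_le _).2 fun g hg => hg.1
  refine le_antisymm hle ?_
  have hc := gens_ok.2.1
  simp only [Bool.and_eq_true, List.all_eq_true] at hc
  rw [M11_eq]
  refine (fix12_le_of_repsCheck (hle.trans fun g hg => (mem_M11_iff.1 hg).1)
    (evalSLP_mem _ _ _ fun l hl => ?_) _ 1 hc.2).1
  rcases List.mem_append.1 hl with hl | hl
  · obtain ⟨g, hg, ht⟩ := exists_M11 (hc.1 l hl)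
    exact ⟨g, Subgroup.subset_closure ⟨hg, l, hl, ht⟩, ht⟩
  · rw [List.mem_singleton] at hl
    exact ⟨1, one_mem _, hl ▸ tab_one⟩

theorem exists_transversal12 {i : ℕ} (hi : i < 5) {x : ℕ} (hx : x ∈ dList.drop i) :
    ∃ h ∈ fix12 i, h (pt i) = pt x := by
  have hc := gens_ok.1
  simp only [Bool.and_eq_true, List.all_eq_true] at hc
  obtain ⟨h, h1, -, h2⟩ := (fix12_le_of_repsCheck (H := Spor.M12) le_rfl
    (evalSLP_mem _ _ _ fun l hl => by
      rcases List.mem_append.1 hl with hl | hl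
      · exact exists_M12 (hc.1 l hl)
      · rw [List.mem_singleton] at hl
        exact ⟨1, one_mem _, hl ▸ tab_one⟩) _ 0 hc.2).2 i (Nat.zero_le i) hi x hx
  exact ⟨h, h1, h2⟩

theorem orbF_fix12 {i : ℕ} (hi : i < 5) :
    (orbF (fix12 i) (pt i)).card = 12 - i := by
  have h : orbF (fix12 i) (pt i) = (dList.drop i).toFinset.image pt := by
    ext p
    simp only [mem_orbF, Finset.mem_image, List.mem_toFinset]
    constructor
    · rintro ⟨g, hg, rfl⟩
      exact ⟨_, orbit12_subset hi hg, pt_idx _⟩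
    · rintro ⟨x, hx, rfl⟩
      exact exists_transversal12 hi hx
  rw [h, Finset.card_image_of_injOn, List.toFinset_card_of_nodup (dList_facts.2.1.sublist
    (List.drop_sublist _ _)), List.length_drop]
  · rfl
  · intro a ha b hb hab
    rw [List.coe_toFinset] at ha hb
    exact pt_inj (dList_facts.2.2.1 a (List.mem_of_mem_drop ha))
      (dList_facts.2.2.1 b (List.mem_of_mem_drop hb)) hab

theorem card_fix12 {i : ℕ} (hi : i < 5) :
    Nat.card (fix12 i) = (12 - i) * Nat.card (fix12 (i + 1)) := by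
  rw [card_eq_orbF_mul (fix12 i) (pt i), orbF_fix12 hi]
  rfl

theorem card_M11 : Nat.card Spor.M11 = 7920 := by
  rw [M11_eq, card_fix12 (by norm_num), card_fix12 (by norm_num), card_fix12 (by norm_num),
    card_fix12 (by norm_num), fix12_five, Subgroup.card_bot]

theorem card_M12 : Nat.card Spor.M12 = 95040 := by
  rw [show Spor.M12 = fix12 0 from rfl, card_fix12 (by norm_num), ← M11_eq, card_M11]

theorem exists_map12 (e : ℕ → GolayPt) : ∀ n : ℕ, n ≤ 5 →
    (∀ j < n, e j ∈ Spor.squareDodecad) → (∀ j k, j < n → k < n → e j = e k → j = k) →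
    ∃ g ∈ Spor.M12, ∀ j < n, g (pt j) = e j
  | 0, _, _, _ => ⟨1, Spor.M12.one_mem, fun j hj => absurd hj (Nat.not_lt_zero j)⟩
  | n + 1, hn, hmem, hinj => by
    obtain ⟨g, hg, hgj⟩ := exists_map12 e n (by omega) (fun j hj => hmem j (by omega))
      fun j k hj hk => hinj j k (by omega) (by omega)
    have hx : idx (g⁻¹ (e n)) ∈ dList.drop n := by
      refine dList_facts.1 ⟨n, by omega⟩ ⟨_, idx_lt _⟩
        (mem_D_iff.1 ((apply_mem_D (Spor.M12.inv_mem hg) _).2 (hmem n (by omega)))) fun ⟨j, hj⟩ h => ?_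
      have hj' : j < n := hj
      have h2 : g⁻¹ (e n) = pt j := by rw [← pt_idx (g⁻¹ (e n))]; exact congrArg pt h
      rw [Equiv.Perm.coe_inv, Equiv.symm_apply_eq, hgj j hj'] at h2
      exact absurd (hinj n j (by omega) (by omega) h2) (Nat.ne_of_gt hj')
    obtain ⟨h, hh, hhx⟩ := exists_transversal12 (by omega) hx
    obtain ⟨h1, h2⟩ := mem_fix12.1 hh
    refine ⟨g * h, Spor.M12.mul_mem hg h1, fun j hj => ?_⟩
    rw [Equiv.Perm.mul_apply]
    rcases Nat.lt_succ_iff_lt_or_eq.1 hj with hj | rfl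
    · rw [h2 j hj, hgj j hj]
    · rw [hhx, pt_idx, Equiv.Perm.coe_inv, Equiv.apply_symm_apply]

/-- M₁₂ takes any five or fewer points of the dodecad to any others. -/
theorem exists_map12' {n : ℕ} (hn : n ≤ 5) (a b : Fin n → GolayPt) (ha : Function.Injective a)
    (hb : Function.Injective b) (haD : ∀ i, a i ∈ Spor.squareDodecad)
    (hbD : ∀ i, b i ∈ Spor.squareDodecad) : ∃ g ∈ Spor.M12, ∀ i, g (a i) = b i := by
  have key : ∀ a : Fin n → GolayPt, Function.Injective a → (∀ i, a i ∈ Spor.squareDodecad) →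
      ∃ g ∈ Spor.M12, ∀ i : Fin n, g (pt i.val) = a i := by
    intro a ha haD
    obtain ⟨g, hg, hgj⟩ := exists_map12 (fun j => if h : j < n then a ⟨j, h⟩ else none) n hn
      (fun j hj => by rw [dif_pos hj]; exact haD _) fun j k hj hk hjk => by
        rw [dif_pos hj, dif_pos hk] at hjk
        exact congrArg Fin.val (ha hjk)
    exact ⟨g, hg, fun i => by rw [hgj i.val i.isLt, dif_pos i.isLt]⟩
  obtain ⟨g, hg, hga⟩ := key a ha haD
  obtain ⟨h, hh, hhb⟩ := key b hb hbD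
  refine ⟨h * g⁻¹, Spor.M12.mul_mem hh (Spor.M12.inv_mem hg), fun i => ?_⟩
  rw [Equiv.Perm.mul_apply, ← hga i, Equiv.Perm.coe_inv, Equiv.symm_apply_apply, hhb]

theorem eq12_of_five {g h : Equiv.Perm GolayPt} (hg : g ∈ Spor.M12) (hh : h ∈ Spor.M12)
    {s : Finset GolayPt} (hs : s ⊆ Spor.squareDodecad) (h5 : 5 ≤ s.card)
    (hgh : ∀ p ∈ s, g p = h p) : g = h := by
  obtain ⟨t, ht, htc⟩ := Finset.exists_subset_card_eq h5
  obtain ⟨a, ha, haj⟩ := exists_map12'
    (n := 5) le_rfl (fun i => pt i.val) (fun i => ((t.equivFinOfCardEq htc).symm i : GolayPt))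
    (fun i j e => Fin.ext (pt_inj (by omega) (by omega) e))
    (fun i j e => (t.equivFinOfCardEq htc).symm.injective (Subtype.ext e))
    (fun i => pt_mem_D i.isLt) (fun i => hs (ht (Finset.coe_mem _)))
  have hm : a⁻¹ * (h⁻¹ * g) * a ∈ fix12 5 := by
    refine mem_fix12.2 ⟨Spor.M12.mul_mem (Spor.M12.mul_mem (Spor.M12.inv_mem ha)
      (Spor.M12.mul_mem (Spor.M12.inv_mem hh) hg)) ha, fun j hj => ?_⟩
    have hm := hgh _ (ht (Finset.coe_mem ((t.equivFinOfCardEq htc).symm ⟨j, hj⟩)))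
    rw [← haj ⟨j, hj⟩] at hm
    simp only at hm
    simp only [Equiv.Perm.mul_apply, hm, Equiv.Perm.coe_inv, Equiv.symm_apply_apply]
  rw [fix12_five, Subgroup.mem_bot] at hm
  have : h⁻¹ * g = 1 := by
    calc h⁻¹ * g = a * (a⁻¹ * (h⁻¹ * g) * a) * a⁻¹ := by group
      _ = 1 := by rw [hm]; group
  exact (inv_mul_eq_one.1 this).symm

theorem eq12_of_D {g h : Equiv.Perm GolayPt} (hg : g ∈ Spor.M12) (hh : h ∈ Spor.M12)
    (hgh : ∀ p ∈ Spor.squareDodecad, g p = h p) : g = h :=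
  eq12_of_five hg hh subset_rfl (by rw [card_squareDodecad]; norm_num) hgh

/-- A non-identity element of M₁₂ fixes at most four points of the dodecad. -/
theorem card_fixed12_le {g : Equiv.Perm GolayPt} (hg : g ∈ Spor.M12) (h1 : g ≠ 1) :
    (Spor.squareDodecad.filter fun p => g p = p).card ≤ 4 := by
  by_contra h
  exact h1 (eq12_of_five (s := Spor.squareDodecad.filter fun p => g p = p) hg Spor.M12.one_mem
    (Finset.filter_subset _ _) (by omega)
    fun p hp => (Finset.mem_filter.1 hp).2)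

theorem tri_facts :
    triTabs.all (fun L => L.all ok11) = true ∧
    (∀ j : Fin 3, dMask.testBit (triBase.getD j.val 0) = false ∧ triBase.getD j.val 0 < 24) ∧
    (∀ i : Fin 3, ∀ j : Fin 3, triBase.getD i.val 0 = triBase.getD j.val 0 → i = j) ∧
    ∀ k : Fin 3, ∀ x : Fin 24, dMask.testBit x.val = false →
      (∀ j : Fin k.val, x.val ≠ triBase.getD j.val 0) →
      ∃ l ∈ triTabs.getD k.val [], l.getD (triBase.getD k.val 0) 0 = x.val ∧
        ∀ j : Fin k.val, l.getD (triBase.getD j.val 0) 0 = triBase.getD j.val 0 := by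
  decide +kernel

/-- M₁₁ takes the base points of the complement to any three points of it. -/
theorem exists_mapC (e : ℕ → GolayPt) : ∀ n : ℕ, n ≤ 3 →
    (∀ j < n, e j ∉ Spor.squareDodecad) → (∀ j k, j < n → k < n → e j = e k → j = k) →
    ∃ g ∈ Spor.M11, ∀ j < n, g (pt (triBase.getD j 0)) = e j
  | 0, _, _, _ => ⟨1, Spor.M11.one_mem, fun j hj => absurd hj (Nat.not_lt_zero j)⟩
  | n + 1, hn, hmem, hinj => by
    obtain ⟨g, hg, hgj⟩ := exists_mapC e n (by omega) (fun j hj => hmem j (by omega))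
      fun j k hj hk => hinj j k (by omega) (by omega)
    obtain ⟨hok, hb, -, htr⟩ := tri_facts
    have hc : g⁻¹ (e n) ∉ Spor.squareDodecad := fun h => hmem n (by omega)
      ((apply_mem_D (Spor.M12.inv_mem (mem_M11_iff.1 hg).1) _).1 h)
    rw [mem_D_iff, Bool.not_eq_true] at hc
    obtain ⟨l, hl, hlk, hlj⟩ := htr ⟨n, by omega⟩ ⟨_, idx_lt _⟩ hc fun ⟨j, hj⟩ h => by
      have hj' : j < n := hj
      have h2 : g⁻¹ (e n) = pt (triBase.getD j 0) := by
        rw [← pt_idx (g⁻¹ (e n))]; exact congrArg pt h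
      rw [Equiv.Perm.coe_inv, Equiv.symm_apply_eq, hgj j hj'] at h2
      exact absurd (hinj n j (by omega) (by omega) h2) (Nat.ne_of_gt hj')
    have hlok : ok11 l = true := by
      have hL : triTabs.getD n [] ∈ triTabs := by
        rw [List.getD_eq_getElem _ _ (show n < triTabs.length from (show n < 3 by omega))]
        exact List.getElem_mem _
      exact List.all_eq_true.1 (List.all_eq_true.1 hok _ hL) l hl
    obtain ⟨h, hh, ht⟩ := exists_M11 hlok
    refine ⟨g * h, Spor.M11.mul_mem hg hh, fun j hj => ?_⟩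
    rw [Equiv.Perm.mul_apply]
    rcases Nat.lt_succ_iff_lt_or_eq.1 hj with hj | rfl
    · rw [ht.apply_pt (hb ⟨j, by omega⟩).2 (hlj ⟨j, hj⟩), hgj j hj]
    · rw [ht.apply_pt (hb ⟨j, by omega⟩).2 hlk, pt_idx, Equiv.Perm.coe_inv, Equiv.apply_symm_apply]

theorem exists_mapC' (a b : Fin 3 → GolayPt) (ha : Function.Injective a)
    (hb : Function.Injective b) (haD : ∀ i, a i ∉ Spor.squareDodecad)
    (hbD : ∀ i, b i ∉ Spor.squareDodecad) : ∃ g ∈ Spor.M11, ∀ i, g (a i) = b i := by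
  have key : ∀ a : Fin 3 → GolayPt, Function.Injective a → (∀ i, a i ∉ Spor.squareDodecad) →
      ∃ g ∈ Spor.M11, ∀ i : Fin 3, g (pt (triBase.getD i.val 0)) = a i := by
    intro a ha haD
    obtain ⟨g, hg, hgj⟩ := exists_mapC (fun j => if h : j < 3 then a ⟨j, h⟩ else none) 3 le_rfl
      (fun j hj => by rw [dif_pos hj]; exact haD _) fun j k hj hk hjk => by
        rw [dif_pos hj, dif_pos hk] at hjk
        exact congrArg Fin.val (ha hjk)
    exact ⟨g, hg, fun i => by rw [hgj i.val i.isLt, dif_pos i.isLt]⟩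
  obtain ⟨g, hg, hga⟩ := key a ha haD
  obtain ⟨h, hh, hhb⟩ := key b hb hbD
  refine ⟨h * g⁻¹, Spor.M11.mul_mem hh (Spor.M11.inv_mem hg), fun i => ?_⟩
  rw [Equiv.Perm.mul_apply, ← hga i, Equiv.Perm.coe_inv, Equiv.symm_apply_apply, hhb]

theorem exists_map_compl {p q : GolayPt} (hp : p ∉ Spor.squareDodecad)
    (hq : q ∉ Spor.squareDodecad) : ∃ g ∈ Spor.M11, g p = q := by
  obtain ⟨a, ha, haj⟩ := exists_mapC (fun _ => p) 1 (by norm_num) (fun _ _ => hp) fun j k _ _ _ => by omega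
  obtain ⟨b, hb, hbj⟩ := exists_mapC (fun _ => q) 1 (by norm_num) (fun _ _ => hq) fun j k _ _ _ => by omega
  refine ⟨b * a⁻¹, Spor.M11.mul_mem hb (Spor.M11.inv_mem ha), ?_⟩
  rw [Equiv.Perm.mul_apply, ← haj 0 (by norm_num), Equiv.Perm.coe_inv, Equiv.symm_apply_apply,
    hbj 0 (by norm_num)]

theorem exists_conj12 {d : Finset GolayPt} (hd : d ∈ dodecads) :
    ∃ a ∈ M24, a • Spor.squareDodecad = d := dodecad_transitive squareDodecad_mem hd

theorem exists_conj11 {d : Finset GolayPt} (hd : d ∈ dodecads) {p : GolayPt} (hp : p ∈ d) :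
    ∃ a ∈ M24, a • Spor.squareDodecad = d ∧ a (some 0) = p := by
  obtain ⟨a, ha, had⟩ := exists_conj12 hd
  have hq : a⁻¹ p ∈ Spor.squareDodecad := by
    rw [← Equiv.Perm.smul_def, Finset.inv_smul_mem_iff, had]
    exact hp
  obtain ⟨b, hb, hbj⟩ := exists_map12 (fun _ => a⁻¹ p) 1 (by norm_num) (fun _ _ => hq)
    fun j k _ _ _ => by omega
  obtain ⟨hb24, hbD⟩ := mem_M12_iff.1 hb
  refine ⟨a * b, M24.mul_mem ha hb24, by rw [mul_smul, hbD, had], ?_⟩
  rw [Equiv.Perm.mul_apply, ← pt_zero, hbj 0 (by norm_num), Equiv.Perm.coe_inv,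
    Equiv.apply_symm_apply]

theorem mem_stab_dodecad_iff {a : Equiv.Perm GolayPt} (ha : a ∈ M24) {d : Finset GolayPt}
    (had : a • Spor.squareDodecad = d) (g : M24) :
    g ∈ MulAction.stabilizer M24 d ↔ a⁻¹ * g.1 * a ∈ Spor.M12 := by
  rw [MulAction.mem_stabilizer_iff, mem_M12_iff, show g • d = g.1 • d from rfl,
    and_iff_right (M24.mul_mem (M24.mul_mem (M24.inv_mem ha) g.2) ha), mul_smul, mul_smul, had,
    inv_smul_eq_iff, had]

theorem mem_stab_pair_iff {a : Equiv.Perm GolayPt} (ha : a ∈ M24) {d : Finset GolayPt}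
    (had : a • Spor.squareDodecad = d) {p : GolayPt} (hap : a (some 0) = p) (g : M24) :
    g ∈ MulAction.stabilizer M24 d ⊓ MulAction.stabilizer M24 p ↔
      a⁻¹ * g.1 * a ∈ Spor.M11 := by
  rw [Subgroup.mem_inf, mem_stab_dodecad_iff ha had, mem_M11_iff,
    MulAction.mem_stabilizer_iff, show g • p = g.1 p from rfl, ← hap, Equiv.Perm.mul_apply,
    Equiv.Perm.mul_apply, Equiv.Perm.coe_inv, Equiv.symm_apply_eq]

/-- Conjugation identifies a dodecad stabiliser with M₁₂. -/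
def stabEquivM12 {a : Equiv.Perm GolayPt} (ha : a ∈ M24) {d : Finset GolayPt}
    (had : a • Spor.squareDodecad = d) : MulAction.stabilizer M24 d ≃* Spor.M12 where
  toFun g := ⟨a⁻¹ * g.1.1 * a, (mem_stab_dodecad_iff ha had g.1).1 g.2⟩
  invFun h := ⟨⟨a * h.1 * a⁻¹, M24.mul_mem (M24.mul_mem ha (mem_M12_iff.1 h.2).1) (M24.inv_mem ha)⟩,
    (mem_stab_dodecad_iff ha had _).2 (by
      show a⁻¹ * (a * h.1 * a⁻¹) * a ∈ Spor.M12
      rw [show a⁻¹ * (a * h.1 * a⁻¹) * a = h.1 by group]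
      exact h.2)⟩
  left_inv g := by ext1; ext1; simp only; group
  right_inv h := by ext1; simp only; group
  map_mul' g g' := by ext1; simp only [Subgroup.coe_mul]; group

/-- Conjugation identifies the stabiliser of a dodecad and a point on it with M₁₁. -/
def stabEquivM11 {a : Equiv.Perm GolayPt} (ha : a ∈ M24) {d : Finset GolayPt}
    (had : a • Spor.squareDodecad = d) {p : GolayPt} (hap : a (some 0) = p) :
    ↥(MulAction.stabilizer M24 d ⊓ MulAction.stabilizer M24 p) ≃* Spor.M11 where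
  toFun g := ⟨a⁻¹ * g.1.1 * a, (mem_stab_pair_iff ha had hap g.1).1 g.2⟩
  invFun h := ⟨⟨a * h.1 * a⁻¹,
      M24.mul_mem (M24.mul_mem ha (mem_M12_iff.1 (mem_M11_iff.1 h.2).1).1) (M24.inv_mem ha)⟩,
    (mem_stab_pair_iff ha had hap _).2 (by
      show a⁻¹ * (a * h.1 * a⁻¹) * a ∈ Spor.M11
      rw [show a⁻¹ * (a * h.1 * a⁻¹) * a = h.1 by group]
      exact h.2)⟩
  left_inv g := by ext1; ext1; simp only; group
  right_inv h := by ext1; simp only; group
  map_mul' g g' := by ext1; simp only [Subgroup.coe_mul]; group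

/-- The dodecad of squares as an invariant set of M₁₂. -/
def dSub : SubMulAction Spor.M12 GolayPt where
  carrier := (Spor.squareDodecad : Set GolayPt)
  smul_mem' g _ hp := Finset.mem_coe.2 ((apply_mem_D g.2 _).2 (Finset.mem_coe.1 hp))

/-- The point 0 of the dodecad of squares. -/
def zeroD : dSub := ⟨some 0, zero_mem_D⟩

theorem card_dSub : Nat.card dSub = 12 := by
  rw [show Nat.card dSub = Nat.card {p // p ∈ Spor.squareDodecad} from rfl,
    Nat.card_eq_finsetCard, card_squareDodecad]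

theorem dSub_five_transitive : MulAction.IsMultiplyPretransitive Spor.M12 dSub 5 := by
  constructor
  intro a b
  obtain ⟨g, hg, hgi⟩ := exists_map12' (n := 5) le_rfl (fun i => (a i : GolayPt))
    (fun i => (b i : GolayPt)) (Subtype.val_injective.comp a.injective)
    (Subtype.val_injective.comp b.injective) (fun i => (a i).2) (fun i => (b i).2)
  exact ⟨⟨g, hg⟩, DFunLike.ext _ _ fun i => Subtype.ext (hgi i)⟩

/-- The stabiliser of 0 in M₁₂ is M₁₁. -/
def zeroStabEquiv : MulAction.stabilizer Spor.M12 zeroD ≃* Spor.M11 where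
  toFun g := ⟨g.1.1, mem_M11_iff.2 ⟨g.1.2, congrArg Subtype.val g.2⟩⟩
  invFun h := ⟨⟨h.1, (mem_M11_iff.1 h.2).1⟩, Subtype.ext (mem_M11_iff.1 h.2).2⟩
  left_inv _ := rfl
  right_inv _ := rfl
  map_mul' _ _ := rfl

theorem isSimpleGroup_M11 : IsSimpleGroup Spor.M11 := by
  refine zeroStabEquiv.isSimpleGroup_congr.1 ?_
  set X := SubMulAction.ofStabilizer Spor.M12 zeroD with hX
  have hXc : Nat.card X = 11 := by
    rw [hX, SubMulAction.nat_card_ofStabilizer_eq, card_dSub]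
  have hP : MulAction.IsMultiplyPretransitive Spor.M12 dSub 5 := dSub_five_transitive
  have : MulAction.IsMultiplyPretransitive Spor.M12 dSub 1 :=
    MulAction.isMultiplyPretransitive_of_le (n := 5) (by norm_num) (by rw [card_dSub]; norm_num)
  have : MulAction.IsPretransitive Spor.M12 dSub := MulAction.is_one_pretransitive_iff.1 this
  have h4 : MulAction.IsMultiplyPretransitive (MulAction.stabilizer Spor.M12 zeroD) X 4 :=
    SubMulAction.ofStabilizer.isMultiplyPretransitive.1 hP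
  have : MulAction.IsPreprimitive (MulAction.stabilizer Spor.M12 zeroD) X :=
    MulAction.isPreprimitive_of_is_two_pretransitive
      (MulAction.isMultiplyPretransitive_of_le (n := 4) (by norm_num) (by rw [hXc]; norm_num))
  have : Nontrivial X := Finite.one_lt_card_iff_nontrivial.1 (by rw [hXc]; norm_num)
  have : FaithfulSMul (MulAction.stabilizer Spor.M12 zeroD) X := ⟨fun {g h} H => by
    refine Subtype.ext (Subtype.ext (eq12_of_D g.1.2 h.1.2 fun x hx => ?_))
    by_cases hx0 : (⟨x, hx⟩ : dSub) = zeroD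
    · obtain rfl : x = some 0 := congrArg Subtype.val hx0
      exact (congrArg Subtype.val g.2).trans (congrArg Subtype.val h.2).symm
    · exact congrArg Subtype.val (congrArg Subtype.val (H ⟨⟨x, hx⟩, hx0⟩))⟩
  set f := Spor.M12.subtype.comp (MulAction.stabilizer Spor.M12 zeroD).subtype with hf
  have hfi : Function.Injective f := Spor.M12.subtype_injective.comp (Subgroup.subtype_injective _)
  have : Fact (Nat.Prime 11) := ⟨by norm_num⟩
  refine isSimpleGroup_of_primitive_prime (X := X) 11 (by rw [hXc])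
    (by rw [Nat.card_congr zeroStabEquiv.toEquiv, card_M11]; norm_num) (f ⁻¹' genSet11) ?_ ?_
  · intro s hs
    rw [← orderOf_injective f hfi s]
    exact orderOf_genSet11 hs
  · refine closure_preimage_eq_top f hfi _ (fun g hg => ⟨zeroStabEquiv.symm ⟨g, hg.1⟩, rfl⟩) ?_
    rintro _ ⟨g, rfl⟩
    rw [closure_genSet11]
    exact (zeroStabEquiv g).2

theorem isSimpleGroup_M12 : IsSimpleGroup Spor.M12 := by
  have hP : MulAction.IsMultiplyPretransitive Spor.M12 dSub 5 := dSub_five_transitive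
  have h2 : MulAction.IsMultiplyPretransitive Spor.M12 dSub 2 :=
    MulAction.isMultiplyPretransitive_of_le (n := 5) (by norm_num) (by rw [card_dSub]; norm_num)
  have : Nontrivial dSub := Finite.one_lt_card_iff_nontrivial.1 (by rw [card_dSub]; norm_num)
  have : FaithfulSMul Spor.M12 dSub := ⟨fun {g h} H => Subtype.ext (eq12_of_D g.2 h.2 fun x hx =>
    congrArg Subtype.val (H ⟨x, hx⟩))⟩
  have : IsSimpleGroup (MulAction.stabilizer Spor.M12 zeroD) :=
    zeroStabEquiv.isSimpleGroup_congr.2 isSimpleGroup_M11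
  have : Fact (Nat.Prime 2) := ⟨Nat.prime_two⟩
  have : Fact (Nat.Prime 3) := ⟨Nat.prime_three⟩
  exact isSimpleGroup_of_simple_stabilizer h2 zeroD 2 3 (by norm_num)
    (by rw [card_dSub]; norm_num) (by rw [card_dSub]; norm_num)

theorem prime_dvd_7920 {p : ℕ} (hp : p.Prime) (h : p ∣ 7920) :
    p = 2 ∨ p = 3 ∨ p = 5 ∨ p = 11 := by
  rw [show 7920 = 2 ^ 4 * (3 ^ 2 * (5 * 11)) by norm_num] at h
  rcases hp.dvd_mul.1 h with h | h
  · exact Or.inl ((Nat.prime_dvd_prime_iff_eq hp Nat.prime_two).1 (hp.dvd_of_dvd_pow h))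
  rcases hp.dvd_mul.1 h with h | h
  · exact Or.inr (Or.inl ((Nat.prime_dvd_prime_iff_eq hp Nat.prime_three).1 (hp.dvd_of_dvd_pow h)))
  rcases hp.dvd_mul.1 h with h | h
  · exact Or.inr (Or.inr (Or.inl ((Nat.prime_dvd_prime_iff_eq hp (by norm_num)).1 h)))
  · exact Or.inr (Or.inr (Or.inr ((Nat.prime_dvd_prime_iff_eq hp (by norm_num)).1 h)))

theorem class_facts :
    (ok11 invTab = true ∧ invTab.getD 1 0 = 2 ∧ invTab.getD 2 0 = 1 ∧ invTab.getD 3 0 = 4 ∧
      invTab.getD 4 0 = 3 ∧ ∃ c : Fin 24, dMask.testBit c.val = false ∧ invTab.getD c.val 0 = c.val) ∧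
    cycTabs.all ok11 = true ∧
    (∀ w : Fin 24, dMask.testBit w.val = true → (∀ j : Fin 4, w.val ≠ j.val) →
      ∃ l ∈ cycTabs, l.getD 1 0 = 2 ∧ l.getD 2 0 = 3 ∧ l.getD 3 0 = 1 ∧ l.getD 4 0 = w.val) ∧
    ∀ l ∈ cycTabs, powTab l 3 = idTab →
      ∃ c : Fin 24, dMask.testBit c.val = false ∧ l.getD c.val 0 = c.val := by
  decide +kernel

theorem fixed_of_conj {g a h : Equiv.Perm GolayPt} {l : List ℕ} {c : Fin 24} (ha : a ∈ Spor.M12)
    (hh : a⁻¹ * g * a = h) (ht : Tab h l) (hc : dMask.testBit c.val = false)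
    (hl : l.getD c.val 0 = c.val) : ∃ x, x ∉ Spor.squareDodecad ∧ g x = x := by
  refine ⟨a (pt c.val), fun hx => ?_, ?_⟩
  · rw [apply_mem_D ha, mem_D_iff, idx_pt c.isLt, hc] at hx
    exact Bool.false_ne_true hx
  · rw [show g = a * h * a⁻¹ by rw [← hh]; group]
    simp only [Equiv.Perm.mul_apply, Equiv.Perm.coe_inv, Equiv.symm_apply_apply,
      ht.apply_pt c.isLt hl]

/-- Every element of prime order of M₁₁ fixes a point outside the dodecad. -/
theorem exists_fixed_compl {g : Equiv.Perm GolayPt} (hg : g ∈ Spor.M11) (ho : (orderOf g).Prime) :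
    ∃ x, x ∉ Spor.squareDodecad ∧ g x = x := by
  classical
  obtain ⟨hg12, hg0⟩ := mem_M11_iff.1 hg
  have hdvd : orderOf g ∣ 7920 := by
    rw [← card_M11, ← Subgroup.orderOf_mk g hg]
    exact orderOf_dvd_natCard _
  have hp : Fact (orderOf g).Prime := ⟨ho⟩
  have hgp : g ^ orderOf g = 1 := pow_orderOf_eq_one g
  have hg1 : g ≠ 1 := fun h => ho.one_lt.ne (by rw [h, orderOf_one])
  have hcount : orderOf g = 5 ∨ orderOf g = 11 → ∃ x, x ∉ Spor.squareDodecad ∧ g x = x := by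
    intro h
    have hm := card_modEq_fixed hgp (S := Finset.univ \ Spor.squareDodecad) fun q => by
      simp [apply_mem_D hg12]
    rw [Finset.card_sdiff_of_subset (Finset.subset_univ _), Finset.card_univ, card_golayPt,
      card_squareDodecad] at hm
    by_contra hcon
    push Not at hcon
    have h0 : ((Finset.univ \ Spor.squareDodecad).filter fun q => g q = q) = ∅ :=
      Finset.filter_eq_empty_iff.2 fun q hq => hcon q (Finset.mem_sdiff.1 hq).2
    rw [h0, Finset.card_empty, Nat.modEq_zero_iff_dvd] at hm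
    rcases h with h | h <;> rw [h] at hm <;> omega
  rcases prime_dvd_7920 ho hdvd with h | h | h | h
  · obtain ⟨x, hxD, hx⟩ : ∃ x ∈ Spor.squareDodecad, g x ≠ x := by
      by_contra hcon
      push Not at hcon
      exact hg1 (eq12_of_D hg12 Spor.M12.one_mem hcon)
    have hinv : ∀ q, g (g q) = q := fun q => by
      rw [h] at hgp
      rw [← Equiv.Perm.mul_apply, ← pow_two, hgp, Equiv.Perm.coe_one, id_eq]
    obtain ⟨z, hz, hz'⟩ := Finset.exists_mem_notMem_of_card_lt_card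
      (s := (Spor.squareDodecad.filter fun p => g p = p) ∪ {x, g x}) (t := Spor.squareDodecad) (by
        have h1 := card_fixed12_le hg12 hg1
        have h2 := Finset.card_union_le (Spor.squareDodecad.filter fun p => g p = p) {x, g x}
        have h3 := Finset.card_le_two (a := x) (b := g x)
        rw [card_squareDodecad]
        omega)
    simp only [Finset.mem_union, Finset.mem_filter, Finset.mem_insert, Finset.mem_singleton,
      not_or, not_and] at hz'
    obtain ⟨hzf, hzx, hzgx⟩ := hz'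
    have hzg := hzf hz
    have hne : ∀ q : GolayPt, g q ≠ q → q ≠ some 0 := fun q hq e => hq (e ▸ hg0)
    obtain ⟨a, ha, haj⟩ := exists_map12' (n := 5) le_rfl (fun i => pt i.val)
      ![some 0, x, g x, z, g z] (fun i j e => Fin.ext (pt_inj (by omega) (by omega) e))
      (by
        intro i j e
        have h01 := hne x hx
        have h02 := hne (g x) (fun e => hx (g.injective e))
        have h03 := hne z hzg
        have h04 := hne (g z) (fun e => hzg (g.injective e))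
        have h12 : x ≠ g z := fun e => hzgx (by rw [e, hinv])
        have h24 : g x ≠ g z := fun e => hzx (g.injective e).symm
        fin_cases i <;> fin_cases j <;> first
          | rfl
          | exact absurd e (by first
              | assumption
              | exact Ne.symm h01 | exact Ne.symm h02 | exact Ne.symm h03 | exact Ne.symm h04
              | exact Ne.symm hx | exact Ne.symm hzx | exact Ne.symm hzgx | exact Ne.symm h12
              | exact Ne.symm hzg | exact Ne.symm h24))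
      (fun i => pt_mem_D i.isLt)
      (by
        intro i
        fin_cases i
        exacts [zero_mem_D, hxD, (apply_mem_D hg12 x).2 hxD, hz, (apply_mem_D hg12 z).2 hz])
    obtain ⟨⟨hok, hi1, hi2, hi3, hi4, c, hc, hcl⟩, -⟩ := class_facts
    obtain ⟨w, hw, hwt⟩ := exists_M11 hok
    have a0 : a (pt 0) = some 0 := haj 0
    have a1 : a (pt 1) = x := haj 1
    have a2 : a (pt 2) = g x := haj 2
    have a3 : a (pt 3) = z := haj 3
    have a4 : a (pt 4) = g z := haj 4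
    refine fixed_of_conj ha ?_ hwt hc hcl
    refine eq12_of_five (s := (Finset.range 5).image pt)
      (Spor.M12.mul_mem (Spor.M12.mul_mem (Spor.M12.inv_mem ha) hg12) ha) (mem_M11_iff.1 hw).1
      (fun q hq => ?_) (by decide +kernel) (fun q hq => ?_)
    · obtain ⟨j, hj, rfl⟩ := Finset.mem_image.1 hq
      exact pt_mem_D (Finset.mem_range.1 hj)
    · obtain ⟨j, hj, rfl⟩ := Finset.mem_image.1 hq
      have hj := Finset.mem_range.1 hj
      rw [Equiv.Perm.mul_apply, Equiv.Perm.mul_apply, Equiv.Perm.coe_inv, Equiv.symm_apply_eq]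
      interval_cases j
      · rw [a0, hg0, show w (pt 0) = pt 0 from pt_zero ▸ (mem_M11_iff.1 hw).2, a0]
      · rw [a1, hwt.apply_pt (by norm_num) hi1, a2]
      · rw [a2, hinv, hwt.apply_pt (by norm_num) hi2, a1]
      · rw [a3, hwt.apply_pt (by norm_num) hi3, a4]
      · rw [a4, hinv, hwt.apply_pt (by norm_num) hi4, a3]
  · obtain ⟨x, hxD, hx⟩ : ∃ x ∈ Spor.squareDodecad, g x ≠ x := by
      by_contra hcon
      push Not at hcon
      exact hg1 (eq12_of_D hg12 Spor.M12.one_mem hcon)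
    have hcyc : g (g (g x)) = x := by
      rw [h] at hgp
      rw [← Equiv.Perm.mul_apply, ← Equiv.Perm.mul_apply,
        show g * g * g = g ^ 3 by rw [pow_succ, pow_two], hgp, Equiv.Perm.coe_one, id_eq]
    have hne : ∀ q : GolayPt, g q ≠ q → q ≠ some 0 := fun q hq e => hq (e ▸ hg0)
    have hy : g (g x) ≠ g x := fun e => hx (g.injective e)
    have hz : g (g (g x)) ≠ g (g x) := fun e => hy (g.injective e)
    obtain ⟨a, ha, haj⟩ := exists_map12' (n := 4) (by norm_num) (fun i => pt i.val)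
      ![some 0, x, g x, g (g x)] (fun i j e => Fin.ext (pt_inj (by omega) (by omega) e))
      (by
        intro i j e
        have h01 := hne x hx
        have h02 := hne _ hy
        have h03 := hne _ hz
        rw [hcyc] at hz
        fin_cases i <;> fin_cases j <;> first
          | rfl
          | exact absurd e (by first
              | assumption
              | exact Ne.symm h01 | exact Ne.symm h02 | exact Ne.symm h03
              | exact Ne.symm hx | exact Ne.symm hy | exact Ne.symm hz))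
      (fun i => pt_mem_D (by omega))
      (by
        intro i
        fin_cases i
        exacts [zero_mem_D, hxD, (apply_mem_D hg12 x).2 hxD,
          (apply_mem_D hg12 _).2 ((apply_mem_D hg12 x).2 hxD)])
    have a0 : a (pt 0) = some 0 := haj 0
    have a1 : a (pt 1) = x := haj 1
    have a2 : a (pt 2) = g x := haj 2
    have a3 : a (pt 3) = g (g x) := haj 3
    set k := a⁻¹ * g * a with hk
    have hk12 : k ∈ Spor.M12 := Spor.M12.mul_mem (Spor.M12.mul_mem (Spor.M12.inv_mem ha) hg12) ha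
    have k0 : k (pt 0) = pt 0 := by
      rw [hk, Equiv.Perm.mul_apply, Equiv.Perm.mul_apply, a0, hg0, Equiv.Perm.coe_inv,
        Equiv.symm_apply_eq, a0]
    have k1 : k (pt 1) = pt 2 := by
      rw [hk, Equiv.Perm.mul_apply, Equiv.Perm.mul_apply, a1, Equiv.Perm.coe_inv,
        Equiv.symm_apply_eq, a2]
    have k2 : k (pt 2) = pt 3 := by
      rw [hk, Equiv.Perm.mul_apply, Equiv.Perm.mul_apply, a2, Equiv.Perm.coe_inv,
        Equiv.symm_apply_eq, a3]
    have k3 : k (pt 3) = pt 1 := by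
      rw [hk, Equiv.Perm.mul_apply, Equiv.Perm.mul_apply, a3, hcyc, Equiv.Perm.coe_inv,
        Equiv.symm_apply_eq, a1]
    obtain ⟨-, hoks, hcases, hfix⟩ := class_facts
    obtain ⟨l, hl, l1, l2, l3, l4⟩ := hcases ⟨idx (k (pt 4)), idx_lt _⟩
      (mem_D_iff.1 ((apply_mem_D hk12 _).2 (pt_mem_D (by norm_num)))) fun ⟨j, hj⟩ e => by
        have e' : k (pt 4) = pt j := by rw [← pt_idx (k (pt 4))]; exact congrArg pt e
        interval_cases j
        · exact absurd (pt_inj (by norm_num) (by norm_num) (k.injective (e'.trans k0.symm))) (by norm_num)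
        · exact absurd (pt_inj (by norm_num) (by norm_num) (k.injective (e'.trans k3.symm))) (by norm_num)
        · exact absurd (pt_inj (by norm_num) (by norm_num) (k.injective (e'.trans k1.symm))) (by norm_num)
        · exact absurd (pt_inj (by norm_num) (by norm_num) (k.injective (e'.trans k2.symm))) (by norm_num)
    obtain ⟨w, hw, hwt⟩ := exists_M11 (List.all_eq_true.1 hoks l hl)
    have hkw : k = w := by
      refine eq12_of_five (s := (Finset.range 5).image pt) hk12 (mem_M11_iff.1 hw).1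
        (fun q hq => ?_) (by decide +kernel) (fun q hq => ?_)
      · obtain ⟨j, hj, rfl⟩ := Finset.mem_image.1 hq
        exact pt_mem_D (Finset.mem_range.1 hj)
      · obtain ⟨j, hj, rfl⟩ := Finset.mem_image.1 hq
        have hj := Finset.mem_range.1 hj
        interval_cases j
        · rw [k0, show w (pt 0) = pt 0 from pt_zero ▸ (mem_M11_iff.1 hw).2]
        · rw [k1, hwt.apply_pt (by norm_num) l1]
        · rw [k2, hwt.apply_pt (by norm_num) l2]
        · rw [k3, hwt.apply_pt (by norm_num) l3]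
        · rw [hwt.apply_pt (by norm_num) l4, pt_idx]
    have hw3 : w ^ 3 = 1 := by
      rw [← hkw, hk, show a⁻¹ * g * a = MulAut.conj a⁻¹ g by simp, ← map_pow, ← h, hgp, map_one]
    obtain ⟨c, hc, hcl⟩ := hfix l hl (by
      have htp := hwt.pow 3
      rw [hw3] at htp
      have e : ∀ i < 24, (powTab l 3).getD i 0 = idTab.getD i 0 := fun i hi => by
        rw [← htp i hi, ← tab_one i hi]
      refine List.ext_getElem (by simp [powTab, comp, idTab]) fun i h1 h2 => ?_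
      have hi : i < 24 := by simpa [idTab] using h2
      have := e i hi
      rwa [List.getD_eq_getElem _ _ h1, List.getD_eq_getElem _ _ h2] at this)
    exact fixed_of_conj ha (hk ▸ hkw) hwt hc hcl
  · exact hcount (Or.inl h)
  · exact hcount (Or.inr h)

end Cfsg.Agent.Golay
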