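import Cfsg.Agent.Lib.Golay.Generators
import Cfsg.Prelude.Def_Spor_Mathieu

/-!
The stabiliser chain of `Cfsg.M24` along the base ∞, 0, 1, 2, 3, 5, 4: orders, generation and
5-transitivity.
-/

set_option autoImplicit false

namespace Cfsg.Agent.Golay

open scoped Pointwise

/-- The indices of the base points. -/
def baseN : List ℕ := [23, 0, 1, 2, 3, 5, 4]

/-- The base points. -/
def bp (i : ℕ) : GolayPt := pt (baseN.getD i 0)

theorem idx_bp {i : ℕ} : idx (bp i) = baseN.getD i 0 := by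
  apply idx_pt
  rcases lt_or_ge i 7 with h | h
  · interval_cases i <;> decide
  · rw [List.getD_eq_default _ _ h]; norm_num

/-- The pointwise stabiliser in `G` of the first `i` base points. -/
def fixUpTo (G : Subgroup (Equiv.Perm GolayPt)) : ℕ → Subgroup (Equiv.Perm GolayPt)
  | 0 => G
  | i + 1 => fixUpTo G i ⊓ MulAction.stabilizer (Equiv.Perm GolayPt) (bp i)

theorem mem_fixUpTo {G : Subgroup (Equiv.Perm GolayPt)} {g : Equiv.Perm GolayPt} :
    ∀ {i : ℕ}, g ∈ fixUpTo G i ↔ g ∈ G ∧ ∀ j < i, g (bp j) = bp j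
  | 0 => by simp [fixUpTo]
  | i + 1 => by
    rw [fixUpTo, Subgroup.mem_inf, mem_fixUpTo, MulAction.mem_stabilizer_iff, Equiv.Perm.smul_def]
    constructor
    · rintro ⟨⟨h1, h2⟩, h3⟩
      exact ⟨h1, fun j hj => (Nat.lt_succ_iff_lt_or_eq.1 hj).elim (h2 j) (fun e => e ▸ h3)⟩
    · rintro ⟨h1, h2⟩
      exact ⟨⟨h1, fun j hj => h2 j (Nat.lt_succ_of_lt hj)⟩, h2 i (Nat.lt_succ_self i)⟩

theorem fixUpTo_le (G : Subgroup (Equiv.Perm GolayPt)) (i : ℕ) : fixUpTo G i ≤ G :=
  fun _ hg => (mem_fixUpTo.1 hg).1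

theorem M23_eq : Spor.M23 = fixUpTo M24 1 := rfl

theorem M22_eq : Spor.M22 = fixUpTo M24 2 := rfl

/-- The octad through the first five base points, as a mask. -/
def octadO : ℕ := 8536111

/-- The orbits along the chain. -/
def orbN : List (List ℕ) := [[0, 1, 2, 3, 4, 5, 6, 7, 8, 9, 10, 11, 12, 13, 14, 15, 16, 17, 18, 19, 20, 21, 22, 23],
    [0, 1, 2, 3, 4, 5, 6, 7, 8, 9, 10, 11, 12, 13, 14, 15, 16, 17, 18, 19, 20, 21, 22],
    [1, 2, 3, 4, 5, 6, 7, 8, 9, 10, 11, 12, 13, 14, 15, 16, 17, 18, 19, 20, 21, 22],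
    [2, 3, 4, 5, 6, 7, 8, 9, 10, 11, 12, 13, 14, 15, 16, 17, 18, 19, 20, 21, 22],
    [3, 4, 5, 6, 7, 8, 9, 10, 11, 12, 13, 14, 15, 16, 17, 18, 19, 20, 21, 22],
    [5, 14, 17],
    [4, 6, 7, 8, 9, 10, 11, 12, 13, 15, 16, 18, 19, 20, 21, 22]]

/-- Steps showing that only the identity fixes all base points: each new point is cut out of
the free points by octads having five fixed points. -/
def closeSteps : List (ℕ × List ℕ) :=
  [(6, [8683614, 2162811]),
    (7, [8978620, 11010247, 12599513]),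
    (8, [1065303, 9568632, 8421811]),
    (9, [786999, 8524371]),
    (10, [1573998, 5279]),
    (11, [9963547, 8431757]),
    (12, [11538486, 8663097]),
    (13, [12656663, 8663097]),
    (14, [8966165, 421910]),
    (15, [14716939, 8966165]),
    (16, [4845570, 1302533]),
    (17, [13062145, 9347075, 1302533]),
    (18, [13062145, 9347075]),
    (19, [4845570, 9347075]),
    (20, [13938692, 1302533]),
    (21, [11100169]),
    (22, [])]

def closeCheck : ℕ → List (ℕ × List ℕ) → Bool
  | F, [] => F == 16777215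
  | F, (x, os) :: r =>
    os.all (fun o => inCode o && popc o == 8 && decide (5 ≤ popc (o &&& F))) &&
      (os.foldl (fun a o => a &&& o) (16777215 ^^^ F) == 2 ^ x) && decide (x < 24) &&
      closeCheck (F ||| 2 ^ x) r

theorem smul_eq_of_fixed {g : Equiv.Perm GolayPt} (hg : g ∈ M24) {o : Finset GolayPt}
    (ho : o ∈ octads) {F : Finset GolayPt} (h5 : 5 ≤ (o ∩ F).card) (hfix : ∀ p ∈ F, g p = p) :
    g • o = o := by
  have hgo : g • o ∈ octads := by
    refine ⟨mem_setSystemAut_iff.1 hg _ ho.1, ?_⟩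
    rw [Finset.card_smul_finset]
    exact card_of_mem_octads ho
  refine octad_unique hgo ho h5 (fun p hp => ?_) Finset.inter_subset_left
  rw [← hfix p (Finset.mem_inter.1 hp).2]
  exact Finset.smul_mem_smul_finset (Finset.mem_inter.1 hp).1

theorem apply_mem_iff_of_smul_eq {g : Equiv.Perm GolayPt} {s : Finset GolayPt} (h : g • s = s)
    (p : GolayPt) : g p ∈ s ↔ p ∈ s := by
  conv_lhs => rw [← h, ← Equiv.Perm.smul_def, Finset.smul_mem_smul_finset_iff]

theorem toSet_all : ∀ p : GolayPt, p ∈ toSet 16777215 := by decide +kernel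

theorem eq_one_of_closeCheck {g : Equiv.Perm GolayPt} (hg : g ∈ M24) :
    ∀ (L : List (ℕ × List ℕ)) (F : ℕ), closeCheck F L = true → (∀ p ∈ toSet F, g p = p) → g = 1
  | [], F, hc, hfix => by
    rw [closeCheck, beq_iff_eq] at hc
    subst hc
    exact Equiv.ext fun p => hfix p (toSet_all p)
  | (x, os) :: r, F, hc, hfix => by
    simp only [closeCheck, Bool.and_eq_true, List.all_eq_true, beq_iff_eq, decide_eq_true_eq]
      at hc
    obtain ⟨⟨⟨hos, hfold⟩, hx⟩, hrest⟩ := hc
    refine eq_one_of_closeCheck hg r _ hrest ?_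
    have hcompl : g • toSet (16777215 ^^^ F) = toSet (16777215 ^^^ F) := by
      refine Finset.eq_of_subset_of_card_le ?_ (by rw [Finset.card_smul_finset])
      intro p hp
      rw [← Finset.inv_smul_mem_iff, mem_toSet, Nat.testBit_xor] at hp
      rw [mem_toSet, Nat.testBit_xor]
      have h1 := toSet_all p
      have h2 := toSet_all (g⁻¹ • p)
      rw [mem_toSet] at h1 h2
      rw [h2] at hp
      rw [h1]
      cases hb : F.testBit (idx p)
      · rfl
      · have hpp := hfix p (by rw [mem_toSet, hb])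
        have e : g⁻¹ • p = p := by
          rw [Equiv.Perm.smul_def, Equiv.Perm.coe_inv, Equiv.symm_apply_eq, hpp]
        rw [e, hb] at hp
        simp at hp
    have key : ∀ (os : List ℕ) (a : ℕ),
        (∀ o ∈ os, inCode o = true ∧ popc o = 8 ∧ 5 ≤ popc (o &&& F)) →
        g • toSet a = toSet a →
        g • toSet (os.foldl (fun a o => a &&& o) a) = toSet (os.foldl (fun a o => a &&& o) a) := by
      intro os
      induction os with
      | nil => exact fun a _ ha => ha
      | cons o os ih =>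
        intro a hall ha
        rw [List.foldl_cons]
        refine ih _ (fun o' ho' => hall o' (List.mem_cons_of_mem _ ho')) ?_
        obtain ⟨h1, h2, h3⟩ := hall o List.mem_cons_self
        rw [← toSet_inter, Finset.smul_finset_inter, ha,
          smul_eq_of_fixed hg (octad_mem_iff.2 ⟨o, h1, h2, rfl⟩) (F := toSet F)
            (by rw [toSet_inter, card_toSet]; exact h3) hfix]
    have hset := key os _ (fun o ho => ⟨(hos o ho).1.1, (hos o ho).1.2, (hos o ho).2⟩) hcompl
    rw [hfold] at hset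
    intro p hp
    rw [mem_toSet, Nat.testBit_or, Bool.or_eq_true] at hp
    rcases hp with hp | hp
    · exact hfix p (mem_toSet.2 hp)
    · rw [Nat.testBit_two_pow] at hp
      have hpx : idx p = x := (of_decide_eq_true hp).symm
      have : g p ∈ toSet (2 ^ x) := by
        rw [apply_mem_iff_of_smul_eq hset, mem_toSet, hpx, Nat.testBit_two_pow_self]
      rw [mem_toSet, Nat.testBit_two_pow] at this
      exact idx_injective ((of_decide_eq_true this).symm.trans hpx.symm)

theorem baseMask_facts :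
    closeCheck ((baseN.map (2 ^ ·)).foldl (· ||| ·) 0) closeSteps = true ∧
    (∀ p : GolayPt, ((baseN.map (2 ^ ·)).foldl (· ||| ·) 0).testBit (idx p) = true →
      ∃ j : Fin 7, idx p = baseN.getD j.val 0) := by
  decide +kernel

theorem fixUpTo_seven : fixUpTo M24 7 = ⊥ := by
  rw [eq_bot_iff]
  intro g hg
  obtain ⟨hg1, hg2⟩ := mem_fixUpTo.1 hg
  rw [Subgroup.mem_bot]
  refine eq_one_of_closeCheck hg1 _ _ baseMask_facts.1 fun p hp => ?_
  obtain ⟨j, hj⟩ := baseMask_facts.2 p (mem_toSet.1 hp)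
  rw [← idx_bp] at hj
  rw [idx_injective hj]
  exact hg2 j.val j.isLt

theorem orb_facts :
    (∀ i : Fin 5, ∀ x : Fin 24,
      (∀ j : Fin i.val, x.val ≠ baseN.getD j.val 0) → x.val ∈ orbN.getD i.val []) ∧
    (inCode octadO = true ∧ popc octadO = 8) ∧
    (∀ j : Fin 6, octadO.testBit (baseN.getD j.val 0) = true) ∧
    (∀ x : Fin 24, (∀ j : Fin 5, x.val ≠ baseN.getD j.val 0) → octadO.testBit x.val = true →
      x.val ∈ orbN.getD 5 []) ∧
    (∀ x : Fin 24, octadO.testBit x.val = false → x.val ∈ orbN.getD 6 []) ∧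
    octadO.testBit (baseN.getD 6 0) = false ∧
    popc ((baseN.take 5).map (2 ^ ·) |>.foldl (· ||| ·) 0) = 5 ∧
    (∀ p : GolayPt, ((baseN.take 5).map (2 ^ ·) |>.foldl (· ||| ·) 0).testBit (idx p) = true →
      ∃ j : Fin 5, idx p = baseN.getD j.val 0) ∧
    octadO &&& ((baseN.take 5).map (2 ^ ·) |>.foldl (· ||| ·) 0) =
      ((baseN.take 5).map (2 ^ ·) |>.foldl (· ||| ·) 0) := by
  decide +kernel

theorem apply_ne_of_fixed {g : Equiv.Perm GolayPt} {i j : ℕ} (h : g (bp j) = bp j)
    (hne : baseN.getD i 0 ≠ baseN.getD j 0) : idx (g (bp i)) ≠ baseN.getD j 0 := by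
  intro e
  rw [← idx_bp, ← h] at e
  have := congrArg idx (g.injective (idx_injective e))
  rw [idx_bp, idx_bp] at this
  exact hne this

theorem base_ne : ∀ i : Fin 7, ∀ j : Fin 7, i ≠ j → baseN.getD i.val 0 ≠ baseN.getD j.val 0 := by
  decide +kernel

/-- The upper bound along the chain. -/
theorem orbit_subset {i : ℕ} (hi : i < 7) {g : Equiv.Perm GolayPt} (hg : g ∈ fixUpTo M24 i) :
    idx (g (bp i)) ∈ orbN.getD i [] := by
  obtain ⟨hg1, hg2⟩ := mem_fixUpTo.1 hg
  obtain ⟨h0, ⟨ho1, ho2⟩, h3, h4, h5, h6, h7, h8, h9⟩ := orb_facts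
  have hne : ∀ j, j < i → idx (g (bp i)) ≠ baseN.getD j 0 := fun j hj =>
    apply_ne_of_fixed (hg2 j hj)
      (base_ne ⟨i, hi⟩ ⟨j, hj.trans hi⟩ (by simp only [ne_eq, Fin.mk.injEq]; omega))
  rcases lt_or_ge i 5 with h | h
  · exact h0 ⟨i, h⟩ ⟨_, idx_lt _⟩ fun j => hne j.val j.isLt
  · have hO : g • toSet octadO = toSet octadO := by
      refine smul_eq_of_fixed hg1 (octad_mem_iff.2 ⟨_, ho1, ho2, rfl⟩)
        (F := toSet ((baseN.take 5).map (2 ^ ·) |>.foldl (· ||| ·) 0)) ?_ ?_
      · rw [toSet_inter, card_toSet, h9, h7]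
      · intro p hp
        obtain ⟨j, hj⟩ := h8 p (mem_toSet.1 hp)
        rw [← idx_bp] at hj
        rw [idx_injective hj]
        exact hg2 j.val (lt_of_lt_of_le j.isLt h)
    have hin := apply_mem_iff_of_smul_eq hO (bp i)
    simp only [mem_toSet, idx_bp] at hin
    obtain rfl | rfl : i = 5 ∨ i = 6 := by omega
    · exact h4 ⟨_, idx_lt _⟩ (fun j => hne j.val j.isLt) (hin.2 (h3 ⟨5, by norm_num⟩))
    · refine h5 ⟨_, idx_lt _⟩ ?_
      rw [Bool.eq_false_iff]
      intro e
      rw [hin.1 e] at h6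
      exact absurd h6 (by decide)

/-- Transversals of the chain below level `lo`, as entries of `tabs`. -/
def repsCheck (tabs : List (List ℕ)) : ℕ → List (List (ℕ × ℕ)) → Bool
  | lo, [] => lo == 7
  | lo, R :: Rs => (R.map Prod.fst == orbN.getD lo []) &&
      R.all (fun xk => (tabs.getD xk.2 idTab).getD (baseN.getD lo 0) 0 == xk.1 &&
        (List.range lo).all fun j =>
          (tabs.getD xk.2 idTab).getD (baseN.getD j 0) 0 == baseN.getD j 0) &&
      repsCheck tabs (lo + 1) Rs

theorem fixUpTo_le_of_repsCheck {H : Subgroup (Equiv.Perm GolayPt)} (hH : H ≤ M24)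
    {tabs : List (List ℕ)} (htabs : ∀ k, ∃ g ∈ H, Tab g (tabs.getD k idTab)) :
    ∀ (Rs : List (List (ℕ × ℕ))) (lo : ℕ), repsCheck tabs lo Rs = true →
      (fixUpTo M24 lo ≤ H ∧ ∀ i, lo ≤ i → i < 7 → ∀ x ∈ orbN.getD i [],
        ∃ h ∈ fixUpTo H i, idx (h (bp i)) = x)
  | [], lo, hc => by
    rw [repsCheck, beq_iff_eq] at hc
    subst hc
    exact ⟨by rw [fixUpTo_seven]; exact bot_le, fun i h1 h2 => absurd (lt_of_le_of_lt h1 h2) (lt_irrefl _)⟩
  | R :: Rs, lo, hc => by
    simp only [repsCheck, Bool.and_eq_true, beq_iff_eq, List.all_eq_true, List.mem_range] at hc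
    obtain ⟨⟨hR, hall⟩, hrest⟩ := hc
    obtain ⟨ih1, ih2⟩ := fixUpTo_le_of_repsCheck hH htabs Rs (lo + 1) hrest
    have hlvl : ∀ x ∈ orbN.getD lo [], ∃ h ∈ fixUpTo H lo, idx (h (bp lo)) = x := by
      intro x hx
      rw [← hR, List.mem_map] at hx
      obtain ⟨xk, hxk, rfl⟩ := hx
      obtain ⟨h1, h2⟩ := hall xk hxk
      obtain ⟨g, hg, hgt⟩ := htabs xk.2
      refine ⟨g, mem_fixUpTo.2 ⟨hg, fun j hj => idx_injective ?_⟩, ?_⟩
      · rw [hgt.apply, idx_pt (hgt.lt (idx_lt _)), idx_bp]
        exact h2 j hj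
      · rw [hgt.apply, idx_pt (hgt.lt (idx_lt _)), idx_bp]
        exact h1
    refine ⟨fun g hg => ?_, fun i h1 h2 => ?_⟩
    · rcases lt_or_ge lo 7 with hlo | hlo
      · obtain ⟨h, hh, hhx⟩ := hlvl _ (orbit_subset hlo hg)
        obtain ⟨hhH, hhfix⟩ := mem_fixUpTo.1 hh
        obtain ⟨hgM, hgfix⟩ := mem_fixUpTo.1 hg
        have hmem : h⁻¹ * g ∈ fixUpTo M24 (lo + 1) := by
          refine mem_fixUpTo.2 ⟨M24.mul_mem (M24.inv_mem (hH hhH)) hgM, fun j hj => ?_⟩
          rw [Equiv.Perm.mul_apply, Equiv.Perm.coe_inv, Equiv.symm_apply_eq]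
          rcases Nat.lt_succ_iff_lt_or_eq.1 hj with hj | rfl
          · rw [hgfix j hj, hhfix j hj]
          · exact (idx_injective hhx).symm
        have := H.mul_mem hhH (ih1 hmem)
        rwa [← mul_assoc, mul_inv_cancel, one_mul] at this
      · obtain ⟨hgM, hgfix⟩ := mem_fixUpTo.1 hg
        have : g ∈ fixUpTo M24 7 := mem_fixUpTo.2 ⟨hgM, fun j hj => hgfix j (lt_of_lt_of_le hj hlo)⟩
        rw [fixUpTo_seven, Subgroup.mem_bot] at this
        rw [this]
        exact H.one_mem
    · rcases eq_or_lt_of_le h1 with rfl | h1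
      · exact hlvl
      · exact ih2 i h1 h2

/-- Straight-line program for the transversals in the shift, `projInv` and `cubeTwist`. -/
def prog24 : List (ℕ × ℕ) :=
  [
    (0, 3), (0, 4), (0, 5), (0, 6), (0, 7), (0, 8), (0, 9), (0, 10),
    (0, 11), (0, 12), (0, 13), (0, 14), (0, 15), (0, 16), (0, 17), (0, 18),
    (0, 19), (0, 20), (0, 21), (0, 22), (0, 23), (0, 24), (1, 3), (0, 26),
    (1, 27), (0, 27), (1, 29), (0, 29), (0, 30), (1, 31), (0, 31), (1, 32),
    (0, 32), (0, 33), (1, 34), (0, 34), (1, 36), (0, 36), (1, 37), (0, 38),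
    (1, 39), (0, 39), (0, 40), (0, 43), (1, 46), (2, 3), (2, 49), (2, 50),
    (2, 51), (2, 1), (1, 1), (1, 0), (4, 4), (56, 56), (56, 57), (57, 57),
    (59, 59), (58, 60), (0, 1), (27, 27), (55, 0), (0, 64), (54, 62), (1, 2),
    (65, 2), (68, 0), (63, 69), (23, 23), (71, 71), (71, 72), (72, 72), (74, 74),
    (73, 75), (76, 70), (77, 3), (77, 50), (77, 51), (77, 52), (2, 78), (77, 78),
    (77, 79), (2, 80), (77, 80), (2, 82), (77, 82), (2, 83), (2, 84), (77, 84),
    (2, 87), (2, 89), (2, 91), (62, 0), (69, 2), (63, 96), (76, 97), (50, 50),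
    (99, 99), (100, 98), (101, 3), (101, 102), (101, 103), (101, 104), (95, 64), (64, 2),
    (106, 2), (107, 66), (46, 46), (110, 109), (61, 111), (89, 89), (113, 113), (114, 114),
    (113, 115), (116, 112), (117, 3), (117, 102), (117, 103), (117, 104), (117, 105), (117, 118),
    (101, 119), (101, 120), (101, 121), (101, 122), (101, 124), (117, 124), (101, 125), (101, 127),
    (101, 130), (101, 131), (96, 0), (63, 134), (61, 135), (52, 52), (137, 137), (138, 136),
    (104, 104), (140, 140), (141, 139), (142, 3), (142, 143), (142, 144), (142, 145), (2, 67),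
    (53, 66), (41, 41), (149, 149), (150, 150), (149, 151), (152, 148), (22, 22), (154, 154),
    (154, 155), (155, 155), (157, 157), (156, 158), (159, 153), (85, 85), (161, 161), (162, 160),
    (124, 124), (164, 164), (165, 163), (166, 3), (166, 144), (166, 145), (166, 146), (142, 167),
    (142, 168), (142, 170), (142, 172), (166, 172), (142, 173), (166, 173), (166, 174), (142, 176),
    (142, 177), (166, 179), (147, 0), (26, 182), (7, 7), (184, 184), (184, 185), (185, 185),
    (187, 187), (186, 188), (189, 183), (94, 94), (191, 191), (192, 192), (191, 193), (194, 190),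
    (141, 195), (176, 176), (197, 197), (198, 196), (199, 3), (199, 200), (182, 108), (38, 38),
    (203, 203), (203, 204), (204, 204), (206, 206), (205, 207), (208, 202), (9, 9), (210, 210),
    (210, 211), (211, 211), (213, 213), (212, 214), (215, 209), (91, 91), (217, 217), (218, 218),
    (217, 219), (220, 216), (119, 119), (222, 222), (222, 223), (224, 221), (146, 146), (226, 226),
    (227, 225), (201, 201), (229, 228), (230, 3), (109, 202), (11, 11), (233, 233), (233, 234),
    (234, 234), (236, 236), (235, 237), (238, 232), (51, 51), (240, 240), (241, 239), (123, 242),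
    (170, 170), (244, 244), (245, 243), (246, 3), (246, 231), (232, 108), (110, 249), (20, 20),
    (251, 251), (251, 252), (252, 252), (254, 254), (253, 255), (256, 250), (86, 86), (258, 258),
    (258, 259), (260, 257), (105, 105), (262, 262), (263, 261), (181, 181), (265, 265), (266, 264),
    (200, 200), (268, 267), (269, 3), (269, 231), (269, 247), (269, 248), (148, 2), (152, 274),
    (159, 275), (100, 276), (125, 125), (125, 278), (279, 277), (173, 280), (281, 3), (281, 231),
    (281, 247), (281, 248), (281, 270), (281, 271), (281, 272), (281, 273)]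

def reps24 : List (List (ℕ × ℕ)) :=
  [[(0, 26), (1, 27), (2, 29), (3, 31), (4, 34), (5, 39), (6, 45), (7, 40), (8, 46), (9, 44), (10, 42), (11, 30), (12, 32), (13, 36), (14, 41), (15, 33), (16, 37), (17, 38), (18, 43), (19, 47), (20, 48), (21, 35), (22, 28), (23, 3)],
    [(0, 3), (1, 4), (2, 5), (3, 6), (4, 7), (5, 8), (6, 9), (7, 10), (8, 11), (9, 12), (10, 13), (11, 14), (12, 15), (13, 16), (14, 17), (15, 18), (16, 19), (17, 20), (18, 21), (19, 22), (20, 23), (21, 24), (22, 25)],
    [(1, 3), (2, 51), (3, 79), (4, 50), (5, 90), (6, 52), (7, 84), (8, 80), (9, 89), (10, 81), (11, 78), (12, 93), (13, 83), (14, 92), (15, 88), (16, 85), (17, 86), (18, 49), (19, 82), (20, 94), (21, 91), (22, 87)],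
    [(2, 3), (3, 104), (4, 133), (5, 118), (6, 119), (7, 131), (8, 125), (9, 129), (10, 127), (11, 121), (12, 130), (13, 123), (14, 124), (15, 126), (16, 128), (17, 120), (18, 103), (19, 122), (20, 105), (21, 102), (22, 132)],
    [(3, 3), (4, 170), (5, 167), (6, 172), (7, 175), (8, 171), (9, 168), (10, 181), (11, 180), (12, 176), (13, 146), (14, 173), (15, 179), (16, 174), (17, 177), (18, 143), (19, 169), (20, 144), (21, 145), (22, 178)],
    [(5, 3), (14, 200), (17, 201)],
    [(4, 3), (6, 282), (7, 247), (8, 273), (9, 272), (10, 286), (11, 270), (12, 288), (13, 248), (15, 271), (16, 283), (18, 287), (19, 285), (20, 289), (21, 231), (22, 284)]]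

def gens24 : List (List ℕ) := [shiftTab, projInvTab, cubeTwistTab, idTab]

theorem reps24_check : repsCheck (evalSLP gens24 prog24) 0 reps24 = true := by decide +kernel

theorem gen_le : Subgroup.closure ({shift, projInv, cubeTwist} : Set (Equiv.Perm GolayPt)) ≤ M24 := by
  rw [Subgroup.closure_le]
  rintro g (rfl | rfl | rfl)
  exacts [shift_mem, projInv_mem, cubeTwist_mem]

theorem gen_chain :
    fixUpTo M24 0 ≤ Subgroup.closure ({shift, projInv, cubeTwist} : Set (Equiv.Perm GolayPt)) ∧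
      ∀ i, 0 ≤ i → i < 7 → ∀ x ∈ orbN.getD i [],
        ∃ h ∈ fixUpTo (Subgroup.closure ({shift, projInv, cubeTwist} : Set (Equiv.Perm GolayPt))) i,
          idx (h (bp i)) = x := by
  refine fixUpTo_le_of_repsCheck gen_le (evalSLP_mem _ _ _ ?_) _ _ reps24_check
  intro l hl
  simp only [gens24, List.mem_cons, List.not_mem_nil, or_false] at hl
  rcases hl with rfl | rfl | rfl | rfl
  · exact ⟨shift, Subgroup.subset_closure (by simp), tab_shift⟩
  · exact ⟨projInv, Subgroup.subset_closure (by simp), tab_projInv⟩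
  · exact ⟨cubeTwist, Subgroup.subset_closure (by simp), tab_cubeTwist⟩
  · exact ⟨1, one_mem _, tab_one⟩

theorem M24_eq_closure :
    Subgroup.closure ({shift, projInv, cubeTwist} : Set (Equiv.Perm GolayPt)) = M24 :=
  le_antisymm gen_le gen_chain.1

/-- Every point of `orbN i` is reached from the `i`-th base point. -/
theorem exists_transversal {i : ℕ} (hi : i < 7) {x : ℕ} (hx : x ∈ orbN.getD i []) :
    ∃ h ∈ fixUpTo M24 i, idx (h (bp i)) = x := by
  obtain ⟨h, hh, e⟩ := gen_chain.2 i (Nat.zero_le i) hi x hx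
  obtain ⟨h1, h2⟩ := mem_fixUpTo.1 hh
  exact ⟨h, mem_fixUpTo.2 ⟨gen_le h1, h2⟩, e⟩

theorem orbN_facts :
    ∀ i : Fin 7, (orbN.getD i.val []).Nodup ∧ ∀ x ∈ orbN.getD i.val [], x < 24 := by
  decide +kernel

theorem card_fixUpTo_succ {i : ℕ} (hi : i < 7) :
    Nat.card (fixUpTo M24 i) = (orbN.getD i []).length * Nat.card (fixUpTo M24 (i + 1)) := by
  classical
  set K := fixUpTo M24 i with hK
  obtain ⟨hnd, hlt⟩ := orbN_facts ⟨i, hi⟩
  have horb : MulAction.orbit K (bp i) =
      ((orbN.getD i []).toFinset.image pt : Finset GolayPt) := by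
    ext p
    simp only [Finset.coe_image, Set.mem_image, Finset.mem_coe, List.mem_toFinset,
      MulAction.mem_orbit_iff]
    constructor
    · rintro ⟨⟨g, hg⟩, rfl⟩
      exact ⟨_, orbit_subset hi hg, pt_idx _⟩
    · rintro ⟨x, hx, rfl⟩
      obtain ⟨h, hh, e⟩ := exists_transversal hi hx
      exact ⟨⟨h, hh⟩, idx_injective (e.trans (idx_pt (hlt x hx)).symm)⟩
  have hcard : Nat.card (MulAction.orbit K (bp i)) = (orbN.getD i []).length := by
    rw [horb, Nat.card_coe_set_eq, Set.ncard_coe_finset, Finset.card_image_of_injOn,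
      List.toFinset_card_of_nodup hnd]
    intro a ha b hb hab
    rw [← idx_pt (hlt a (List.mem_toFinset.1 ha)), hab, idx_pt (hlt b (List.mem_toFinset.1 hb))]
  have e : MulAction.stabilizer K (bp i) ≃ fixUpTo M24 (i + 1) :=
    { toFun := fun g => ⟨g.1.1, g.1.2, g.2⟩
      invFun := fun g => ⟨⟨g.1, g.2.1⟩, g.2.2⟩
      left_inv := fun _ => rfl
      right_inv := fun _ => rfl }
  rw [← Nat.card_congr e, ← hcard, ← Nat.card_prod,
    Nat.card_congr (MulAction.orbitProdStabilizerEquivGroup K (bp i))]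

theorem orbN_lengths : orbN.map List.length = [24, 23, 22, 21, 20, 3, 16] := by decide +kernel

theorem card_fix_seven : Nat.card (fixUpTo M24 7) = 1 := by
  rw [fixUpTo_seven, Subgroup.card_bot]

theorem card_fix_two : Nat.card (fixUpTo M24 2) = 443520 := by
  rw [card_fixUpTo_succ (by norm_num : 2 < 7), card_fixUpTo_succ (by norm_num : 3 < 7),
    card_fixUpTo_succ (by norm_num : 4 < 7), card_fixUpTo_succ (by norm_num : 5 < 7),
    card_fixUpTo_succ (by norm_num : 6 < 7), card_fix_seven]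
  simp [orbN]

theorem card_fix_one : Nat.card (fixUpTo M24 1) = 10200960 := by
  rw [card_fixUpTo_succ (by norm_num : 1 < 7), card_fix_two]
  simp [orbN]

theorem card_M24 : Nat.card M24 = 244823040 := by
  rw [show M24 = fixUpTo M24 0 from rfl, card_fixUpTo_succ (by norm_num : 0 < 7), card_fix_one]
  simp [orbN]

theorem card_M23 : Nat.card Spor.M23 = 10200960 := by rw [M23_eq, card_fix_one]

theorem card_M22 : Nat.card Spor.M22 = 443520 := by rw [M22_eq, card_fix_two]

/-- `M24` maps the first `n ≤ 5` base points to any distinct points. -/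
theorem exists_map_base (e : ℕ → GolayPt) : ∀ n : ℕ, n ≤ 5 →
    (∀ j k, j < n → k < n → e j = e k → j = k) → ∃ g ∈ M24, ∀ j < n, g (bp j) = e j
  | 0, _, _ => ⟨1, M24.one_mem, fun j hj => absurd hj (Nat.not_lt_zero j)⟩
  | n + 1, hn, hinj => by
    obtain ⟨g, hg, hgj⟩ := exists_map_base e n (by omega)
      fun j k hj hk => hinj j k (by omega) (by omega)
    have hx : idx (g⁻¹ (e n)) ∈ orbN.getD n [] := by
      refine orb_facts.1 ⟨n, by omega⟩ ⟨_, idx_lt _⟩ fun j h => ?_
      rw [← idx_bp] at h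
      have := idx_injective h
      rw [Equiv.Perm.coe_inv, Equiv.symm_apply_eq, hgj _ j.isLt] at this
      exact absurd (hinj n j.val (Nat.lt_succ_self n) (Nat.lt_succ_of_lt j.isLt) this)
        (Nat.ne_of_gt j.isLt)
    obtain ⟨h, hh, hhx⟩ := exists_transversal (by omega) hx
    obtain ⟨h1, h2⟩ := mem_fixUpTo.1 hh
    refine ⟨g * h, M24.mul_mem hg h1, fun j hj => ?_⟩
    rw [Equiv.Perm.mul_apply]
    rcases Nat.lt_succ_iff_lt_or_eq.1 hj with hj | rfl
    · rw [h2 j hj, hgj j hj]
    · rw [idx_injective hhx, Equiv.Perm.coe_inv, Equiv.apply_symm_apply]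

theorem five_transitive : MulAction.IsMultiplyPretransitive M24 GolayPt 5 := by
  constructor
  intro a b
  have key : ∀ a : Fin 5 ↪ GolayPt, ∃ g ∈ M24, ∀ j : Fin 5, g (bp j.val) = a j := by
    intro a
    obtain ⟨g, hg, hj⟩ := exists_map_base (fun j => if h : j < 5 then a ⟨j, h⟩ else none) 5
      le_rfl fun j k hj hk hjk => by
        simp only [dif_pos hj, dif_pos hk, EmbeddingLike.apply_eq_iff_eq, Fin.mk.injEq] at hjk
        exact hjk
    exact ⟨g, hg, fun j => by rw [hj j.val j.isLt, dif_pos j.isLt]⟩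
  obtain ⟨g, hg, hga⟩ := key a
  obtain ⟨h, hh, hhb⟩ := key b
  refine ⟨⟨h * g⁻¹, M24.mul_mem hh (M24.inv_mem hg)⟩, ?_⟩
  refine DFunLike.ext _ _ fun j => ?_
  show h (g⁻¹ (a j)) = b j
  rw [← hga j, Equiv.Perm.coe_inv, Equiv.symm_apply_apply, hhb]

end Cfsg.Agent.Golay
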