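import Cfsg.Agent.Lib.Golay.Transitive

/-!
Simplicity of M₂₄, M₂₃ and M₂₂.
-/

set_option autoImplicit false

namespace Cfsg.Agent.Golay

open scoped Pointwise

/-- A primitive faithful group generated by elements of order `p`, with `p` dividing the degree
and `p²` not dividing the order, is simple. -/
theorem isSimpleGroup_of_primitive_prime {G X : Type*} [Group G] [Finite G] [MulAction G X]
    [FaithfulSMul G X] [MulAction.IsPreprimitive G X] [Nontrivial X] (p : ℕ) [hp : Fact p.Prime]
    (hX : p ∣ Nat.card X) (hp2 : ¬ p ^ 2 ∣ Nat.card G) (S : Set G)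
    (hS : ∀ s ∈ S, orderOf s = p) (hgen : Subgroup.closure S = ⊤) : IsSimpleGroup G := by
  have hnt : Nontrivial G := by
    obtain ⟨a, b, hab⟩ := exists_pair_ne X
    obtain ⟨g, hg⟩ := MulAction.exists_smul_eq G a b
    exact ⟨⟨g, 1, fun h => hab (by rw [← hg, h, one_smul])⟩⟩
  refine ⟨fun N hN => ?_⟩
  by_cases hbot : N = ⊥
  · exact Or.inl hbot
  right
  have hfix : MulAction.fixedPoints N X ≠ Set.univ := by
    intro h
    apply hbot
    rw [eq_bot_iff]
    intro n hn
    rw [Subgroup.mem_bot]
    refine FaithfulSMul.eq_of_smul_eq_smul (α := X) fun x => ?_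
    have hx : x ∈ MulAction.fixedPoints N X := h ▸ Set.mem_univ x
    rw [one_smul]
    exact hx ⟨n, hn⟩
  have htr := MulAction.IsQuasiPreprimitive.isPretransitive_of_normal (G := G) (X := X) hfix
  obtain ⟨x₀⟩ := (inferInstance : Nonempty X)
  have hdvd : p ∣ Nat.card N := by
    refine hX.trans ?_
    rw [← MulAction.index_stabilizer_of_transitive N x₀]
    exact Subgroup.index_dvd_card _
  obtain ⟨x, hx⟩ := exists_prime_orderOf_dvd_card' p hdvd
  have sylow : ∀ y : G, orderOf y = p → ∃ Q : Sylow p G, (Q : Subgroup G) = Subgroup.zpowers y := by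
    intro y hy
    have hP : IsPGroup p (Subgroup.zpowers y) := IsPGroup.of_card (n := 1)
      (by rw [Nat.card_zpowers, hy, pow_one])
    obtain ⟨Q, hQ⟩ := hP.exists_le_sylow
    refine ⟨Q, (Subgroup.eq_of_le_of_card_ge hQ ?_).symm⟩
    obtain ⟨k, hk⟩ := IsPGroup.iff_card.1 Q.isPGroup'
    have hkdvd : p ^ k ∣ Nat.card G := hk ▸ Subgroup.card_subgroup_dvd_card _
    have hk1 : k ≤ 1 := by
      by_contra h
      exact hp2 ((pow_dvd_pow p (by omega)).trans hkdvd)
    rw [hk, Nat.card_zpowers, hy]
    exact (Nat.pow_le_pow_right hp.out.pos hk1).trans (le_of_eq (pow_one p))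
  rw [eq_top_iff, ← hgen, Subgroup.closure_le]
  intro s hs
  obtain ⟨Q, hQ⟩ := sylow x.1 (by rw [Subgroup.orderOf_coe, hx])
  obtain ⟨R, hR⟩ := sylow s (hS s hs)
  obtain ⟨g, hg⟩ := MulAction.exists_smul_eq G Q R
  have hmem : s ∈ (R : Subgroup G) := hR ▸ Subgroup.mem_zpowers s
  rw [← hg, Sylow.coe_subgroup_smul, hQ, Subgroup.mem_pointwise_smul_iff_inv_smul_mem] at hmem
  obtain ⟨k, hk⟩ := Subgroup.mem_zpowers_iff.1 hmem
  have hin : (MulAut.conj g)⁻¹ • s ∈ N := hk ▸ N.zpow_mem x.2 k
  have := hN.conj_mem _ hin g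
  simpa [mul_assoc] using this

/-- A doubly transitive faithful group of degree not a prime power, with a simple point
stabiliser, is simple. -/
theorem isSimpleGroup_of_simple_stabilizer {G X : Type*} [Group G] [Finite G] [MulAction G X]
    [FaithfulSMul G X] [Nontrivial X] (h2 : MulAction.IsMultiplyPretransitive G X 2) (a : X)
    [IsSimpleGroup (MulAction.stabilizer G a)] (p q : ℕ) [Fact p.Prime] [Fact q.Prime]
    (hpq : p ≠ q) (hp : p ∣ Nat.card X) (hq : q ∣ Nat.card X) : IsSimpleGroup G := by
  have hpre : MulAction.IsPreprimitive G X := MulAction.isPreprimitive_of_is_two_pretransitive h2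
  have hnt : Nontrivial G := by
    obtain ⟨c, d, hcd⟩ := exists_pair_ne X
    obtain ⟨g, hg⟩ := MulAction.exists_smul_eq G c d
    exact ⟨⟨g, 1, fun h => hcd (by rw [← hg, h, one_smul])⟩⟩
  refine ⟨fun N hN => ?_⟩
  by_cases hbot : N = ⊥
  · exact Or.inl hbot
  right
  have hfix : MulAction.fixedPoints N X ≠ Set.univ := by
    intro h
    apply hbot
    rw [eq_bot_iff]
    intro n hn
    rw [Subgroup.mem_bot]
    refine FaithfulSMul.eq_of_smul_eq_smul (α := X) fun x => ?_
    have hx : x ∈ MulAction.fixedPoints N X := h ▸ Set.mem_univ x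
    rw [one_smul]
    exact hx ⟨n, hn⟩
  have htr := MulAction.IsQuasiPreprimitive.isPretransitive_of_normal (G := G) (X := X) hfix
  have hK : (N.subgroupOf (MulAction.stabilizer G a)).Normal := inferInstance
  rcases hK.eq_bot_or_eq_top with hK | hK
  · exfalso
    have hinj : ∀ n : G, n ∈ N → n • a = a → n = 1 := fun n hn h => by
      have : (⟨n, h⟩ : MulAction.stabilizer G a) ∈ N.subgroupOf (MulAction.stabilizer G a) := hn
      rw [hK, Subgroup.mem_bot] at this
      exact congrArg Subtype.val this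
    have hcard : Nat.card N = Nat.card X := Nat.card_congr (Equiv.ofBijective (fun n : N => n.1 • a)
      ⟨fun n m h => Subtype.ext (inv_mul_eq_one.1
          (hinj _ (N.mul_mem (N.inv_mem m.2) n.2) (by rw [mul_smul]; exact inv_smul_eq_iff.2 h))).symm,
        fun y => MulAction.exists_smul_eq N a y⟩)
    obtain ⟨x, hx⟩ := exists_prime_orderOf_dvd_card' (G := N) p (hcard ▸ hp)
    obtain ⟨y, hy⟩ := exists_prime_orderOf_dvd_card' (G := N) q (hcard ▸ hq)
    have hne : ∀ n : N, n ≠ 1 → a ≠ n.1 • a := fun n hn h =>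
      hn (Subtype.ext (hinj _ n.2 h.symm))
    have hx1 : x ≠ 1 := fun h => (Fact.out : p.Prime).one_lt.ne (by rw [← hx, h, orderOf_one])
    have hy1 : y ≠ 1 := fun h => (Fact.out : q.Prime).one_lt.ne (by rw [← hy, h, orderOf_one])
    obtain ⟨g, hga, hgx⟩ :=
      MulAction.is_two_pretransitive_iff.1 h2 (hne x hx1) (hne y hy1)
    have hc : g * x.1 * g⁻¹ ∈ N := hN.conj_mem _ x.2 g
    have hca : (g * x.1 * g⁻¹) • a = y.1 • a := by
      rw [mul_smul, mul_smul, inv_smul_eq_iff.2 hga.symm, hgx]
    have heq : y.1⁻¹ * (g * x.1 * g⁻¹) = 1 :=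
      hinj _ (N.mul_mem (N.inv_mem y.2) hc) (by rw [mul_smul, hca, inv_smul_smul])
    apply hpq
    rw [← hx, ← hy, ← Subgroup.orderOf_coe x, ← Subgroup.orderOf_coe y, inv_mul_eq_one.1 heq]
    exact (orderOf_injective (MulAut.conj g).toMonoidHom (MulAut.conj g).injective x.1).symm
  · rw [Subgroup.subgroupOf_eq_top] at hK
    rw [eq_top_iff]
    intro g _
    obtain ⟨n, hn⟩ := MulAction.exists_smul_eq N a (g • a)
    have : n.1⁻¹ * g ∈ MulAction.stabilizer G a := by
      rw [MulAction.mem_stabilizer_iff, mul_smul, inv_smul_eq_iff]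
      exact hn.symm
    simpa using N.mul_mem n.2 (hK this)

def conjTab : List ℕ := [18, 5, 21, 2, 22, 16, 3, 19, 9, 17, 20, 4, 7, 11, 0, 13, 12, 15, 6, 8, 14, 1, 10, 23]

def doubleTab : List ℕ := [0, 2, 4, 6, 8, 10, 12, 14, 16, 18, 20, 22, 1, 3, 5, 7, 9, 11, 13, 15, 17, 19, 21, 23]

def conj22Tab : List ℕ := [0, 7, 8, 11, 15, 9, 12, 17, 21, 10, 16, 13, 18, 4, 20, 14, 1, 6, 22, 3, 2, 19, 5, 23]

/-- A conjugate of the shift. -/
noncomputable def conjShift : Equiv.Perm GolayPt := permOf conjTab (by decide +kernel)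

/-- Multiplication by 2. -/
noncomputable def double : Equiv.Perm GolayPt := permOf doubleTab (by decide +kernel)

/-- A conjugate of `double`. -/
noncomputable def conjDouble : Equiv.Perm GolayPt := permOf conj22Tab (by decide +kernel)

/-- Powers of a table. -/
def powTab (l : List ℕ) : ℕ → List ℕ
  | 0 => idTab
  | n + 1 => comp (powTab l n) l

theorem Tab.pow {σ : Equiv.Perm GolayPt} {l : List ℕ} (h : Tab σ l) :
    ∀ n, Tab (σ ^ n) (powTab l n)
  | 0 => by rw [pow_zero]; exact tab_one
  | n + 1 => by rw [pow_succ]; exact (Tab.pow h n).mul h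

theorem Tab.orderOf_eq {σ : Equiv.Perm GolayPt} {l : List ℕ} (h : Tab σ l) {p : ℕ} (hp : p.Prime)
    (hne : l.getD 1 0 ≠ 1 ∨ l.getD 2 0 ≠ 2) (hpow : powTab l p = idTab) : orderOf σ = p := by
  have : Fact p.Prime := ⟨hp⟩
  refine orderOf_eq_prime (tab_unique (hpow ▸ h.pow p) tab_one) fun e => ?_
  subst e
  rcases hne with hne | hne
  · apply hne; rw [← h 1 (by norm_num), Equiv.Perm.coe_one, id_eq, idx_pt (by norm_num)]
  · apply hne; rw [← h 2 (by norm_num), Equiv.Perm.coe_one, id_eq, idx_pt (by norm_num)]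

def prog23 : List (ℕ × ℕ) :=
  [
    (0, 2), (0, 3), (0, 4), (0, 5), (0, 6), (0, 7), (0, 8), (0, 9),
    (0, 10), (0, 11), (0, 12), (0, 13), (0, 14), (0, 15), (0, 16), (0, 17),
    (0, 18), (0, 19), (0, 20), (0, 21), (0, 22), (0, 23), (20, 20), (25, 25),
    (25, 26), (26, 26), (28, 28), (27, 29), (30, 1), (31, 2), (31, 32), (31, 33),
    (31, 34), (0, 1), (32, 32), (37, 37), (0, 0), (1, 1), (8, 8), (41, 41),
    (41, 42), (42, 42), (44, 44), (43, 45), (46, 40), (38, 47), (48, 32), (48, 33),
    (48, 34), (31, 49), (48, 49), (31, 50), (48, 50), (31, 53), (48, 53), (31, 54),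
    (48, 54), (31, 55), (48, 55), (31, 56), (31, 58), (31, 60), (48, 2), (48, 65),
    (48, 66), (48, 67), (36, 0), (46, 69), (57, 57), (71, 71), (71, 72), (73, 70),
    (74, 35), (74, 2), (74, 65), (74, 66), (74, 67), (48, 76), (74, 76), (74, 77),
    (48, 78), (74, 78), (48, 79), (48, 80), (48, 83), (74, 83), (74, 85), (48, 87),
    (48, 90), (1, 69), (5, 5), (93, 93), (93, 94), (94, 94), (96, 96), (95, 97),
    (98, 92), (35, 35), (100, 100), (101, 99), (65, 65), (103, 103), (104, 102), (105, 2),
    (105, 106), (40, 39), (3, 3), (109, 109), (109, 110), (110, 110), (112, 112), (111, 113),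
    (114, 108), (53, 53), (116, 116), (116, 117), (118, 115), (66, 66), (120, 120), (121, 119),
    (122, 2), (122, 106), (122, 107), (105, 123), (122, 123), (105, 124), (122, 125), (105, 126),
    (122, 126), (122, 127), (105, 128), (105, 129), (122, 129), (105, 131), (105, 132), (122, 133),
    (105, 136), (108, 1), (52, 52), (52, 141), (142, 140), (121, 143), (136, 136), (145, 145),
    (146, 144), (147, 2), (147, 148), (0, 140), (148, 148), (150, 39), (9, 9), (153, 153),
    (153, 154), (154, 154), (156, 156), (155, 157), (158, 152), (75, 75), (75, 160), (161, 159),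
    (121, 162), (151, 163), (164, 2), (1, 69), (140, 166), (12, 12), (168, 168), (168, 169),
    (169, 169), (171, 171), (170, 172), (173, 167), (38, 174), (91, 91), (176, 176), (176, 177),
    (178, 175), (131, 131), (180, 180), (181, 179), (182, 2), (182, 165), (69, 92), (60, 60),
    (186, 186), (187, 185), (67, 67), (189, 189), (190, 188), (127, 127), (192, 192), (193, 191),
    (151, 194), (195, 2), (195, 165), (195, 183), (195, 184), (152, 92), (6, 6), (201, 201),
    (201, 202), (202, 202), (204, 204), (203, 205), (206, 200), (61, 61), (208, 208), (209, 207),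
    (121, 210), (132, 132), (212, 212), (213, 211), (214, 2), (214, 165), (214, 183), (214, 184),
    (214, 196), (214, 197), (214, 198), (214, 199)]

def reps23 : List (List (ℕ × ℕ)) :=
  [[(0, 2), (1, 3), (2, 4), (3, 5), (4, 6), (5, 7), (6, 8), (7, 9), (8, 10), (9, 11), (10, 12), (11, 13), (12, 14), (13, 15), (14, 16), (15, 17), (16, 18), (17, 19), (18, 20), (19, 21), (20, 22), (21, 23), (22, 24)],
    [(1, 2), (2, 33), (3, 34), (4, 75), (5, 60), (6, 49), (7, 35), (8, 52), (9, 63), (10, 32), (11, 58), (12, 61), (13, 62), (14, 55), (15, 50), (16, 57), (17, 59), (18, 54), (19, 56), (20, 53), (21, 64), (22, 51)],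
    [(2, 2), (3, 76), (4, 88), (5, 85), (6, 90), (7, 83), (8, 86), (9, 81), (10, 87), (11, 82), (12, 67), (13, 79), (14, 66), (15, 65), (16, 78), (17, 84), (18, 89), (19, 68), (20, 91), (21, 77), (22, 80)],
    [(3, 2), (4, 132), (5, 130), (6, 133), (7, 128), (8, 106), (9, 139), (10, 131), (11, 123), (12, 135), (13, 138), (14, 137), (15, 125), (16, 107), (17, 129), (18, 134), (19, 127), (20, 136), (21, 124), (22, 126)],
    [(5, 2), (14, 148), (17, 149)],
    [(4, 2), (6, 198), (7, 196), (8, 222), (9, 215), (10, 217), (11, 219), (12, 221), (13, 184), (15, 218), (16, 165), (18, 220), (19, 197), (20, 216), (21, 199), (22, 183)]]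

def prog22 : List (ℕ × ℕ) :=
  [
    (0, 2), (0, 3), (0, 4), (0, 5), (0, 6), (0, 7), (0, 8), (0, 9),
    (0, 10), (0, 11), (1, 2), (1, 4), (1, 5), (1, 7), (1, 8), (1, 10),
    (0, 13), (1, 13), (0, 15), (0, 16), (1, 17), (1, 1), (0, 0), (24, 25),
    (19, 19), (19, 27), (27, 27), (28, 29), (30, 26), (31, 2), (0, 1), (26, 0),
    (21, 21), (35, 35), (36, 34), (37, 2), (37, 32), (31, 38), (37, 38), (31, 39),
    (37, 39), (37, 40), (37, 41), (37, 43), (31, 44), (37, 44), (31, 46), (37, 47),
    (31, 50), (33, 1), (18, 18), (53, 53), (53, 54), (55, 52), (42, 42), (42, 57),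
    (58, 56), (59, 32), (59, 47), (59, 48), (59, 50), (59, 61), (59, 2), (59, 65),
    (0, 1), (25, 1), (23, 23), (69, 69), (69, 70), (71, 68), (49, 49), (49, 73),
    (74, 72), (75, 65), (75, 66), (59, 76), (75, 76), (59, 77), (75, 77), (59, 78),
    (59, 79), (59, 80), (75, 80), (59, 81), (75, 82), (75, 83), (75, 84), (75, 87),
    (75, 89), (59, 90), (75, 2), (75, 93), (34, 52), (55, 95), (39, 39), (97, 97),
    (98, 96), (80, 80), (100, 99), (101, 2), (1, 52), (9, 9), (104, 104), (105, 105),
    (104, 106), (107, 103), (88, 88), (88, 109), (110, 108), (94, 94), (112, 111), (113, 2),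
    (113, 102), (68, 95), (11, 11), (117, 117), (118, 118), (117, 119), (120, 116), (63, 63),
    (63, 122), (123, 121), (89, 89), (125, 125), (126, 124), (93, 93), (128, 127), (129, 2),
    (129, 102), (129, 114), (129, 115), (67, 103), (5, 5), (135, 135), (136, 136), (135, 137),
    (138, 134), (48, 48), (140, 140), (141, 139), (81, 81), (143, 143), (144, 142), (145, 2),
    (145, 102), (145, 114), (145, 115), (145, 130), (145, 131), (145, 132), (145, 133)]

def reps22 : List (List (ℕ × ℕ)) :=
  [[(1, 2), (2, 3), (3, 10), (4, 4), (5, 23), (6, 11), (7, 13), (8, 5), (9, 7), (10, 16), (11, 18), (12, 12), (13, 9), (14, 19), (15, 14), (16, 6), (17, 20), (18, 8), (19, 21), (20, 22), (21, 15), (22, 17)],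
    [(2, 2), (3, 41), (4, 43), (5, 64), (6, 46), (7, 42), (8, 32), (9, 62), (10, 51), (11, 60), (12, 38), (13, 63), (14, 49), (15, 44), (16, 47), (17, 50), (18, 40), (19, 45), (20, 48), (21, 61), (22, 39)],
    [(3, 2), (4, 65), (5, 87), (6, 66), (7, 91), (8, 89), (9, 77), (10, 80), (11, 81), (12, 86), (13, 76), (14, 90), (15, 88), (16, 79), (17, 82), (18, 85), (19, 78), (20, 84), (21, 83), (22, 92)],
    [(5, 2), (14, 93), (17, 94)],
    [(4, 2), (6, 102), (7, 115), (8, 152), (9, 133), (10, 131), (11, 130), (12, 132), (13, 148), (15, 151), (16, 146), (18, 150), (19, 149), (20, 153), (21, 147), (22, 114)]]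

theorem simple_facts :
    repsCheck (evalSLP [shiftTab, conjTab, idTab] prog23) 1 reps23 = true ∧
    repsCheck (evalSLP [doubleTab, conj22Tab, idTab] prog22) 2 reps22 = true ∧
    checkAut conjTab = true ∧ checkAut doubleTab = true ∧ checkAut conj22Tab = true ∧
    shiftTab.getD 23 0 = 23 ∧ conjTab.getD 23 0 = 23 ∧
    doubleTab.getD 23 0 = 23 ∧ doubleTab.getD 0 1 = 0 ∧
    conj22Tab.getD 23 0 = 23 ∧ conj22Tab.getD 0 1 = 0 ∧
    powTab shiftTab 23 = idTab ∧ powTab conjTab 23 = idTab ∧
    powTab doubleTab 11 = idTab ∧ powTab conj22Tab 11 = idTab := by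
  decide +kernel

theorem orderOf_gens :
    orderOf shift = 23 ∧ orderOf conjShift = 23 ∧ orderOf double = 11 ∧ orderOf conjDouble = 11 := by
  obtain ⟨-, -, -, -, -, -, -, -, -, -, -, h1, h2, h3, h4⟩ := simple_facts
  exact ⟨tab_shift.orderOf_eq (by norm_num) (by decide +kernel) h1,
    (tab_permOf _).orderOf_eq (by norm_num) (by decide +kernel) h2,
    (tab_permOf _).orderOf_eq (by norm_num) (by decide +kernel) h3,
    (tab_permOf _).orderOf_eq (by norm_num) (by decide +kernel) h4⟩

theorem gens23_mem : ({shift, conjShift} : Set (Equiv.Perm GolayPt)) ⊆ Spor.M23 := by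
  obtain ⟨-, -, hc, -, -, h1, h2, -⟩ := simple_facts
  rintro g (rfl | rfl)
  · exact ⟨shift_mem, show shift none = none by rfl⟩
  · refine ⟨(tab_permOf _).mem_M24 hc, ?_⟩
    show conjShift none = none
    rw [conjShift, (tab_permOf _).apply, show idx none = 23 from rfl, h2]
    rfl

theorem gens22_mem : ({double, conjDouble} : Set (Equiv.Perm GolayPt)) ⊆ Spor.M22 := by
  obtain ⟨-, -, -, hd, he, -, -, h1, h2, h3, h4, -⟩ := simple_facts
  rintro g (rfl | rfl)
  · refine ⟨⟨(tab_permOf _).mem_M24 hd, ?_⟩, ?_⟩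
    · show double none = none
      rw [double, (tab_permOf _).apply, show idx none = 23 from rfl, h1]
      rfl
    · show double (some 0) = some 0
      rw [double, (tab_permOf _).apply, show idx (some 0) = 0 from rfl]
      decide +kernel
  · refine ⟨⟨(tab_permOf _).mem_M24 he, ?_⟩, ?_⟩
    · show conjDouble none = none
      rw [conjDouble, (tab_permOf _).apply, show idx none = 23 from rfl, h3]
      rfl
    · show conjDouble (some 0) = some 0
      rw [conjDouble, (tab_permOf _).apply, show idx (some 0) = 0 from rfl]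
      decide +kernel

theorem M23_eq_closure :
    Subgroup.closure ({shift, conjShift} : Set (Equiv.Perm GolayPt)) = Spor.M23 := by
  refine le_antisymm ((Subgroup.closure_le _).2 gens23_mem) ?_
  rw [M23_eq]
  refine (fixUpTo_le_of_repsCheck
    ((Subgroup.closure_le _).2 (gens23_mem.trans fun g hg => hg.1)) (evalSLP_mem _ _ _ ?_) _ _
    simple_facts.1).1
  intro l hl
  simp only [List.mem_cons, List.not_mem_nil, or_false] at hl
  rcases hl with rfl | rfl | rfl
  · exact ⟨shift, Subgroup.subset_closure (by simp), tab_shift⟩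
  · exact ⟨conjShift, Subgroup.subset_closure (by simp), tab_permOf _⟩
  · exact ⟨1, one_mem _, tab_one⟩

theorem M22_eq_closure :
    Subgroup.closure ({double, conjDouble} : Set (Equiv.Perm GolayPt)) = Spor.M22 := by
  refine le_antisymm ((Subgroup.closure_le _).2 gens22_mem) ?_
  rw [M22_eq]
  refine (fixUpTo_le_of_repsCheck
    ((Subgroup.closure_le _).2 (gens22_mem.trans fun g hg => hg.1.1)) (evalSLP_mem _ _ _ ?_) _ _
    simple_facts.2.1).1
  intro l hl
  simp only [List.mem_cons, List.not_mem_nil, or_false] at hl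
  rcases hl with rfl | rfl | rfl
  · exact ⟨double, Subgroup.subset_closure (by simp), tab_permOf _⟩
  · exact ⟨conjDouble, Subgroup.subset_closure (by simp), tab_permOf _⟩
  · exact ⟨1, one_mem _, tab_one⟩

/-- Generation transfers along an injective map to the permutations. -/
theorem closure_preimage_eq_top {G : Type*} [Group G] (f : G →* Equiv.Perm GolayPt)
    (hf : Function.Injective f) (S : Set (Equiv.Perm GolayPt)) (hS : S ⊆ Set.range f)
    (hrange : f.range ≤ Subgroup.closure S) : Subgroup.closure (f ⁻¹' S) = ⊤ := by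
  apply Subgroup.map_injective hf
  rw [MonoidHom.map_closure, Set.image_preimage_eq_of_subset hS, ← MonoidHom.range_eq_map]
  refine le_antisymm ((Subgroup.closure_le _).2 fun x hx => ?_) hrange
  exact hS hx

theorem isSimpleGroup_M23 : IsSimpleGroup Spor.M23 := by
  have : MulAction.IsMultiplyPretransitive M24 GolayPt 5 := five_transitive
  have : MulAction.IsMultiplyPretransitive M24 GolayPt 1 :=
    MulAction.isMultiplyPretransitive_of_le (n := 5) (by norm_num)
      (by rw [Nat.card_eq_fintype_card, card_golayPt]; norm_num)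
  have : MulAction.IsPretransitive M24 GolayPt := MulAction.is_one_pretransitive_iff.1 this
  obtain ⟨e⟩ := nonempty_stabilizer_equiv_M23 none
  refine e.isSimpleGroup_congr.1 ?_
  set X := SubMulAction.ofStabilizer M24 (none : GolayPt) with hX
  have hXc : Nat.card X = 23 := by
    rw [hX, SubMulAction.nat_card_ofStabilizer_eq, Nat.card_eq_fintype_card, card_golayPt]
  have h4 : MulAction.IsMultiplyPretransitive (MulAction.stabilizer M24 (none : GolayPt)) X 4 :=
    SubMulAction.ofStabilizer.isMultiplyPretransitive.1 five_transitive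
  have : MulAction.IsPreprimitive (MulAction.stabilizer M24 (none : GolayPt)) X :=
    MulAction.isPreprimitive_of_is_two_pretransitive
      (MulAction.isMultiplyPretransitive_of_le (n := 4) (by norm_num) (by rw [hXc]; norm_num))
  have : Nontrivial X := Finite.one_lt_card_iff_nontrivial.1 (by rw [hXc]; norm_num)
  have : FaithfulSMul (MulAction.stabilizer M24 (none : GolayPt)) X := ⟨fun {g h} H => by
    refine Subtype.ext (Subtype.ext (Equiv.ext fun x => ?_))
    by_cases hx : x = none
    · subst hx; exact g.2.trans h.2.symm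
    · exact congrArg Subtype.val (H ⟨x, hx⟩)⟩
  set f := M24.subtype.comp (MulAction.stabilizer M24 (none : GolayPt)).subtype with hf
  have : Fact (Nat.Prime 23) := ⟨by norm_num⟩
  refine isSimpleGroup_of_primitive_prime (X := X) 23 (by rw [hXc])
    (by rw [card_stabilizer]; norm_num) (f ⁻¹' {shift, conjShift}) ?_ ?_
  · intro s hs
    rw [← orderOf_injective f (M24.subtype_injective.comp (Subgroup.subtype_injective _)) s]
    rcases hs with h | h <;> rw [h]
    exacts [orderOf_gens.1, orderOf_gens.2.1]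
  · refine closure_preimage_eq_top f (M24.subtype_injective.comp (Subgroup.subtype_injective _)) _
      (fun g hg => ⟨⟨⟨g, (gens23_mem hg).1⟩, (gens23_mem hg).2⟩, rfl⟩) ?_
    rintro _ ⟨g, rfl⟩
    rw [M23_eq_closure]
    exact ⟨g.1.2, g.2⟩

theorem isSimpleGroup_stabilizer (p : GolayPt) : IsSimpleGroup (MulAction.stabilizer M24 p) := by
  obtain ⟨e⟩ := nonempty_stabilizer_equiv_M23 p
  exact e.isSimpleGroup_congr.2 isSimpleGroup_M23

theorem isSimpleGroup_M24 : IsSimpleGroup M24 := by
  have : MulAction.IsMultiplyPretransitive M24 GolayPt 5 := five_transitive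
  have hc : Nat.card GolayPt = 24 := by rw [Nat.card_eq_fintype_card, card_golayPt]
  have h2 : MulAction.IsMultiplyPretransitive M24 GolayPt 2 :=
    MulAction.isMultiplyPretransitive_of_le (n := 5) (by norm_num) (by rw [hc]; norm_num)
  have : Fact (Nat.Prime 2) := ⟨Nat.prime_two⟩
  have : Fact (Nat.Prime 3) := ⟨Nat.prime_three⟩
  have := isSimpleGroup_stabilizer none
  exact isSimpleGroup_of_simple_stabilizer h2 none 2 3 (by norm_num)
    (by rw [hc]; norm_num) (by rw [hc]; norm_num)

theorem isSimpleGroup_M22 : IsSimpleGroup Spor.M22 := by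
  have : MulAction.IsMultiplyPretransitive M24 GolayPt 5 := five_transitive
  have : MulAction.IsMultiplyPretransitive M24 GolayPt 1 :=
    MulAction.isMultiplyPretransitive_of_le (n := 5) (by norm_num)
      (by rw [Nat.card_eq_fintype_card, card_golayPt]; norm_num)
  have : MulAction.IsPretransitive M24 GolayPt := MulAction.is_one_pretransitive_iff.1 this
  let G1 := MulAction.stabilizer M24 (none : GolayPt)
  let X1 := SubMulAction.ofStabilizer M24 (none : GolayPt)
  let z : X1 := ⟨some 0, Option.some_ne_none _⟩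
  have hX1c : Nat.card X1 = 23 := by
    rw [SubMulAction.nat_card_ofStabilizer_eq, Nat.card_eq_fintype_card, card_golayPt]
  have h4 : MulAction.IsMultiplyPretransitive G1 X1 4 :=
    SubMulAction.ofStabilizer.isMultiplyPretransitive.1 five_transitive
  have : MulAction.IsMultiplyPretransitive G1 X1 1 :=
    MulAction.isMultiplyPretransitive_of_le (n := 4) (by norm_num) (by rw [hX1c]; norm_num)
  have : MulAction.IsPretransitive G1 X1 := MulAction.is_one_pretransitive_iff.1 this
  let G2 := MulAction.stabilizer G1 z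
  let X2 := SubMulAction.ofStabilizer G1 z
  have hX2c : Nat.card X2 = 22 := by
    rw [SubMulAction.nat_card_ofStabilizer_eq, hX1c]
  have h3 : MulAction.IsMultiplyPretransitive G2 X2 3 :=
    SubMulAction.ofStabilizer.isMultiplyPretransitive.1 h4
  have : MulAction.IsPreprimitive G2 X2 :=
    MulAction.isPreprimitive_of_is_two_pretransitive
      (MulAction.isMultiplyPretransitive_of_le (n := 3) (by norm_num) (by rw [hX2c]; norm_num))
  have : Nontrivial X2 := Finite.one_lt_card_iff_nontrivial.1 (by rw [hX2c]; norm_num)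
  have : FaithfulSMul G2 X2 := ⟨fun {g h} H => by
    refine Subtype.ext (Subtype.ext (Subtype.ext (Equiv.ext fun x => ?_)))
    by_cases hx : x = none
    · subst hx; exact g.1.2.trans h.1.2.symm
    by_cases hx0 : x = some 0
    · subst hx0
      exact (congrArg Subtype.val g.2).trans (congrArg Subtype.val h.2).symm
    · exact congrArg (fun y : X2 => y.1.1)
        (H ⟨⟨x, hx⟩, fun e => hx0 (congrArg Subtype.val e)⟩)⟩
  have e : G2 ≃* Spor.M22 :=
    { toFun := fun g => ⟨g.1.1.1, ⟨g.1.1.2, g.1.2⟩, congrArg Subtype.val g.2⟩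
      invFun := fun y => ⟨⟨⟨y.1, y.2.1.1⟩, y.2.1.2⟩, Subtype.ext y.2.2⟩
      left_inv := fun _ => rfl
      right_inv := fun _ => rfl
      map_mul' := fun _ _ => rfl }
  refine e.isSimpleGroup_congr.1 ?_
  let f : G2 →* Equiv.Perm GolayPt := Spor.M22.subtype.comp e.toMonoidHom
  have hf : Function.Injective f := Spor.M22.subtype_injective.comp e.injective
  have : Fact (Nat.Prime 11) := ⟨by norm_num⟩
  refine isSimpleGroup_of_primitive_prime (X := X2) 11 (by rw [hX2c]; norm_num)
    (by rw [Nat.card_congr e.toEquiv, card_M22]; norm_num) (f ⁻¹' {double, conjDouble}) ?_ ?_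
  · intro s hs
    rw [← orderOf_injective f hf s]
    rcases hs with h | h <;> rw [h]
    exacts [orderOf_gens.2.2.1, orderOf_gens.2.2.2]
  · refine closure_preimage_eq_top f hf _ (fun g hg => ⟨e.symm ⟨g, gens22_mem hg⟩, ?_⟩) ?_
    · simp [f]
    · rintro _ ⟨g, rfl⟩
      rw [M22_eq_closure]
      exact (e g).2

theorem isSimpleGroup_stabilizer_two (p q : GolayPt) (hpq : p ≠ q) :
    IsSimpleGroup ↥(MulAction.stabilizer M24 p ⊓ MulAction.stabilizer M24 q) := by
  obtain ⟨e⟩ := nonempty_stabilizer_equiv_M22 p q hpq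
  exact e.isSimpleGroup_congr.2 isSimpleGroup_M22

end Cfsg.Agent.Golay
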