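import Cfsg.Agent.Lib.Golay.Order

/-!
Transitivity of `Cfsg.M24` on octads and dodecads, `M24` as the automorphism group of the
octads, and point stabilisers.
-/

set_option autoImplicit false

namespace Cfsg.Agent.Golay

open scoped Pointwise

theorem smul_mem_supports {g : Equiv.Perm GolayPt} (hg : g ∈ M24) {s : Finset GolayPt}
    (hs : s ∈ supports (golayCode : Set (GolayPt → ZMod 2))) :
    g • s ∈ supports (golayCode : Set (GolayPt → ZMod 2)) := mem_setSystemAut_iff.1 hg _ hs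

theorem smul_mem_wordsOfWeight {g : Equiv.Perm GolayPt} (hg : g ∈ M24) {s : Finset GolayPt} {k : ℕ}
    (hs : s ∈ wordsOfWeight (golayCode : Set (GolayPt → ZMod 2)) k) :
    g • s ∈ wordsOfWeight (golayCode : Set (GolayPt → ZMod 2)) k :=
  ⟨smul_mem_supports hg hs.1, by rw [Finset.card_smul_finset]; exact hs.2⟩

theorem smul_mem_octads {g : Equiv.Perm GolayPt} (hg : g ∈ M24) {s : Finset GolayPt}
    (hs : s ∈ octads) : g • s ∈ octads := smul_mem_wordsOfWeight hg hs

theorem smul_mem_dodecads {g : Equiv.Perm GolayPt} (hg : g ∈ M24) {s : Finset GolayPt}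
    (hs : s ∈ dodecads) : g • s ∈ dodecads := smul_mem_wordsOfWeight hg hs

theorem octad_transitive {o o' : Finset GolayPt} (ho : o ∈ octads) (ho' : o' ∈ octads) :
    ∃ g ∈ M24, g • o = o' := by
  obtain ⟨s, hs, hsc⟩ := Finset.exists_subset_card_eq (s := o) (n := 5)
    (by rw [card_of_mem_octads ho]; norm_num)
  obtain ⟨s', hs', hsc'⟩ := Finset.exists_subset_card_eq (s := o') (n := 5)
    (by rw [card_of_mem_octads ho']; norm_num)
  have hmp := five_transitive
  obtain ⟨g, hg⟩ := hmp.exists_smul_eq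
    ((s.equivFinOfCardEq hsc).symm.toEmbedding.trans (Function.Embedding.subtype _))
    ((s'.equivFinOfCardEq hsc').symm.toEmbedding.trans (Function.Embedding.subtype _))
  refine ⟨g.1, g.2, octad_unique (smul_mem_octads g.2 ho) ho' hsc'.ge (fun p hp => ?_) hs'⟩
  have hj : g.1 ((s.equivFinOfCardEq hsc).symm ((s'.equivFinOfCardEq hsc') ⟨p, hp⟩)) =
      (((s'.equivFinOfCardEq hsc').symm ((s'.equivFinOfCardEq hsc') ⟨p, hp⟩)) : GolayPt) :=
    DFunLike.congr_fun hg _
  rw [Equiv.symm_apply_apply] at hj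
  simp only at hj
  rw [← hj]
  exact Finset.smul_mem_smul_finset (hs (Finset.coe_mem _))

def octBasis : List ℕ :=
  [13062145, 4845570, 13938692, 7221256, 10170384, 11952160, 15515712, 2019456, 4038912, 8077824, 11654144, 14919680]

def octMask : List ℕ :=
  [1, 2, 4, 8, 16, 32, 64, 128, 256, 512, 1024, 2048]

theorem octBasis_facts : basisN = octMask.map (combAux octBasis) ∧
    octBasis.all (fun o => inCode o && popc o == 8) = true := by decide +kernel

theorem mem_M24_of_octads {g : Equiv.Perm GolayPt} (hg : ∀ o ∈ octads, g • o ∈ octads) :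
    g ∈ M24 := by
  rw [mem_M24_iff]
  intro w hw
  have hle : golayCode ≤ Submodule.comap (LinearMap.funLeft (ZMod 2) (ZMod 2) g.symm) golayCode := by
    rw [golayCode_eq]
    rintro _ ⟨m, -, rfl⟩
    rw [← golayCode_eq]
    refine toWord_combAux_mem _ _ _ fun b hb => ?_
    rw [octBasis_facts.1, List.mem_map] at hb
    obtain ⟨k, -, rfl⟩ := hb
    refine toWord_combAux_mem _ _ _ fun o ho => ?_
    have ho' := List.all_eq_true.1 octBasis_facts.2 o ho
    simp only [Bool.and_eq_true, beq_iff_eq] at ho'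
    obtain ⟨v, hv, hvs⟩ := (hg _ (octad_mem_iff.2 ⟨o, ho'.1, ho'.2, rfl⟩)).1
    rw [← support₂_toWord, smul_support₂] at hvs
    rw [Submodule.mem_comap,
      show LinearMap.funLeft (ZMod 2) (ZMod 2) g.symm (toWord o) = toWord o ∘ g.symm from rfl,
      ← support₂_injective hvs]
    exact hv
  exact hle hw

theorem M24_eq_octad_aut : M24 = setSystemAut octads := by
  refine le_antisymm (fun g hg => ?_) (fun g hg => mem_M24_of_octads (mem_setSystemAut_iff.1 hg))
  exact mem_setSystemAut_iff.2 fun o ho => smul_mem_octads hg ho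

def dfs0 : List ℕ :=
  [27, 55, 111, 223, 447, 894, 1789, 3579, 3063, 2030, 4061, 4026,
    3956, 3816, 3536, 2976, 1856, 3712, 3328, 2561, 1027, 2054, 6622, 957,
    1914, 3828, 3560, 3025, 1954, 3908, 3720, 3345, 2594, 1093, 2187, 278,
    556, 1113, 2227, 359, 718, 1437, 2875, 1655, 3311, 6804, 1321, 2642,
    1188, 2377, 658, 1316, 2633, 1171, 2342, 589, 1179, 2359, 622, 1245,
    2490, 885, 1770, 3540, 2985, 1874, 3749, 3402, 8602, 820, 1640, 3281,
    2467, 839, 1679, 3359, 2623, 1150, 2300, 504, 1008, 2016, 4032, 3969,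
    3843, 3590, 3084, 2073, 51, 102, 205, 7257, 2226, 356, 712, 1425,
    2851, 1606, 3212, 2329, 563, 1127, 2254, 413, 827, 1654, 3308, 2520,
    945, 1890, 3781, 3467, 2838, 1580, 6835, 1382, 2765, 1434, 2868, 1641,
    3282, 2469, 843, 1687, 3374, 2652, 1209, 2418, 741, 1482, 2965, 1834,
    3669, 3243, 2390, 684, 1369, 11919, 3358, 2620, 1144, 2288, 480, 961,
    1923, 3847, 3599, 3102, 2108, 121, 243, 487, 974, 1949, 3898, 3700,
    3304, 2513, 931, 1863, 7338, 2389, 682, 1365, 2731, 1367, 2734, 1373,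
    2746, 1396, 2792, 1488, 2977, 1859, 3718, 3340, 2585, 1074, 2149, 202,
    405, 810, 1621, 6265, 242, 484, 968, 1937, 3874, 3653, 3211, 2326,
    557, 1114, 2229, 363, 726, 1452, 2904, 1712, 3425, 2755, 1415, 2831,
    1566, 3132, 8924, 1464, 2929, 1762, 3525, 2954, 1812, 3624, 3153, 2211,
    327, 654, 1308, 2616, 1137, 2274, 453, 907, 1814, 3629, 3163, 2231,
    366, 7041, 1795, 3591, 3087, 2079, 63, 126, 252, 505, 1011, 2022,
    4044, 3993, 3890, 3685, 3275, 2455, 814, 1628, 3256, 2416, 736, 1472,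
    4562, 932, 1864, 3729]

def dfs1 : List ℕ :=
  [3363, 2631, 1166, 2333, 570, 1141, 2283, 471, 942, 1884, 3768, 3441,
    2787, 1479, 2958, 1821, 3642, 3188, 2281, 24086, 3116, 2137, 178, 357,
    715, 1431, 2863, 1630, 3261, 2426, 756, 1513, 3027, 1959, 3918, 3740,
    3384, 2672, 1249, 2498, 901, 1803, 11929, 3378, 2660, 1224, 2448, 801,
    1602, 3205, 2315, 534, 1069, 2139, 183, 367, 735, 1470, 2941, 1786,
    3572, 3049, 2003, 4006, 3916, 6206, 124, 249, 499, 999, 1999, 3998,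
    3901, 3707, 3318, 2540, 984, 1969, 3938, 3780, 3464, 2832, 1568, 3137,
    2179, 263, 527, 1055, 6488, 689, 1378, 2756, 1416, 2833, 1571, 3143,
    2191, 287, 574, 1148, 2297, 498, 996, 1993, 3986, 3877, 3658, 3221,
    2347, 598, 1196, 23977, 2899, 1703, 3406, 2717, 1339, 2679, 1262, 2524,
    952, 1904, 3808, 3521, 2947, 1798, 3597, 3099, 2102, 109, 218, 437,
    874, 1748, 22392, 3825, 3554, 3013, 1931, 3862, 3628, 3160, 2225, 354,
    708, 1417, 2834, 1573, 3147, 2199, 302, 605, 1211, 2423, 751, 1502,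
    3004, 28414, 3580, 3064, 2032, 4064, 4033, 3970, 3845, 3594, 3092, 2088,
    80, 161, 323, 647, 1294, 2589, 1083, 2167, 239, 479, 959, 1919,
    10447, 414, 829, 1658, 3316, 2537, 978, 1957, 3915, 3734, 3372, 2649,
    1203, 2406, 716, 1432, 2865, 1635, 3270, 2444, 793, 1587, 3175, 6942,
    1597, 3194, 2292, 489, 979, 1958, 3917, 3738, 3380, 2664, 1232, 2465,
    834, 1669, 3339, 2582, 1068, 2136, 177, 355, 711, 1423, 23859, 2663,
    1230, 2460, 825, 1651, 3302, 2508, 920, 1840, 3681, 3266, 2437, 779,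
    1558, 3117, 2138, 180, 361, 723, 1446, 2892, 1689, 10685, 890, 1780,
    3561, 3026, 1956, 3912]

def dfs2 : List ℕ :=
  [3728, 3360, 2625, 1154, 2309, 523, 1046, 2092, 89, 179, 358, 717,
    1435, 2871, 1647, 3294, 6343, 399, 798, 1596, 3193, 2290, 485, 971,
    1943, 3886, 3677, 3258, 2421, 746, 1492, 2984, 1873, 3747, 3398, 2700,
    1304, 2609, 1123, 5642, 3093, 2091, 86, 173, 347, 694, 1389, 2778,
    1461, 2922, 1749, 3498, 2901, 1707, 3414, 2732, 1368, 2736, 1376, 2753,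
    1410, 2821, 11857, 3234, 2372, 649, 1299, 2598, 1100, 2201, 307, 614,
    1228, 2457, 819, 1639, 3279, 2462, 828, 1657, 3314, 2533, 970, 1940,
    3880, 4719, 1246, 2492, 889, 1778, 3557, 3018, 1941, 3883, 3671, 3246,
    2396, 696, 1392, 2785, 1474, 2948, 1801, 3603, 3110, 2125, 155, 311,
    10821, 1163, 2327, 558, 1116, 2233, 371, 743, 1487, 2975, 1854, 3708,
    3321, 2546, 997, 1994, 3988, 3881, 3666, 3236, 2376, 657, 1314, 6042,
    3893, 3690, 3285, 2474, 853, 1706, 3413, 2730, 1364, 2728, 1361, 2722,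
    1349, 2699, 1303, 2607, 1118, 2236, 377, 755, 1510, 3021, 6268, 248,
    496, 993, 1987, 3974, 3852, 3608, 3121, 2146, 197, 395, 791, 1582,
    3164, 2232, 368, 737, 1475, 2951, 1807, 3615, 3134, 8668, 953, 1907,
    3814, 3533, 2971, 1847, 3694, 3292, 2488, 880, 1760, 3520, 2944, 1792,
    3585, 3075, 2055, 14, 29, 59, 119, 238, 7953, 3619, 3142, 2188,
    281, 562, 1124, 2248, 401, 803, 1607, 3215, 2335, 575, 1151, 2303,
    510, 1020, 2040, 4081, 4066, 4036, 3976, 4262, 332, 665, 1331, 2662,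
    1229, 2458, 821, 1643, 3287, 2479, 863, 1726, 3452, 2808, 1520, 3041,
    1986, 3973, 3850, 3604, 3113, 2131, 22214, 3468, 2841, 1586, 3172, 2249,
    402, 805, 1611, 3223]

def dfs3 : List ℕ :=
  [2350, 604, 1208, 2417, 739, 1478, 2957, 1819, 3638, 3180, 2264, 433,
    867, 11779, 3078, 2061, 26, 52, 105, 211, 423, 847, 1694, 3388,
    2681, 1267, 2535, 975, 1950, 3900, 3704, 3312, 2528, 960, 1920, 3841,
    5439, 2686, 1276, 2553, 1010, 2021, 4042, 3989, 3882, 3668, 3240, 2384,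
    672, 1345, 2690, 1285, 2570, 1044, 2089, 83, 167, 335, 671, 6267,
    247, 494, 988, 1976, 3952, 3809, 3522, 2949, 1802, 3605, 3114, 2133,
    170, 340, 680, 1360, 2721, 1347, 2695, 1295, 2590, 1085, 8653, 922,
    1845, 3691, 3286, 2476, 857, 1714, 3428, 2761, 1427, 2854, 1612, 3224,
    2352, 609, 1219, 2439, 782, 1564, 3129, 2163, 230, 8131, 3975, 3855,
    3614, 3133, 2170, 244, 488, 976, 1952, 3905, 3714, 3333, 2571, 1047,
    2095, 95, 191, 382, 764, 1528, 3056, 2017, 4898, 1604, 3209, 2323,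
    551, 1102, 2204, 313, 626, 1253, 2507, 919, 1838, 3676, 3257, 2419,
    742, 1484, 2969, 1842, 3684, 3272, 2449, 20567, 174, 349, 698, 1397,
    2795, 1494, 2989, 1883, 3767, 3439, 2782, 1468, 2936, 1776, 3552, 3008,
    1921, 3842, 3589, 3082, 2069, 43, 12057, 3634, 3173, 2250, 404, 809,
    1619, 3238, 2381, 667, 1334, 2668, 1241, 2483, 871, 1743, 3486, 2876,
    1656, 3313, 2531, 966, 1932, 7602, 2916, 1736, 3473, 2850, 1605, 3210,
    2325, 555, 1110, 2221, 346, 693, 1387, 2774, 1453, 2907, 1718, 3437,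
    2779, 1462, 2924, 1753, 4216, 240, 481, 962, 1925, 3851, 3607, 3119,
    2143, 190, 381, 762, 1524, 3048, 2000, 4000, 3904, 3713, 3331, 2567,
    1039, 2078, 60, 11612, 2744, 1393, 2786, 1476, 2952, 1809, 3618, 3141,
    2186, 277, 554, 1109]

def dfs4 : List ℕ :=
  [2219, 342, 685, 1370, 2741, 1386, 2773, 1451, 2903, 1710, 7969, 3651,
    3207, 2318, 540, 1081, 2162, 229, 459, 918, 1837, 3674, 3253, 2411,
    727, 1455, 2910, 1724, 3449, 2802, 1508, 3016, 1936, 4410, 628, 1257,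
    2515, 934, 1869, 3739, 3383, 2670, 1244, 2489, 883, 1766, 3532, 2968,
    1841, 3682, 3268, 2441, 787, 1575, 3150, 2205, 43729, 1442, 2885, 1675,
    3350, 2605, 1115, 2230, 365, 730, 1460, 2921, 1747, 3494, 2893, 1690,
    3381, 2667, 1238, 2477, 858, 1716, 3432, 5974, 3756, 3416, 2737, 1379,
    2759, 1422, 2845, 1595, 3190, 2284, 472, 944, 1889, 3779, 3463, 2830,
    1565, 3130, 2165, 234, 469, 939, 4728, 1265, 2530, 965, 1930, 3861,
    3626, 3156, 2217, 339, 679, 1358, 2716, 1336, 2673, 1250, 2500, 905,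
    1811, 3623, 3151, 2206, 316, 23941, 2827, 1559, 3118, 2140, 184, 369,
    738, 1477, 2955, 1815, 3630, 3165, 2235, 374, 749, 1499, 2998, 1900,
    3800, 3504, 2913, 1730, 21484, 2008, 4017, 3939, 3783, 3470, 2844, 1592,
    3184, 2272, 448, 897, 1794, 3588, 3081, 2067, 39, 79, 159, 318,
    637, 1275, 2550, 9334, 2285, 475, 950, 1901, 3803, 3510, 2925, 1754,
    3508, 2920, 1744, 3488, 2881, 1666, 3332, 2568, 1041, 2083, 71, 142,
    285, 571, 11293, 2106, 117, 235, 470, 941, 1882, 3764, 3433, 2770,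
    1444, 2889, 1683, 3367, 2638, 1180, 2360, 624, 1248, 2497, 899, 1799,
    3598, 23777, 2499, 902, 1805, 3610, 3124, 2152, 209, 418, 837, 1674,
    3349, 2603, 1111, 2222, 348, 697, 1395, 2791, 1486, 2972, 1848, 3696,
    8838, 1293, 2587, 1079, 2159, 222, 444, 888, 1777, 3555, 3014, 1933,
    3866, 3636, 3177, 2258]

def dfs5 : List ℕ :=
  [421, 842, 1684, 3368, 2640, 1185, 2371, 9747, 3111, 2126, 157, 315,
    631, 1263, 2527, 958, 1916, 3832, 3568, 3040, 1985, 3971, 3846, 3596,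
    3096, 2096, 97, 194, 388, 777, 5243, 2294, 492, 985, 1970, 3940,
    3784, 3472, 2849, 1603, 3206, 2317, 538, 1077, 2154, 212, 424, 849,
    1699, 3399, 2703, 1310, 2621, 39221, 619, 1239, 2478, 860, 1720, 3440,
    2784, 1473, 2946, 1797, 3595, 3095, 2094, 92, 185, 370, 740, 1481,
    2963, 1830, 3661, 3226, 26315, 3479, 2862, 1629, 3259, 2422, 748, 1496,
    2992, 1888, 3776, 3457, 2818, 1541, 3083, 2070, 45, 91, 182, 364,
    729, 1458, 2917, 27828, 2408, 721, 1443, 2886, 1677, 3354, 2613, 1130,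
    2261, 426, 852, 1705, 3411, 2726, 1356, 2713, 1330, 2661, 1227, 2454,
    813, 1626, 11918, 3357, 2618, 1140, 2280, 465, 930, 1860, 3721, 3346,
    2596, 1097, 2195, 295, 591, 1182, 2365, 634, 1268, 2536, 977, 1955,
    3911, 6197, 107, 214, 429, 859, 1719, 3438, 2781, 1466, 2932, 1768,
    3537, 2979, 1862, 3724, 3352, 2608, 1120, 2241, 387, 774, 1549, 3098,
    23857, 2658, 1220, 2440, 784, 1569, 3138, 2181, 267, 535, 1070, 2141,
    187, 375, 750, 1501, 3002, 1908, 3817, 3539, 2982, 1868, 3736, 23713,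
    2370, 645, 1291, 2583, 1071, 2142, 189, 379, 758, 1516, 3033, 1971,
    3943, 3790, 3484, 2873, 1650, 3301, 2506, 916, 1832, 3664, 11414, 2349,
    602, 1204, 2409, 722, 1445, 2890, 1685, 3371, 2646, 1197, 2395, 695,
    1390, 2780, 1465, 2930, 1764, 3529, 2962, 1829, 3659, 37990, 2253, 411,
    823, 1646, 3293, 2491, 886, 1772, 3544, 2993, 1891, 3782, 3469, 2842,
    1588, 3176, 2257, 419]

def dfs6 : List ℕ :=
  [838, 1676, 3353, 2611, 25757, 2363, 630, 1260, 2521, 946, 1892, 3785,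
    3475, 2855, 1615, 3230, 2364, 633, 1266, 2532, 969, 1938, 3876, 3657,
    3219, 2343, 590, 6314, 341, 683, 1366, 2733, 1371, 2742, 1388, 2777,
    1459, 2918, 1741, 3483, 2870, 1644, 3288, 2481, 866, 1733, 3466, 2837,
    1578, 3157, 6548, 808, 1616, 3232, 2369, 643, 1287, 2575, 1054, 2109,
    122, 245, 491, 982, 1964, 3929, 3763, 3430, 2764, 1433, 2866, 1637,
    3274, 24121, 3186, 2277, 458, 917, 1835, 3670, 3245, 2394, 692, 1384,
    2768, 1441, 2883, 1671, 3342, 2588, 1080, 2161, 227, 455, 910, 1820,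
    23665, 2275, 454, 909, 1818, 3637, 3178, 2260, 425, 850, 1701, 3403,
    2711, 1327, 2654, 1212, 2424, 753, 1507, 3015, 1934, 3868, 3640, 23972,
    2888, 1680, 3361, 2626, 1156, 2313, 531, 1063, 2127, 158, 317, 635,
    1271, 2542, 989, 1979, 3958, 3821, 3546, 2996, 1897, 3794, 8870, 1357,
    2714, 1332, 2665, 1235, 2471, 846, 1693, 3386, 2677, 1259, 2518, 940,
    1881, 3762, 3429, 2762, 1429, 2858, 1620, 3241, 2387, 28329, 3410, 2725,
    1354, 2709, 1322, 2644, 1192, 2385, 675, 1351, 2702, 1309, 2619, 1143,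
    2286, 477, 954, 1909, 3818, 3541, 2986, 1876, 6562, 836, 1673, 3347,
    2599, 1103, 2207, 319, 638, 1277, 2554, 1012, 2025, 4050, 4004, 3913,
    3731, 3366, 2637, 1178, 2356, 616, 1233, 26906, 565, 1131, 2262, 428,
    856, 1713, 3426, 2757, 1419, 2839, 1583, 3167, 2238, 380, 761, 1522,
    3044, 1992, 3985, 3875, 3654, 3213, 7556, 2824, 1553, 3106, 2116, 137,
    274, 549, 1099, 2198, 301, 603, 1207, 2415, 734, 1469, 2939, 1782,
    3564, 3032, 1968, 3937]

def dfs7 : List ℕ :=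
  [3778, 11682, 2884, 1672, 3344, 2593, 1091, 2183, 270, 541, 1082, 2164,
    233, 467, 935, 1870, 3741, 3387, 2678, 1261, 2522, 948, 1896, 3793,
    22203, 3446, 2796, 1497, 2995, 1894, 3788, 3481, 2867, 1638, 3276, 2456,
    816, 1633, 3267, 2438, 781, 1562, 3125, 2155, 215, 430, 861, 23186,
    1317, 2634, 1173, 2346, 597, 1194, 2388, 681, 1363, 2727, 1359, 2719,
    1342, 2685, 1274, 2549, 1002, 2004, 4009, 3922, 3748, 3401, 55076, 3656,
    3216, 2337, 578, 1157, 2314, 533, 1067, 2135, 175, 350, 700, 1401,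
    2803, 1511, 3022, 1948, 3897, 3698, 3300, 2505, 914, 11044, 1609, 3218,
    2340, 584, 1169, 2339, 583, 1167, 2334, 572, 1145, 2291, 486, 973,
    1947, 3894, 3692, 3289, 2482, 868, 1737, 3474, 5149, 2107, 118, 237,
    474, 949, 1899, 3799, 3502, 2908, 1721, 3443, 2790, 1485, 2970, 1844,
    3688, 3280, 2464, 833, 1667, 3335, 2574, 7294, 2301, 507, 1014, 2028,
    4056, 4016, 3936, 3777, 3458, 2820, 1545, 3091, 2087, 78, 156, 312,
    625, 1251, 2503, 911, 1823, 3647, 60531, 2278, 460, 921, 1843, 3687,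
    3278, 2461, 826, 1653, 3306, 2516, 937, 1875, 3750, 3404, 2712, 1329,
    2659, 1223, 2446, 796, 1593, 23602, 2148, 201, 403, 806, 1613, 3227,
    2358, 621, 1243, 2486, 877, 1755, 3511, 2926, 1756, 3512, 2928, 1761,
    3523, 2950, 1804, 3609, 11917, 3355, 2614, 1132, 2265, 434, 869, 1738,
    3476, 2856, 1617, 3235, 2375, 655, 1311, 2622, 1149, 2298, 500, 1000,
    2001, 4003, 3910, 42151, 2383, 670, 1340, 2680, 1264, 2529, 963, 1926,
    3853, 3611, 3127, 2158, 221, 442, 884, 1769, 3538, 2981, 1866, 3732,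
    3369, 2643, 5294, 2397]

def dfs8 : List ℕ :=
  [699, 1398, 2797, 1498, 2997, 1898, 3796, 3496, 2896, 1697, 3394, 2693,
    1290, 2580, 1065, 2130, 165, 330, 661, 1323, 2647, 7461, 2635, 1174,
    2348, 601, 1202, 2405, 714, 1428, 2857, 1618, 3237, 2379, 663, 1326,
    2653, 1210, 2420, 745, 1490, 2980, 1865, 3730, 70449, 1634, 3269, 2442,
    789, 1579, 3158, 2220, 345, 691, 1383, 2766, 1436, 2872, 1649, 3299,
    2502, 908, 1817, 3635, 3174, 2252, 408, 70819, 2374, 652, 1305, 2610,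
    1125, 2251, 407, 815, 1631, 3262, 2428, 760, 1521, 3042, 1988, 3977,
    3858, 3621, 3146, 2196, 296, 593, 25368, 1584, 3169, 2243, 390, 780,
    1561, 3123, 2151, 207, 415, 830, 1660, 3320, 2545, 995, 1990, 3980,
    3864, 3633, 3171, 2246, 396, 25458, 1765, 3530, 2964, 1833, 3667, 3239,
    2382, 669, 1338, 2676, 1256, 2512, 928, 1857, 3715, 3334, 2573, 1051,
    2103, 110, 220, 441, 120165, 2763, 1430, 2860, 1624, 3249, 2402, 709,
    1418, 2836, 1577, 3155, 2214, 333, 666, 1333, 2666, 1237, 2475, 854,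
    1708, 3417, 2738, 39915, 2006, 4012, 3928, 3760, 3424, 2752, 1409, 2819,
    1542, 3085, 2074, 53, 106, 213, 427, 855, 1711, 3423, 2750, 1405,
    2810, 1525, 108615, 143, 286, 573, 1146, 2293, 490, 981, 1962, 3925,
    3755, 3415, 2735, 1374, 2748, 1400, 2800, 1505, 3010, 1924, 3848, 3601,
    3107, 21798, 2636, 1177, 2354, 612, 1225, 2451, 807, 1614, 3229, 2362,
    629, 1258, 2517, 938, 1877, 3754, 3412, 2729, 1362, 2724, 1353, 2707,
    122289, 2914, 1732, 3465, 2835, 1574, 3149, 2203, 310, 620, 1240, 2480,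
    865, 1731, 3462, 2829, 1563, 3126, 2157, 219, 438, 876, 1752, 23097,
    1138, 2276, 457, 915]

def dfs9 : List ℕ :=
  [1831, 3662, 3228, 2361, 627, 1254, 2509, 923, 1846, 3693, 3290, 2484,
    872, 1745, 3491, 2887, 1678, 3356, 23728, 2401, 707, 1414, 2828, 1560,
    3120, 2145, 195, 391, 783, 1567, 3135, 2175, 254, 508, 1017, 2034,
    4069, 4043, 3990, 3884, 3672, 207945, 2194, 292, 585, 1170, 2341, 587,
    1175, 2351, 607, 1214, 2429, 763, 1527, 3054, 2012, 4024, 3953, 3810,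
    3524, 2953, 1810, 3620, 58338, 1989, 3978, 3860, 3625, 3154, 2213, 331,
    662, 1325, 2651, 1206, 2412, 728, 1457, 2915, 1735, 3471, 2847, 1598,
    3196, 2296, 497, 170964, 1960, 3920, 3745, 3395, 2694, 1292, 2584, 1073,
    2147, 198, 397, 795, 1590, 3181, 2267, 439, 879, 1758, 3517, 2938,
    1781, 3562, 192121, 3315, 2534, 972, 1944, 3888, 3680, 3265, 2435, 775,
    1550, 3100, 2105, 115, 231, 462, 924, 1849, 3699, 3303, 2511, 926,
    1852, 55878, 1165, 2331, 566, 1133, 2266, 436, 873, 1746, 3493, 2891,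
    1686, 3373, 2650, 1205, 2410, 724, 1449, 2898, 1700, 3400, 2705, 1315,
    192484, 4040, 3984, 3872, 3648, 3201, 2306, 516, 1032, 2065, 34, 69,
    139, 279, 559, 1119, 2239, 383, 767, 1534, 3068, 2041, 4082, 25007,
    862, 1725, 3450, 2804, 1512, 3024, 1953, 3906, 3716, 3337, 2579, 1062,
    2124, 152, 305, 611, 1222, 2445, 794, 1589, 3179, 2263, 6415, 543,
    1087, 2174, 253, 506, 1013, 2026, 4052, 4008, 3921, 3746, 3397, 2698,
    1300, 2601, 1106, 2212, 328, 656, 1313, 2627, 1159, 142276, 1928, 3856,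
    3616, 3136, 2176, 257, 515, 1031, 2063, 31, 62, 125, 250, 501,
    1003, 2007, 4015, 3934, 3772, 3448, 2801, 1506, 1283247, 2398, 701, 1402,
    2805, 1515, 3030, 1965]

def dfs10 : List ℕ :=
  [3930, 3765, 3434, 2772, 1448, 2897, 1698, 3396, 2697, 1298, 2597, 1098,
    2197, 299, 599]

/-- A depth-first search of the dodecads. -/
def dfsAll : List ℕ :=
  dfs0 ++ dfs1 ++ dfs2 ++ dfs3 ++ dfs4 ++ dfs5 ++ dfs6 ++ dfs7 ++ dfs8 ++ dfs9 ++ dfs10

def dfsCheck : List ℕ → List ℕ → Bool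
  | _, [] => true
  | stack, k :: r =>
    match stack.drop (k / 16384) with
    | [] => false
    | d :: rest =>
      maps ([shiftTab, projInvTab, cubeTwistTab].getD (k / 4096 % 4) idTab) d (comb (k % 4096)) &&
        dfsCheck (comb (k % 4096) :: d :: rest) r

/-- The orbit of a set of points under `M24`, as a predicate on masks. -/
def InOrb (d0 n : ℕ) : Prop := ∃ g ∈ M24, g • toSet d0 = toSet n

theorem dfsCheck_sound (d0 : ℕ) : ∀ (L stack : List ℕ), dfsCheck stack L = true →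
    (∀ d ∈ stack, InOrb d0 d) → ∀ k ∈ L, InOrb d0 (comb (k % 4096))
  | [], _, _, _ => fun k hk => absurd hk List.not_mem_nil
  | k :: r, stack, hc, hs => by
    rw [dfsCheck] at hc
    split at hc
    · exact absurd hc Bool.false_ne_true
    rename_i d rest heq
    rw [Bool.and_eq_true] at hc
    have hmem : ∀ x ∈ d :: rest, InOrb d0 x := fun x hx =>
      hs x (List.mem_of_mem_drop (heq ▸ hx))
    have hnew : InOrb d0 (comb (k % 4096)) := by
      obtain ⟨g, hg, hgd⟩ := hmem d List.mem_cons_self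
      obtain ⟨σ, hσ, hσt⟩ : ∃ σ ∈ M24,
          Tab σ ([shiftTab, projInvTab, cubeTwistTab].getD (k / 4096 % 4) idTab) := by
        have : k / 4096 % 4 < 4 := Nat.mod_lt _ (by norm_num)
        interval_cases k / 4096 % 4
        exacts [⟨_, shift_mem, tab_shift⟩, ⟨_, projInv_mem, tab_projInv⟩,
          ⟨_, cubeTwist_mem, tab_cubeTwist⟩, ⟨1, M24.one_mem, tab_one⟩]
      exact ⟨σ * g, M24.mul_mem hσ hg, by rw [mul_smul, hgd]; exact hσt.smul_toSet hc.1⟩
    intro x hx
    rcases List.mem_cons.1 hx with rfl | hx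
    · exact hnew
    · refine dfsCheck_sound d0 r _ hc.2 ?_ x hx
      intro y hy
      rcases List.mem_cons.1 hy with rfl | hy
      · exact hnew
      · exact hmem y hy

/-- The dodecad the search starts from. -/
def dodecad0 : ℕ := 8245261

/-- The information bits of the dodecads found, collected in one number. -/
def foundSet (L : List ℕ) : ℕ := L.foldl (fun a k => a ||| 2 ^ (k % 4096)) (2 ^ (dodecad0 % 4096))

theorem testBit_foldl : ∀ (L : List ℕ) (a m : ℕ),
    (L.foldl (fun a k => a ||| 2 ^ (k % 4096)) a).testBit m = true →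
      a.testBit m = true ∨ ∃ k ∈ L, k % 4096 = m
  | [], a, m, h => Or.inl h
  | k :: r, a, m, h => by
    rcases testBit_foldl r _ m h with h | ⟨x, hx, e⟩
    · rw [Nat.testBit_or, Bool.or_eq_true, Nat.testBit_two_pow] at h
      rcases h with h | h
      · exact Or.inl h
      · exact Or.inr ⟨k, List.mem_cons_self, of_decide_eq_true h⟩
    · exact Or.inr ⟨x, List.mem_cons_of_mem _ hx, e⟩

set_option maxRecDepth 40000 in
theorem dfs_checked : dfsCheck [dodecad0] dfsAll = true ∧ inCode dodecad0 = true ∧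
    (∀ a : Fin 64, ∀ b : Fin 64, popc (comb (64 * a.val + b.val)) = 12 →
      (foundSet dfsAll).testBit (64 * a.val + b.val) = true) := by
  decide +kernel

theorem dodecad_orbit {d : Finset GolayPt} (hd : d ∈ dodecads) :
    ∃ g ∈ M24, g • toSet dodecad0 = d := by
  obtain ⟨n, hn, hw, rfl⟩ := dodecad_mem_iff.1 hd
  obtain ⟨hc, h0, hall⟩ := dfs_checked
  have hn' : comb (n % 4096) = n := beq_iff_eq.1 hn
  have hb := hall ⟨n % 4096 / 64, by omega⟩ ⟨n % 4096 % 64, Nat.mod_lt _ (by norm_num)⟩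
    (by rw [Nat.div_add_mod, hn', hw])
  simp only [Nat.div_add_mod] at hb
  rcases testBit_foldl _ _ _ hb with h | ⟨k, hk, e⟩
  · rw [Nat.testBit_two_pow] at h
    refine ⟨1, M24.one_mem, ?_⟩
    rw [one_smul]
    have h0' : comb (dodecad0 % 4096) = dodecad0 := beq_iff_eq.1 h0
    rw [← hn', ← of_decide_eq_true h, h0']
  · have := dfsCheck_sound dodecad0 dfsAll [dodecad0] hc
      (fun x hx => by
        rw [List.mem_singleton] at hx
        exact ⟨1, M24.one_mem, by rw [hx, one_smul]⟩) k hk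
    rwa [e, hn'] at this

theorem dodecad_transitive {d d' : Finset GolayPt} (hd : d ∈ dodecads) (hd' : d' ∈ dodecads) :
    ∃ g ∈ M24, g • d = d' := by
  obtain ⟨g, hg, rfl⟩ := dodecad_orbit hd
  obtain ⟨h, hh, rfl⟩ := dodecad_orbit hd'
  exact ⟨h * g⁻¹, M24.mul_mem hh (M24.inv_mem hg), by rw [mul_smul, inv_smul_smul]⟩

theorem bp_zero : bp 0 = none := by decide +kernel

theorem bp_one : bp 1 = some 0 := by decide +kernel

theorem exists_map_two {p q : GolayPt} (hpq : p ≠ q) :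
    ∃ g ∈ M24, g none = p ∧ g (some 0) = q := by
  obtain ⟨g, hg, h⟩ := exists_map_base (fun j => if j = 0 then p else q) 2 (by norm_num)
    (fun j k hj hk => by
      interval_cases j <;> interval_cases k <;> simp [hpq, hpq.symm])
  refine ⟨g, hg, ?_, ?_⟩
  · simpa [bp_zero] using h 0 (by norm_num)
  · simpa [bp_one] using h 1 (by norm_num)

theorem exists_map_one (p : GolayPt) : ∃ g ∈ M24, g none = p := by
  obtain ⟨q, hq⟩ := exists_ne p
  obtain ⟨g, hg, h, -⟩ := exists_map_two (Ne.symm hq)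
  exact ⟨g, hg, h⟩

theorem mem_stab_iff {p : GolayPt} {x : M24} :
    x ∈ MulAction.stabilizer M24 p ↔ x.1 p = p := Iff.rfl

/-- A point stabiliser in `M24` is a copy of `Spor.M23`. -/
theorem nonempty_stabilizer_equiv_M23 (p : GolayPt) :
    Nonempty (MulAction.stabilizer M24 p ≃* Spor.M23) := by
  obtain ⟨g, hg, hp⟩ := exists_map_one p
  refine ⟨{
    toFun := fun x => ⟨g⁻¹ * x.1.1 * g, M24.mul_mem (M24.mul_mem (M24.inv_mem hg) x.1.2) hg, ?_⟩
    invFun := fun y => ⟨⟨g * y.1 * g⁻¹, M24.mul_mem (M24.mul_mem hg y.2.1) (M24.inv_mem hg)⟩, ?_⟩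
    left_inv := fun x => by ext1; ext1; simp only; group
    right_inv := fun y => by ext1; simp only; group
    map_mul' := fun a b => by ext1; simp only [Subgroup.coe_mul]; group }⟩
  · show (g⁻¹ * x.1.1 * g) none = none
    rw [Equiv.Perm.mul_apply, Equiv.Perm.mul_apply, hp, mem_stab_iff.1 x.2, ← hp,
      Equiv.Perm.coe_inv, Equiv.symm_apply_apply]
  · rw [mem_stab_iff]
    show (g * y.1 * g⁻¹) p = p
    have hy : y.1 none = none := y.2.2
    rw [Equiv.Perm.mul_apply, Equiv.Perm.mul_apply, ← hp, Equiv.Perm.coe_inv,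
      Equiv.symm_apply_apply, hy]

/-- A two-point stabiliser in `M24` is a copy of `Spor.M22`. -/
theorem nonempty_stabilizer_equiv_M22 (p q : GolayPt) (hpq : p ≠ q) :
    Nonempty (↥(MulAction.stabilizer M24 p ⊓ MulAction.stabilizer M24 q) ≃* Spor.M22) := by
  obtain ⟨g, hg, hp, hq⟩ := exists_map_two hpq
  refine ⟨{
    toFun := fun x => ⟨g⁻¹ * x.1.1 * g,
      ⟨M24.mul_mem (M24.mul_mem (M24.inv_mem hg) x.1.2) hg, ?_⟩, ?_⟩
    invFun := fun y => ⟨⟨g * y.1 * g⁻¹, M24.mul_mem (M24.mul_mem hg y.2.1.1) (M24.inv_mem hg)⟩,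
      ?_, ?_⟩
    left_inv := fun x => by ext1; ext1; simp only; group
    right_inv := fun y => by ext1; simp only; group
    map_mul' := fun a b => by ext1; simp only [Subgroup.coe_mul]; group }⟩
  · show (g⁻¹ * x.1.1 * g) none = none
    rw [Equiv.Perm.mul_apply, Equiv.Perm.mul_apply, hp, mem_stab_iff.1 x.2.1, ← hp,
      Equiv.Perm.coe_inv, Equiv.symm_apply_apply]
  · show (g⁻¹ * x.1.1 * g) (some 0) = some 0
    rw [Equiv.Perm.mul_apply, Equiv.Perm.mul_apply, hq, mem_stab_iff.1 x.2.2, ← hq,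
      Equiv.Perm.coe_inv, Equiv.symm_apply_apply]
  · show (g * y.1 * g⁻¹) p = p
    have hy : y.1 none = none := y.2.1.2
    rw [Equiv.Perm.mul_apply, Equiv.Perm.mul_apply, ← hp, Equiv.Perm.coe_inv,
      Equiv.symm_apply_apply, hy]
  · show (g * y.1 * g⁻¹) q = q
    have hy : y.1 (some 0) = some 0 := y.2.2
    rw [Equiv.Perm.mul_apply, Equiv.Perm.mul_apply, ← hq, Equiv.Perm.coe_inv,
      Equiv.symm_apply_apply, hy]

theorem card_stabilizer (p : GolayPt) : Nat.card (MulAction.stabilizer M24 p) = 10200960 := by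
  obtain ⟨e⟩ := nonempty_stabilizer_equiv_M23 p
  rw [Nat.card_congr e.toEquiv, card_M23]

theorem card_stabilizer_two (p q : GolayPt) (hpq : p ≠ q) :
    Nat.card ↥(MulAction.stabilizer M24 p ⊓ MulAction.stabilizer M24 q) = 443520 := by
  obtain ⟨e⟩ := nonempty_stabilizer_equiv_M22 p q hpq
  rw [Nat.card_congr e.toEquiv, card_M22]

end Cfsg.Agent.Golay
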