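import Cfsg.Prelude.Def_Sporadic_a

/-!
The length-24 code `Cfsg.golayCode` through bit masks: bit `idx p` of a natural number stands
for the point `p`, so everything reduces to kernel-cheap computations on naturals.
-/

set_option autoImplicit false

namespace Cfsg.Agent.Golay

open scoped Pointwise

/-- The index of a point: residues keep their value, the extra point is 23. -/
def idx : GolayPt → ℕ
  | none => 23
  | some x => x.val

/-- The point with a given index. -/
def pt (n : ℕ) : GolayPt := if n < 23 then some (n : ZMod 23) else none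

theorem idx_lt : ∀ p : GolayPt, idx p < 24 := by decide +kernel
theorem pt_idx : ∀ p : GolayPt, pt (idx p) = p := by decide +kernel

theorem idx_pt {n : ℕ} (h : n < 24) : idx (pt n) = n := by
  have H : ∀ n : Fin 24, idx (pt n.val) = n.val := by decide +kernel
  exact H ⟨n, h⟩

theorem idx_injective : Function.Injective idx := fun a b h => by
  rw [← pt_idx a, h, pt_idx b]

/-- The word given by a bit mask. -/
def toWord (n : ℕ) : GolayPt → ZMod 2 := fun p => if n.testBit (idx p) then 1 else 0

/-- The set of points given by a bit mask. -/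
def toSet (n : ℕ) : Finset GolayPt := Finset.univ.filter fun p => n.testBit (idx p)

@[simp] theorem mem_toSet {n : ℕ} {p : GolayPt} : p ∈ toSet n ↔ n.testBit (idx p) = true := by
  simp [toSet]

theorem support₂_toWord (n : ℕ) : support₂ (toWord n) = toSet n := by
  ext p
  by_cases h : n.testBit (idx p) <;> simp [support₂, toWord, h]

theorem toWord_xor (a b : ℕ) : toWord (a ^^^ b) = toWord a + toWord b := by
  funext p
  simp only [toWord, Nat.testBit_xor, Pi.add_apply]
  cases a.testBit (idx p) <;> cases b.testBit (idx p) <;> decide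

theorem toWord_zero : toWord 0 = 0 := by
  funext p
  simp [toWord]

theorem toSet_inter (a b : ℕ) : toSet a ∩ toSet b = toSet (a &&& b) := by
  ext p
  simp

theorem toSet_union (a b : ℕ) : toSet a ∪ toSet b = toSet (a ||| b) := by
  ext p
  simp

theorem toSet_injOn {a b : ℕ} (ha : a < 2 ^ 24) (hb : b < 2 ^ 24) (h : toSet a = toSet b) :
    a = b := by
  refine Nat.eq_of_testBit_eq fun i => ?_
  rcases lt_or_ge i 24 with hi | hi
  · have := Finset.ext_iff.1 h (pt i)
    simp only [mem_toSet, idx_pt hi] at this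
    exact Bool.eq_iff_iff.2 this
  · have hp : 2 ^ 24 ≤ 2 ^ i := Nat.pow_le_pow_right (by norm_num) hi
    rw [Nat.testBit_lt_two_pow (lt_of_lt_of_le ha hp), Nat.testBit_lt_two_pow (lt_of_lt_of_le hb hp)]

/-- Number of one bits among the lowest `k`. -/
def popAux : ℕ → ℕ → ℕ
  | 0, _ => 0
  | k + 1, n => n % 2 + popAux k (n / 2)

/-- Number of one bits among the lowest 24. -/
def popc (n : ℕ) : ℕ := popAux 24 n

theorem popAux_eq : ∀ k n : ℕ, popAux k n = ((Finset.range k).filter fun i => n.testBit i).card
  | 0, n => by simp [popAux]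
  | k + 1, n => by
    rw [popAux, popAux_eq k (n / 2), Finset.card_filter, Finset.card_filter,
      Finset.sum_range_succ']
    simp only [Nat.testBit_succ, Nat.testBit_zero, decide_eq_true_eq]
    rw [add_comm]
    congr 1
    rcases Nat.mod_two_eq_zero_or_one n with h | h <;> simp [h]

theorem card_toSet (n : ℕ) : (toSet n).card = popc n := by
  rw [popc, popAux_eq, ← Finset.card_image_of_injective (toSet n) idx_injective]
  congr 1
  ext i
  simp only [Finset.mem_image, mem_toSet, Finset.mem_filter, Finset.mem_range]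
  constructor
  · rintro ⟨p, hp, rfl⟩
    exact ⟨idx_lt p, hp⟩
  · rintro ⟨hi, h⟩
    exact ⟨pt i, by rwa [idx_pt hi], idx_pt hi⟩

/-- The exclusive or of the entries of `L` selected by the bits of `m`. -/
def combAux : List ℕ → ℕ → ℕ
  | [], _ => 0
  | b :: bs, m => (if m.testBit 0 then b else 0) ^^^ combAux bs (m / 2)

theorem combAux_xor : ∀ (L : List ℕ) (m m' : ℕ),
    combAux L (m ^^^ m') = combAux L m ^^^ combAux L m'
  | [], _, _ => by simp [combAux]
  | b :: bs, m, m' => by
    simp only [combAux, Nat.testBit_xor, Nat.xor_div_two, combAux_xor bs]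
    cases m.testBit 0 <;> cases m'.testBit 0 <;>
      simp [Nat.xor_assoc, Nat.xor_left_comm]

/-- A basis of the Golay code, in systematic form on the bits 0-11. -/
def basisN : List ℕ :=
  [13062145, 4845570, 13938692, 7221256, 10170384, 11952160, 15515712, 2019456, 4038912, 8077824, 11654144, 14919680]

/-- `qrWord t` for `t < 23`, followed by the all-ones word. -/
def genN : List ℕ :=
  [340831, 681662, 1363324, 2726648, 5453296, 2517985,
    5035970, 1683333, 3366666, 6733332, 5078057, 1767507,
    3535014, 7070028, 5751449, 3114291, 6228582, 4068557,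
    8137114, 7885621, 7382635, 6376663, 4364719, 16777215]

/-- `basisN` as combinations of `genN`. -/
def basisMask : List ℕ :=
  [8390313, 280, 8389785, 1400, 8390330, 8390551, 8390093, 2000, 1347, 101, 8390243, 8390181]

/-- The code word with information bits `m`. -/
def comb (m : ℕ) : ℕ := combAux basisN m

/-- Membership of a bit mask in the code. -/
def inCode (n : ℕ) : Bool := comb (n % 4096) == n

theorem comb_xor (m m' : ℕ) : comb (m ^^^ m') = comb m ^^^ comb m' := combAux_xor _ _ _

/-- The code as the image of the masks below 4096. -/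
def codeSub : Submodule (ZMod 2) (GolayPt → ZMod 2) where
  carrier := {w | ∃ m < 4096, toWord (comb m) = w}
  zero_mem' := ⟨0, by norm_num, by rw [show comb 0 = 0 by decide +kernel, toWord_zero]⟩
  add_mem' := by
    rintro _ _ ⟨a, ha, rfl⟩ ⟨b, hb, rfl⟩
    exact ⟨a ^^^ b, Nat.xor_lt_two_pow (n := 12) ha hb, by rw [comb_xor, toWord_xor]⟩
  smul_mem' := by
    rintro c _ ⟨a, ha, rfl⟩
    have : c = 0 ∨ c = 1 := by revert c; decide
    rcases this with rfl | rfl
    · exact ⟨0, by norm_num, by rw [show comb 0 = 0 by decide +kernel, toWord_zero, zero_smul]⟩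
    · exact ⟨a, ha, by rw [one_smul]⟩

theorem qrWord_eq : ∀ (t : ZMod 23) (p : GolayPt),
    qrWord t p = toWord (comb (genN.getD t.val 0 % 4096)) p := by decide +kernel

theorem qrWord_eq' : ∀ (t : ZMod 23) (p : GolayPt),
    qrWord t p = toWord (genN.getD t.val 0) p := by decide +kernel

theorem one_eq : ∀ p : GolayPt,
    (1 : ZMod 2) = toWord (comb (16777215 % 4096)) p ∧ (1 : ZMod 2) = toWord 16777215 p := by
  decide +kernel

theorem genN_mem (i : Fin 24) : toWord (genN.getD i.val 0) ∈ golayCode := by
  apply Submodule.subset_span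
  rcases lt_or_eq_of_le (Nat.le_of_lt_succ i.isLt) with h | h
  · refine Or.inl ⟨(i.val : ZMod 23), ?_⟩
    funext p
    rw [qrWord_eq', ZMod.val_natCast_of_lt h]
  · refine Or.inr ?_
    rw [Set.mem_singleton_iff, h]
    funext p
    exact (one_eq p).2.symm

theorem toWord_combAux_mem (C : Submodule (ZMod 2) (GolayPt → ZMod 2)) :
    ∀ (L : List ℕ) (m : ℕ), (∀ b ∈ L, toWord b ∈ C) → toWord (combAux L m) ∈ C
  | [], _, _ => by simp [combAux, toWord_zero]
  | b :: bs, m, h => by
    rw [combAux, toWord_xor]
    refine C.add_mem ?_ (toWord_combAux_mem C bs _ fun x hx => h x (List.mem_cons_of_mem _ hx))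
    split
    · exact h b List.mem_cons_self
    · rw [toWord_zero]; exact C.zero_mem

theorem basisN_eq : basisN = basisMask.map (combAux genN) := by decide +kernel

theorem basisN_mem : ∀ b ∈ basisN, toWord b ∈ golayCode := by
  rw [basisN_eq]
  intro b hb
  obtain ⟨m, -, rfl⟩ := List.mem_map.1 hb
  refine toWord_combAux_mem _ _ _ fun x hx => ?_
  obtain ⟨i, hi, rfl⟩ := List.getElem_of_mem hx
  have h24 : genN.length = 24 := rfl
  have := genN_mem ⟨i, h24 ▸ hi⟩
  rwa [List.getD_eq_getElem _ _ hi] at this

theorem golayCode_eq : golayCode = codeSub := by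
  apply le_antisymm
  · rw [golayCode, Submodule.span_le]
    rintro w (⟨t, rfl⟩ | rfl)
    · exact ⟨_, Nat.mod_lt _ (by norm_num), funext fun p => (qrWord_eq t p).symm⟩
    · exact ⟨16777215 % 4096, Nat.mod_lt _ (by norm_num), funext fun p => (one_eq p).1.symm⟩
  · rintro w ⟨m, -, rfl⟩
    exact toWord_combAux_mem _ _ _ basisN_mem

theorem mem_golayCode_iff {w : GolayPt → ZMod 2} :
    w ∈ golayCode ↔ ∃ m < 4096, toWord (comb m) = w := by
  rw [golayCode_eq]; rfl

theorem toWord_comb_mem (m : ℕ) : toWord (comb m) ∈ golayCode :=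
  toWord_combAux_mem _ _ _ basisN_mem

set_option maxRecDepth 40000 in
theorem comb_facts : ∀ m : Fin 4096, comb m.val < 2 ^ 24 ∧ comb m.val % 4096 = m.val ∧
    (popc (comb m.val) = 0 ∧ m.val = 0 ∨ popc (comb m.val) = 8 ∨ popc (comb m.val) = 12 ∨
      popc (comb m.val) = 16 ∨ popc (comb m.val) = 24) := by decide +kernel

theorem comb_lt {m : ℕ} (hm : m < 4096) : comb m < 2 ^ 24 := (comb_facts ⟨m, hm⟩).1

theorem comb_mod {m : ℕ} (hm : m < 4096) : comb m % 4096 = m := (comb_facts ⟨m, hm⟩).2.1

theorem inCode_lt {n : ℕ} (h : inCode n = true) : n < 2 ^ 24 := by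
  rw [← (beq_iff_eq.1 h : comb (n % 4096) = n)]
  exact comb_lt (Nat.mod_lt _ (by norm_num))

theorem toWord_mem_of_inCode {n : ℕ} (h : inCode n = true) : toWord n ∈ golayCode := by
  rw [← (beq_iff_eq.1 h : comb (n % 4096) = n)]
  exact toWord_comb_mem _

theorem inCode_comb {m : ℕ} (hm : m < 4096) : inCode (comb m) = true := by
  simp [inCode, comb_mod hm]

theorem support₂_injective : Function.Injective (support₂ (α := GolayPt)) := by
  intro v w h
  funext p
  have := Finset.ext_iff.1 h p
  simp only [support₂, Finset.mem_filter, Finset.mem_univ, true_and] at this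
  have two : ∀ a b : ZMod 2, (a ≠ 0 ↔ b ≠ 0) → a = b := by decide
  exact two _ _ this

/-- A set is the support of a code word iff it is given by a code mask. -/
theorem mem_supports_iff {s : Finset GolayPt} :
    s ∈ supports (golayCode : Set (GolayPt → ZMod 2)) ↔ ∃ n, inCode n = true ∧ toSet n = s := by
  constructor
  · rintro ⟨w, hw, rfl⟩
    obtain ⟨m, hm, rfl⟩ := mem_golayCode_iff.1 hw
    exact ⟨comb m, inCode_comb hm, (support₂_toWord _).symm⟩
  · rintro ⟨n, hn, rfl⟩
    exact ⟨toWord n, toWord_mem_of_inCode hn, support₂_toWord _⟩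

theorem mem_wordsOfWeight_iff {s : Finset GolayPt} {k : ℕ} :
    s ∈ wordsOfWeight (golayCode : Set (GolayPt → ZMod 2)) k ↔
      ∃ n, inCode n = true ∧ popc n = k ∧ toSet n = s := by
  constructor
  · rintro ⟨hs, hk⟩
    obtain ⟨n, hn, rfl⟩ := mem_supports_iff.1 hs
    exact ⟨n, hn, by rw [← card_toSet]; exact hk, rfl⟩
  · rintro ⟨n, hn, hk, rfl⟩
    exact ⟨mem_supports_iff.2 ⟨n, hn, rfl⟩, by rw [card_toSet]; exact hk⟩

theorem hammingNorm_eq (w : GolayPt → ZMod 2) : hammingNorm w = (support₂ w).card := rfl

theorem supports_card_cases {s : Finset GolayPt}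
    (hs : s ∈ supports (golayCode : Set (GolayPt → ZMod 2))) :
    s = ∅ ∨ s.card = 8 ∨ s.card = 12 ∨ s.card = 16 ∨ s.card = 24 := by
  obtain ⟨n, hn, rfl⟩ := mem_supports_iff.1 hs
  have hn' : comb (n % 4096) = n := beq_iff_eq.1 hn
  have := (comb_facts ⟨n % 4096, Nat.mod_lt _ (by norm_num)⟩).2.2
  simp only [hn'] at this
  rw [card_toSet]
  rcases this with ⟨h, -⟩ | h
  · exact Or.inl (Finset.card_eq_zero.1 (by rw [card_toSet]; exact h))
  · exact Or.inr h

theorem golayCode_weights (w : GolayPt → ZMod 2) (hw : w ∈ golayCode) :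
    hammingNorm w = 0 ∨ hammingNorm w = 8 ∨ hammingNorm w = 12 ∨ hammingNorm w = 16 ∨
      hammingNorm w = 24 := by
  rw [hammingNorm_eq]
  rcases supports_card_cases (s := support₂ w) ⟨w, hw, rfl⟩ with h | h
  · exact Or.inl (by rw [h]; rfl)
  · exact Or.inr h

theorem card_golayCode : Nat.card golayCode = 4096 := by
  have e : Fin 4096 ≃ golayCode := by
    refine Equiv.ofBijective (fun m => ⟨toWord (comb m.val), toWord_comb_mem _⟩) ⟨?_, ?_⟩
    · intro a b h
      have h' := congrArg support₂ (Subtype.ext_iff.1 h)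
      simp only [support₂_toWord] at h'
      have := congrArg (· % 4096) (toSet_injOn (comb_lt a.isLt) (comb_lt b.isLt) h')
      simp only [comb_mod a.isLt, comb_mod b.isLt] at this
      exact Fin.ext this
    · rintro ⟨w, hw⟩
      obtain ⟨m, hm, rfl⟩ := mem_golayCode_iff.1 hw
      exact ⟨⟨m, hm⟩, rfl⟩
  rw [← Nat.card_congr e, Nat.card_eq_fintype_card, Fintype.card_fin]

theorem finrank_golayCode : Module.finrank (ZMod 2) golayCode = 12 := by
  have := Module.natCard_eq_pow_finrank (K := ZMod 2) (V := golayCode)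
  rw [card_golayCode, Nat.card_eq_fintype_card, ZMod.card] at this
  exact Nat.pow_right_injective (le_refl 2) (this.symm.trans (by norm_num))

theorem dot_eq_card (v w : GolayPt → ZMod 2) :
    ∑ i, v i * w i = ((support₂ v ∩ support₂ w).card : ZMod 2) := by
  have two : ∀ a b : ZMod 2, a * b = if a ≠ 0 ∧ b ≠ 0 then 1 else 0 := by decide
  simp only [two, Finset.sum_boole, support₂, Finset.filter_and]

theorem support₂_add (v w : GolayPt → ZMod 2) :
    (support₂ (v + w)).card + 2 * (support₂ v ∩ support₂ w).card =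
      (support₂ v).card + (support₂ w).card := by
  have h : support₂ (v + w) = (support₂ v ∪ support₂ w) \ (support₂ v ∩ support₂ w) := by
    ext p
    have two : ∀ a b : ZMod 2, (a + b ≠ 0 ↔ (a ≠ 0 ∨ b ≠ 0) ∧ ¬(a ≠ 0 ∧ b ≠ 0)) := by decide
    simp only [support₂, Finset.mem_filter, Finset.mem_univ, true_and, Finset.mem_sdiff,
      Finset.mem_union, Finset.mem_inter, Pi.add_apply]
    exact two _ _
  rw [h, Finset.card_sdiff_of_subset (Finset.inter_subset_left.trans Finset.subset_union_left)]
  have h1 := Finset.card_union_add_card_inter (support₂ v) (support₂ w)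
  have h2 := Finset.card_le_card
    (Finset.inter_subset_left.trans Finset.subset_union_left :
      support₂ v ∩ support₂ w ⊆ support₂ v ∪ support₂ w)
  omega

theorem golayCode_inter_even {v w : GolayPt → ZMod 2} (hv : v ∈ golayCode) (hw : w ∈ golayCode) :
    2 ∣ (support₂ v ∩ support₂ w).card := by
  have hs := support₂_add v w
  have a := golayCode_weights v hv
  have b := golayCode_weights w hw
  have c := golayCode_weights _ (golayCode.add_mem hv hw)
  simp only [hammingNorm_eq] at a b c
  omega

theorem golayCode_orth {v w : GolayPt → ZMod 2} (hv : v ∈ golayCode) (hw : w ∈ golayCode) :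
    ∑ i, v i * w i = 0 := by
  rw [dot_eq_card, ZMod.natCast_eq_zero_iff_even, even_iff_two_dvd]
  exact golayCode_inter_even hv hw

theorem ncard_wordsOfWeight (k c : ℕ)
    (h : (((List.range 4096).map comb).filter fun n => popc n == k).length = c) :
    (wordsOfWeight (golayCode : Set (GolayPt → ZMod 2)) k).ncard = c := by
  set L := ((List.range 4096).map comb).filter fun n => popc n == k with hL
  have hlt : ∀ n ∈ L, n < 2 ^ 24 := by
    intro n hn
    obtain ⟨m, hm, rfl⟩ := List.mem_map.1 (List.mem_filter.1 hn).1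
    exact comb_lt (List.mem_range.1 hm)
  have hnd : L.Nodup := by
    refine (List.Nodup.map_on ?_ List.nodup_range).filter _
    intro a ha b hb hab
    rw [← comb_mod (List.mem_range.1 ha), hab, comb_mod (List.mem_range.1 hb)]
  have e : wordsOfWeight (golayCode : Set (GolayPt → ZMod 2)) k =
      (L.toFinset.image toSet : Finset (Finset GolayPt)) := by
    ext s
    rw [mem_wordsOfWeight_iff]
    simp only [Finset.coe_image, Set.mem_image, Finset.mem_coe, List.mem_toFinset]
    constructor
    · rintro ⟨n, hn, hk, hs⟩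
      refine ⟨n, List.mem_filter.2 ⟨List.mem_map.2 ⟨n % 4096, ?_, beq_iff_eq.1 hn⟩, ?_⟩, hs⟩
      · exact List.mem_range.2 (Nat.mod_lt _ (by norm_num))
      · simpa using hk
    · rintro ⟨n, hn, hs⟩
      obtain ⟨hn1, hn2⟩ := List.mem_filter.1 hn
      obtain ⟨m, hm, rfl⟩ := List.mem_map.1 hn1
      exact ⟨_, inCode_comb (List.mem_range.1 hm), by simpa using hn2, hs⟩
  rw [e, Set.ncard_coe_finset, Finset.card_image_of_injOn, List.toFinset_card_of_nodup hnd, h]
  intro a ha b hb hab
  exact toSet_injOn (hlt a (by simpa using ha)) (hlt b (by simpa using hb)) hab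

set_option maxRecDepth 40000 in
theorem ncard_octads : octads.ncard = 759 :=
  ncard_wordsOfWeight 8 759 (by decide +kernel)

set_option maxRecDepth 40000 in
theorem ncard_dodecads : dodecads.ncard = 2576 :=
  ncard_wordsOfWeight 12 2576 (by decide +kernel)

theorem octad_mem_iff {s : Finset GolayPt} :
    s ∈ octads ↔ ∃ n, inCode n = true ∧ popc n = 8 ∧ toSet n = s := mem_wordsOfWeight_iff

theorem dodecad_mem_iff {s : Finset GolayPt} :
    s ∈ dodecads ↔ ∃ n, inCode n = true ∧ popc n = 12 ∧ toSet n = s := mem_wordsOfWeight_iff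

theorem card_of_mem_octads {o : Finset GolayPt} (h : o ∈ octads) : o.card = 8 := h.2

theorem card_of_mem_dodecads {o : Finset GolayPt} (h : o ∈ dodecads) : o.card = 12 := h.2

theorem card_golayPt : Fintype.card GolayPt = 24 := by decide

/-- Two octads with five common points coincide. -/
theorem octad_unique {o o' s : Finset GolayPt} (ho : o ∈ octads) (ho' : o' ∈ octads)
    (hs : 5 ≤ s.card) (h : s ⊆ o) (h' : s ⊆ o') : o = o' := by
  obtain ⟨⟨v, hv, rfl⟩, hcv⟩ := ho
  obtain ⟨⟨w, hw, rfl⟩, hcw⟩ := ho'
  have hi := Finset.card_le_card (Finset.subset_inter h h')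
  have hsum := support₂_add v w
  have hwt := golayCode_weights _ (golayCode.add_mem hv hw)
  rw [hammingNorm_eq] at hwt
  have h0 : (support₂ (v + w)).card = 0 := by omega
  have e : v + w = 0 := hammingNorm_eq_zero.1 (by rw [hammingNorm_eq]; exact h0)
  have : v = w := by
    funext p
    have two : ∀ a b : ZMod 2, a + b = 0 → a = b := by decide
    exact two _ _ (congrFun e p)
  rw [this]

/-- The octads form a Steiner system S(5, 8, 24). -/
theorem octads_steiner : IsSteinerSystem 5 8 octads := by
  classical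
  refine ⟨fun b hb => card_of_mem_octads hb, fun s hs => ?_⟩
  have hfin : (octads).Finite := Set.toFinite _
  set T := hfin.toFinset with hT
  have hTc : T.card = 759 := by rw [← Set.ncard_eq_toFinset_card _ hfin, ncard_octads]
  set P := T.biUnion fun o => o.powersetCard 5 with hP
  have hdisj : (T : Set (Finset GolayPt)).PairwiseDisjoint fun o => o.powersetCard 5 := by
    intro a ha b hb hab
    rw [Function.onFun, Finset.disjoint_left]
    intro x hxa hxb
    rw [Finset.mem_powersetCard] at hxa hxb
    exact hab (octad_unique (hfin.mem_toFinset.1 ha) (hfin.mem_toFinset.1 hb) hxa.2.ge hxa.1 hxb.1)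
  have hcard : P.card = 42504 := by
    rw [hP, Finset.card_biUnion hdisj,
      Finset.sum_congr rfl fun o ho => by
        rw [Finset.card_powersetCard, card_of_mem_octads (hfin.mem_toFinset.1 ho)],
      Finset.sum_const, hTc, show Nat.choose 8 5 = 56 by decide, smul_eq_mul]
  have hPU : P = (Finset.univ : Finset GolayPt).powersetCard 5 := by
    apply Finset.eq_of_subset_of_card_le
    · intro x hx
      simp only [hP, Finset.mem_biUnion, Finset.mem_powersetCard] at hx
      obtain ⟨o, -, -, hx⟩ := hx
      simp [hx]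
    · rw [hcard, Finset.card_powersetCard, Finset.card_univ, card_golayPt,
        show Nat.choose 24 5 = 42504 by decide]
  have hmem : s ∈ P := by rw [hPU]; simp [hs]
  simp only [hP, Finset.mem_biUnion, Finset.mem_powersetCard] at hmem
  obtain ⟨o, ho, hso, -⟩ := hmem
  exact ⟨o, ⟨hfin.mem_toFinset.1 ho, hso⟩,
    fun o' ho' => octad_unique ho'.1 (hfin.mem_toFinset.1 ho) hs.ge ho'.2 hso⟩

/-- The octad through five given points. -/
theorem exists_octad {s : Finset GolayPt} (hs : s.card = 5) : ∃ o ∈ octads, s ⊆ o := by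
  obtain ⟨o, ho, -⟩ := octads_steiner.2 s hs
  exact ⟨o, ho.1, ho.2⟩

end Cfsg.Agent.Golay
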