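import Cfsg.Agent.Lib.Golay.Subgroups
import Cfsg.Prelude.Def_KGroupFacts

/-!
The outer automorphism groups of M₂₄, M₂₃ and M₂₂.
-/

set_option autoImplicit false

namespace Cfsg.Agent.Golay

open scoped Pointwise

theorem mem_fixUpTo_zero {g : Equiv.Perm GolayPt} : g ∈ fixUpTo M24 0 ↔ g ∈ M24 := Iff.rfl

/-- A permutation sending the base to given distinct points, inside a stabiliser of the chain. -/
theorem exists_map_in {i : ℕ} (e : ℕ → GolayPt) (n : ℕ) (hn : n ≤ 5) (hin : i ≤ n)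
    (hinj : ∀ j k, j < n → k < n → e j = e k → j = k) (he : ∀ j < i, e j = bp j) :
    ∃ g ∈ fixUpTo M24 i, ∀ j < n, g (bp j) = e j := by
  obtain ⟨g, hg, hj⟩ := exists_map_base e n hn hinj
  exact ⟨g, mem_fixUpTo.2 ⟨hg, fun j hji => (hj j (by omega)).trans (he j hji)⟩, hj⟩

theorem bp_injective {j k : ℕ} (hj : j < 7) (hk : k < 7) (h : bp j = bp k) : j = k := by
  by_contra hne
  refine base_ne ⟨j, hj⟩ ⟨k, hk⟩ (fun e => hne (congrArg Fin.val e)) ?_
  have := congrArg idx h
  rwa [idx_bp, idx_bp] at this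

/-- Transitivity outside the fixed base points, keeping one further point fixed. -/
theorem exists_move {i : ℕ} (hi : i ≤ 2) {p q r : GolayPt} (hp : p ∉ baseSet i)
    (hq : q ∉ baseSet i) (hr : r ∉ baseSet i) (hpq : q ≠ p) (hpr : r ≠ p) :
    ∃ g ∈ fixUpTo M24 i, g p = p ∧ g q = r := by
  have hb : ∀ x, x ∉ baseSet i → ∀ j < i, x ≠ bp j := fun x hx j hj e =>
    hx (mem_baseSet.2 ⟨j, hj, e.symm⟩)
  have key : ∀ y, y ∉ baseSet i → y ≠ p →
      ∃ g ∈ fixUpTo M24 i, g (bp i) = p ∧ g (bp (i + 1)) = y := by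
    intro y hy hyp
    obtain ⟨g, hg, hgj⟩ := exists_map_in (i := i)
      (fun j => if j < i then bp j else if j = i then p else y) (i + 2) (by omega) (by omega)
      (fun j k hj hk h => by
        try dsimp only at h
        split_ifs at h with h1 h2 h3 h4 <;> first
          | exact bp_injective (by omega) (by omega) h
          | omega
          | exact absurd h.symm (hb _ hp _ ‹_›)
          | exact absurd h (hb _ hp _ ‹_›)
          | exact absurd h.symm (hb _ hy _ ‹_›)
          | exact absurd h (hb _ hy _ ‹_›)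
          | exact absurd h hyp
          | exact absurd h.symm hyp)
      (fun j hj => if_pos hj)
    refine ⟨g, hg, ?_, ?_⟩
    · simpa using hgj i (by omega)
    · simpa using hgj (i + 1) (by omega)
  obtain ⟨g, hg, hg1, hg2⟩ := key q hq hpq
  obtain ⟨h, hh, hh1, hh2⟩ := key r hr hpr
  refine ⟨h * g⁻¹, (fixUpTo M24 i).mul_mem hh ((fixUpTo M24 i).inv_mem hg), ?_, ?_⟩
  · rw [Equiv.Perm.mul_apply, Equiv.Perm.coe_inv,
      show g.symm p = bp i from (Equiv.symm_apply_eq g).2 hg1.symm, hh1]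
  · rw [Equiv.Perm.mul_apply, Equiv.Perm.coe_inv,
      show g.symm q = bp (i + 1) from (Equiv.symm_apply_eq g).2 hg2.symm, hh2]

theorem exists_other {i : ℕ} (hi : i ≤ 2) (p q : GolayPt) :
    ∃ r : GolayPt, r ∉ baseSet i ∧ r ≠ p ∧ r ≠ q := by
  obtain ⟨r, -, hr⟩ := Finset.exists_mem_notMem_of_card_lt_card
    (show (insert p (insert q (baseSet i))).card < (Finset.univ : Finset GolayPt).card by
      rw [Finset.card_univ, card_golayPt]
      have h1 := Finset.card_insert_le p (insert q (baseSet i))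
      have h2 := Finset.card_insert_le q (baseSet i)
      rw [card_baseSet (by omega)] at h2
      omega)
  simp only [Finset.mem_insert, not_or] at hr
  exact ⟨r, hr.2.2, hr.1, hr.2.1⟩

theorem exists_transport {i : ℕ} (hi : i ≤ 2) {p q : GolayPt} (hp : p ∉ baseSet i)
    (hq : q ∉ baseSet i) : ∃ g ∈ fixUpTo M24 i, g p = q := by
  by_cases h : p = q
  · exact ⟨1, (fixUpTo M24 i).one_mem, h⟩
  obtain ⟨r, hr, hrp, hrq⟩ := exists_other hi p q
  obtain ⟨g, hg, -, hgp⟩ := exists_move hi hr hp hq (Ne.symm hrp) (Ne.symm hrq)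
  exact ⟨g, hg, hgp⟩

theorem stab_determines {i : ℕ} (hi : i ≤ 2) {p q : GolayPt} (hp : p ∉ baseSet i)
    (hq : q ∉ baseSet i) (h : ∀ g ∈ fixUpTo M24 i, g p = p → g q = q) : q = p := by
  by_contra hne
  obtain ⟨r, hr, hrp, hrq⟩ := exists_other hi p q
  obtain ⟨g, hg, hgp, hgq⟩ := exists_move hi hp hq hr hne hrp
  exact hrq (hgq.symm.trans (h g hg hgp))

theorem orbF_full {i : ℕ} (hi : i ≤ 2) {p : GolayPt} (hp : p ∉ baseSet i) :
    orbF (fixUpTo M24 i) p = Finset.univ \ baseSet i := by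
  refine (orbF_subset le_rfl hp).antisymm fun q hq => ?_
  exact mem_orbF.2 (exists_transport hi hp (Finset.mem_sdiff.1 hq).2)

/-- An automorphism that permutes point stabilisers is a conjugation by a permutation. -/
theorem exists_conj_perm {i : ℕ} (hi : i ≤ 2) (G : Subgroup (Equiv.Perm GolayPt))
    (hG : G = fixUpTo M24 i)
    (hsub : ∀ K ≤ fixUpTo M24 i, Nat.card K * (24 - i) = Nat.card (fixUpTo M24 i) →
      ∃ p ∉ baseSet i, ∀ g ∈ K, g p = p) (φ : MulAut G) :
    ∃ σ : Equiv.Perm GolayPt, (∀ w ∈ baseSet i, σ w = w) ∧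
      ∀ g : G, (φ g : Equiv.Perm GolayPt) = σ * g * σ⁻¹ := by
  classical
  have hcard : ∀ p, p ∉ baseSet i →
      Nat.card ↥(G ⊓ MulAction.stabilizer (Equiv.Perm GolayPt) p) * (24 - i) = Nat.card G := by
    intro p hp
    rw [hG, card_eq_orbF_mul (fixUpTo M24 i) p, orbF_full hi hp,
      Finset.card_sdiff_of_subset (Finset.subset_univ _), Finset.card_univ, card_golayPt,
      card_baseSet (by omega), mul_comm]
  have himg : ∀ p, p ∉ baseSet i → ∃ q, q ∉ baseSet i ∧
      ∀ g : G, g.1 p = p ↔ (φ g).1 q = q := by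
    intro p hp
    set K : Subgroup (Equiv.Perm GolayPt) :=
      (((G ⊓ MulAction.stabilizer (Equiv.Perm GolayPt) p).subgroupOf G).map
        φ.toMonoidHom).map G.subtype with hK
    have hKle : K ≤ G := Subgroup.map_subtype_le _
    have hKc : Nat.card K = Nat.card ↥(G ⊓ MulAction.stabilizer (Equiv.Perm GolayPt) p) := by
      rw [hK, Subgroup.card_map_of_injective G.subtype_injective,
        Subgroup.card_map_of_injective φ.injective,
        Nat.card_congr (Subgroup.subgroupOfEquivOfLe inf_le_left).toEquiv]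
    obtain ⟨q, hq, hfix⟩ := hsub K (hG ▸ hKle) (by rw [hKc, hcard p hp, hG])
    have hKeq : K = G ⊓ MulAction.stabilizer (Equiv.Perm GolayPt) q := by
      refine Subgroup.eq_of_le_of_card_ge (le_inf hKle fun g hg => hfix g hg) (le_of_eq ?_)
      exact Nat.eq_of_mul_eq_mul_right (by omega : 0 < 24 - i)
        (by rw [hKc, hcard p hp, hcard q hq])
    refine ⟨q, hq, fun g => ⟨fun h => hfix _ ?_, fun h => ?_⟩⟩
    · exact ⟨φ g, ⟨g, ⟨g.2, h⟩, rfl⟩, rfl⟩
    · have hmem : (φ g).1 ∈ K := by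
        rw [hKeq]
        exact ⟨(φ g).2, h⟩
      obtain ⟨y, ⟨z, hz, hzy⟩, hy⟩ := hmem
      have : z = g := φ.injective (hzy.trans (Subtype.ext hy))
      exact this ▸ hz.2
  choose f hf hf' using himg
  let F : GolayPt → GolayPt := fun p => if h : p ∈ baseSet i then p else f p h
  have hFinj : Function.Injective F := by
    intro p q h
    by_cases hp : p ∈ baseSet i <;> by_cases hq : q ∈ baseSet i <;>
      simp only [F, dif_pos, dif_neg, hp, hq, not_false_eq_true] at h
    · exact h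
    · exact absurd (h ▸ hp) (hf q hq)
    · exact absurd (h ▸ hq) (hf p hp)
    · refine (stab_determines hi hp hq fun g hg hgp => ?_).symm
      have h1 := (hf' p hp ⟨g, hG.ge hg⟩).1 hgp
      rw [h] at h1
      exact (hf' q hq ⟨g, hG.ge hg⟩).2 h1
  refine ⟨Equiv.ofBijective F (Finite.injective_iff_bijective.1 hFinj),
    fun w hw => by simp [F, hw], fun g => ?_⟩
  rw [eq_mul_inv_iff_mul_eq]
  refine Equiv.ext fun p => ?_
  simp only [Equiv.Perm.mul_apply, Equiv.ofBijective_apply]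
  by_cases hp : p ∈ baseSet i
  · have h1 : g.1 p = p := fix_baseSet (hG.le g.2) hp
    have h2 : (φ g).1 p = p := fix_baseSet (hG.le (φ g).2) hp
    simp [F, hp, h1, h2]
  · have hgp : g.1 p ∉ baseSet i := fun h =>
      hp (g.1.injective (fix_baseSet (hG.le g.2) h) ▸ h)
    simp only [F, dif_neg hp, dif_neg hgp]
    refine (stab_determines hi (hf _ hgp) ?_ fun h hh hhf => ?_)
    · exact fun h => hf p hp ((φ g).1.injective (fix_baseSet (hG.le (φ g).2) h) ▸ h)
    obtain ⟨k, hk⟩ := φ.surjective ⟨h, hG.ge hh⟩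
    have h1 : k.1 (g.1 p) = g.1 p := (hf' _ hgp k).2 (by rw [hk]; exact hhf)
    have h2 : (g⁻¹ * k * g : G).1 p = p := by
      simp only [Subgroup.coe_mul, Subgroup.coe_inv, Equiv.Perm.mul_apply, Equiv.Perm.coe_inv,
        h1, Equiv.symm_apply_apply]
    have h3 := (hf' p hp _).1 h2
    simp only [map_mul, map_inv, hk, Subgroup.coe_mul, Subgroup.coe_inv, Equiv.Perm.mul_apply,
      Equiv.Perm.coe_inv, Equiv.symm_apply_eq] at h3
    exact h3

/-- The points reachable from `x` by elements fixing five given points. -/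
noncomputable def fiveOrbit (e : ℕ → GolayPt) (x : GolayPt) : Finset GolayPt := by
  classical
  exact Finset.univ.filter fun y => ∃ h ∈ M24, (∀ j < 5, h (e j) = e j) ∧ h x = y

theorem mem_fiveOrbit {e : ℕ → GolayPt} {x y : GolayPt} :
    y ∈ fiveOrbit e x ↔ ∃ h ∈ M24, (∀ j < 5, h (e j) = e j) ∧ h x = y := by
  classical
  simp [fiveOrbit]

/-- In the octad of five points, orbits of their stabiliser have at most 3 points, outside 16. -/
theorem mem_octad_iff_fiveOrbit {e : ℕ → GolayPt}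
    (hinj : ∀ j k, j < 5 → k < 5 → e j = e k → j = k) {O : Finset GolayPt} (hO : O ∈ octads)
    (hsub : ∀ j < 5, e j ∈ O) {x : GolayPt} (hx : ∀ j < 5, x ≠ e j) :
    x ∈ O ↔ (fiveOrbit e x).card ≤ 3 := by
  obtain ⟨h0, ⟨ho1, ho2⟩, h3, h4, h5, -, -, -, -⟩ := orb_facts
  obtain ⟨a, ha, haj⟩ := exists_map_base e 5 le_rfl hinj
  have hO0 : toSet octadO ∈ octads := octad_mem_iff.2 ⟨_, ho1, ho2, rfl⟩
  have hbO : ∀ j < 5, bp j ∈ toSet octadO := fun j hj => by
    rw [mem_toSet, idx_bp]
    exact h3 ⟨j, by omega⟩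
  have haO : a • toSet octadO = O := by
    refine octad_unique (smul_mem_octads ha hO0) hO (s := (Finset.range 5).image e) ?_ ?_ ?_
    · rw [Finset.card_image_of_injOn (fun j hj k hk h =>
        hinj j k (Finset.mem_range.1 hj) (Finset.mem_range.1 hk) h), Finset.card_range]
    · intro p hp
      obtain ⟨j, hj, rfl⟩ := Finset.mem_image.1 hp
      rw [← haj j (Finset.mem_range.1 hj)]
      exact Finset.smul_mem_smul_finset (hbO j (Finset.mem_range.1 hj))
    · intro p hp
      obtain ⟨j, hj, rfl⟩ := Finset.mem_image.1 hp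
      exact hsub j (Finset.mem_range.1 hj)
  set x0 := a⁻¹ x with hx0
  have hmem : x ∈ O ↔ x0 ∈ toSet octadO := by
    rw [← haO, ← Finset.inv_smul_mem_iff]
    rfl
  have horb : (fiveOrbit e x).card = (fiveOrbit bp x0).card := by
    rw [← Finset.card_map a.toEmbedding (s := fiveOrbit bp x0)]
    congr 1
    ext y
    rw [Finset.mem_map_equiv, mem_fiveOrbit, mem_fiveOrbit]
    constructor
    · rintro ⟨h, hh, hfix, rfl⟩
      refine ⟨a⁻¹ * h * a, M24.mul_mem (M24.mul_mem (M24.inv_mem ha) hh) ha, fun j hj => ?_, ?_⟩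
      · rw [Equiv.Perm.mul_apply, Equiv.Perm.mul_apply, haj j hj, hfix j hj, Equiv.Perm.coe_inv,
          Equiv.symm_apply_eq, haj j hj]
      · simp [hx0, Equiv.Perm.mul_apply]
    · rintro ⟨h, hh, hfix, hy⟩
      refine ⟨a * h * a⁻¹, M24.mul_mem (M24.mul_mem ha hh) (M24.inv_mem ha), fun j hj => ?_, ?_⟩
      · rw [Equiv.Perm.mul_apply, Equiv.Perm.mul_apply, Equiv.Perm.coe_inv, ← haj j hj,
          Equiv.symm_apply_apply, hfix j hj]
      · rw [Equiv.Perm.mul_apply, Equiv.Perm.mul_apply, ← hx0, hy, Equiv.apply_symm_apply]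
  have hxb : ∀ j < 5, idx x0 ≠ baseN.getD j 0 := fun j hj e' => by
    rw [← idx_bp] at e'
    apply hx j hj
    rw [← haj j hj, ← idx_injective e', hx0, Equiv.Perm.coe_inv, Equiv.apply_symm_apply]
  rw [hmem, horb]
  have hfix5 : ∀ h : Equiv.Perm GolayPt, h ∈ M24 → (∀ j < 5, h (bp j) = bp j) →
      h ∈ fixUpTo M24 5 := fun h h1 h2 => mem_fixUpTo.2 ⟨h1, h2⟩
  constructor
  · intro hxO
    obtain ⟨t, ht, e5⟩ := exists_transversal (i := 5) (by norm_num)
      (h4 ⟨_, idx_lt x0⟩ (fun j => hxb j.val j.isLt) (mem_toSet.1 hxO))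
    obtain ⟨t1, t2⟩ := mem_fixUpTo.1 ht
    calc (fiveOrbit bp x0).card ≤ ((orbN.getD 5 []).toFinset.image pt).card := by
          refine Finset.card_le_card fun y hy => ?_
          obtain ⟨h, hh, hhfix, rfl⟩ := mem_fiveOrbit.1 hy
          have hm := orbit_subset (i := 5) (by norm_num)
            ((fixUpTo M24 5).mul_mem (hfix5 h hh hhfix) ht)
          rw [Equiv.Perm.mul_apply, idx_injective e5] at hm
          exact Finset.mem_image.2 ⟨_, List.mem_toFinset.2 hm, pt_idx _⟩
      _ ≤ (orbN.getD 5 []).toFinset.card := Finset.card_image_le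
      _ ≤ 3 := by decide +kernel
  · intro hle
    by_contra hxO
    rw [mem_toSet, Bool.not_eq_true] at hxO
    obtain ⟨t, ht, e6⟩ := exists_transversal (i := 6) (by norm_num) (h5 ⟨_, idx_lt x0⟩ hxO)
    obtain ⟨t1, t2⟩ := mem_fixUpTo.1 ht
    have hbig : ((orbN.getD 6 []).toFinset.image pt) ⊆ fiveOrbit bp x0 := by
      intro y hy
      obtain ⟨z, hz, rfl⟩ := Finset.mem_image.1 hy
      rw [List.mem_toFinset] at hz
      obtain ⟨u, hu, eu⟩ := exists_transversal (i := 6) (by norm_num) hz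
      obtain ⟨u1, u2⟩ := mem_fixUpTo.1 hu
      refine mem_fiveOrbit.2 ⟨u * t⁻¹, M24.mul_mem u1 (M24.inv_mem t1), fun j hj => ?_, ?_⟩
      · rw [Equiv.Perm.mul_apply, Equiv.Perm.coe_inv,
          show t.symm (bp j) = bp j from (Equiv.symm_apply_eq t).2 (t2 j (by omega)).symm,
          u2 j (by omega)]
      · rw [Equiv.Perm.mul_apply, Equiv.Perm.coe_inv,
          show t.symm x0 = bp 6 from (Equiv.symm_apply_eq t).2 (idx_injective e6).symm,
          ← pt_idx (u (bp 6)), eu]
    have h16 : ((orbN.getD 6 []).toFinset.image pt).card = 16 := by decide +kernel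
    have := Finset.card_le_card hbig
    omega

/-- `σ` normalises the group. -/
def NormalizesFix (i : ℕ) (σ : Equiv.Perm GolayPt) : Prop :=
  (∀ w ∈ baseSet i, σ w = w) ∧
    (∀ g ∈ fixUpTo M24 i, σ * g * σ⁻¹ ∈ fixUpTo M24 i) ∧
    (∀ g ∈ fixUpTo M24 i, σ⁻¹ * g * σ ∈ fixUpTo M24 i)

theorem NormalizesFix.mul_left {i : ℕ} {σ h : Equiv.Perm GolayPt} (hσ : NormalizesFix i σ)
    (hh : h ∈ fixUpTo M24 i) : NormalizesFix i (h * σ) := by
  obtain ⟨h1, h2, h3⟩ := hσ
  refine ⟨fun w hw => ?_, fun g hg => ?_, fun g hg => ?_⟩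
  · rw [Equiv.Perm.mul_apply, h1 w hw, fix_baseSet hh hw]
  · have := (fixUpTo M24 i).mul_mem ((fixUpTo M24 i).mul_mem hh (h2 g hg))
      ((fixUpTo M24 i).inv_mem hh)
    convert this using 1
    group
  · have := h3 _ ((fixUpTo M24 i).mul_mem ((fixUpTo M24 i).mul_mem ((fixUpTo M24 i).inv_mem hh) hg)
      hh)
    convert this using 1
    group

theorem NormalizesFix.smul_octad {i : ℕ} (hi : i ≤ 2) {σ : Equiv.Perm GolayPt}
    (hσ : NormalizesFix i σ) {O : Finset GolayPt} (hO : O ∈ octads) (hW : baseSet i ⊆ O) :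
    σ • O ∈ octads := by
  obtain ⟨h1, h2, h3⟩ := hσ
  have hc : 5 - i ≤ (O \ baseSet i).card := by
    rw [Finset.card_sdiff_of_subset hW, card_of_mem_octads hO, card_baseSet (by omega)]
    omega
  obtain ⟨t, ht, htc⟩ := Finset.exists_subset_card_eq hc
  let e : ℕ → GolayPt := fun j => if j < i then bp j else
    if h : j - i < t.card then (t.equivFin.symm ⟨j - i, h⟩ : GolayPt) else none
  have heW : ∀ j < i, e j = bp j := fun j hj => if_pos hj
  have het : ∀ j, i ≤ j → j < 5 → e j ∈ t := fun j hj hj5 => by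
    simp only [e, if_neg (not_lt.2 hj), dif_pos (show j - i < t.card by omega)]
    exact Finset.coe_mem _
  have heinj : ∀ j k, j < 5 → k < 5 → e j = e k → j = k := by
    intro j k hj hk h
    rcases lt_or_ge j i with hji | hji <;> rcases lt_or_ge k i with hki | hki
    · rw [heW j hji, heW k hki] at h
      exact bp_injective (by omega) (by omega) h
    · exfalso
      have := (Finset.mem_sdiff.1 (ht (het k hki hk))).2
      rw [← h, heW j hji] at this
      exact this (mem_baseSet.2 ⟨j, hji, rfl⟩)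
    · exfalso
      have := (Finset.mem_sdiff.1 (ht (het j hji hj))).2
      rw [h, heW k hki] at this
      exact this (mem_baseSet.2 ⟨k, hki, rfl⟩)
    · simp only [e, if_neg (not_lt.2 hji), if_neg (not_lt.2 hki),
        dif_pos (show j - i < t.card by omega), dif_pos (show k - i < t.card by omega),
        ← Subtype.ext_iff, EmbeddingLike.apply_eq_iff_eq, Fin.mk.injEq] at h
      omega
  have heO : ∀ j < 5, e j ∈ O := fun j hj => by
    rcases lt_or_ge j i with hji | hji
    · rw [heW j hji]; exact hW (mem_baseSet.2 ⟨j, hji, rfl⟩)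
    · exact (Finset.mem_sdiff.1 (ht (het j hji hj))).1
  obtain ⟨O', hO', hsO'⟩ := exists_octad (s := (Finset.range 5).image fun j => σ (e j)) (by
    rw [Finset.card_image_of_injOn (fun j hj k hk h =>
      heinj j k (Finset.mem_range.1 hj) (Finset.mem_range.1 hk) (σ.injective h)), Finset.card_range])
  suffices σ • O = O' by rw [this]; exact hO'
  refine Finset.eq_of_subset_of_card_le (fun y hy => ?_)
    (by rw [Finset.card_smul_finset, card_of_mem_octads hO, card_of_mem_octads hO'])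
  obtain ⟨x, hx, rfl⟩ := Finset.mem_image.1 hy
  show σ x ∈ O'
  by_cases hxe : ∃ j < 5, x = e j
  · obtain ⟨j, hj, rfl⟩ := hxe
    exact hsO' (Finset.mem_image.2 ⟨j, Finset.mem_range.2 hj, rfl⟩)
  push Not at hxe
  rw [mem_octad_iff_fiveOrbit (e := fun j => σ (e j))
    (fun j k hj hk h => heinj j k hj hk (σ.injective h)) hO'
    (fun j hj => hsO' (Finset.mem_image.2 ⟨j, Finset.mem_range.2 hj, rfl⟩))
    (fun j hj h => hxe j hj (σ.injective h))]
  refine le_trans ?_ ((mem_octad_iff_fiveOrbit heinj hO heO hxe).1 hx)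
  rw [← Finset.card_map σ.toEmbedding (s := fiveOrbit e x)]
  refine Finset.card_le_card fun z hz => ?_
  obtain ⟨h, hh, hfix, rfl⟩ := mem_fiveOrbit.1 hz
  have hG : h ∈ fixUpTo M24 i := mem_fixUpTo.2 ⟨hh, fun j hj => by
    have := hfix j (by omega)
    rwa [heW j hj, h1 _ (mem_baseSet.2 ⟨j, hj, rfl⟩)] at this⟩
  rw [Finset.mem_map_equiv, mem_fiveOrbit]
  refine ⟨σ⁻¹ * h * σ, fixUpTo_le M24 i (h3 h hG), fun j hj => ?_, ?_⟩
  · rw [Equiv.Perm.mul_apply, Equiv.Perm.mul_apply, hfix j hj, Equiv.Perm.coe_inv,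
      Equiv.symm_apply_apply]
  · rw [Equiv.Perm.mul_apply, Equiv.Perm.mul_apply, Equiv.Perm.coe_inv]

/-- `closeCheck` using only octads through the points of `W`. -/
def closeCheckW (W : ℕ) : ℕ → List (ℕ × List ℕ) → Bool
  | F, [] => F == 16777215
  | F, (x, os) :: r =>
    os.all (fun o => inCode o && popc o == 8 && o &&& W == W && decide (5 ≤ popc (o &&& F))) &&
      (os.foldl (fun a o => a &&& o) (16777215 ^^^ F) == 2 ^ x) &&
      closeCheckW W (F ||| 2 ^ x) r

theorem eq_one_of_closeCheckW {g : Equiv.Perm GolayPt} {W : ℕ}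
    (hoct : ∀ o ∈ octads, toSet W ⊆ o → g • o ∈ octads) :
    ∀ (L : List (ℕ × List ℕ)) (F : ℕ), closeCheckW W F L = true →
      (∀ p ∈ toSet F, g p = p) → g = 1
  | [], F, hc, hfix => by
    rw [closeCheckW, beq_iff_eq] at hc
    subst hc
    exact Equiv.ext fun p => hfix p (toSet_all p)
  | (x, os) :: r, F, hc, hfix => by
    simp only [closeCheckW, Bool.and_eq_true, List.all_eq_true, beq_iff_eq, decide_eq_true_eq]
      at hc
    obtain ⟨⟨hos, hfold⟩, hrest⟩ := hc
    refine eq_one_of_closeCheckW hoct r _ hrest ?_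
    have hcompl : g • toSet (16777215 ^^^ F) = toSet (16777215 ^^^ F) := by
      refine Finset.eq_of_subset_of_card_le ?_ (by rw [Finset.card_smul_finset])
      intro p hp
      rw [← Finset.inv_smul_mem_iff, mem_toSet, Nat.testBit_xor] at hp
      rw [mem_toSet, Nat.testBit_xor]
      have h1 := toSet_all p
      have h2 := toSet_all (g⁻¹ • p)
      rw [mem_toSet] at h1 h2
      rw [h2] at hp
      rw [h1]
      cases hb : F.testBit (idx p)
      · rfl
      · have hpp := hfix p (by rw [mem_toSet, hb])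
        have e : g⁻¹ • p = p := by
          rw [Equiv.Perm.smul_def, Equiv.Perm.coe_inv, Equiv.symm_apply_eq, hpp]
        rw [e, hb] at hp
        simp at hp
    have key : ∀ (os : List ℕ) (a : ℕ),
        (∀ o ∈ os, inCode o = true ∧ popc o = 8 ∧ o &&& W = W ∧ 5 ≤ popc (o &&& F)) →
        g • toSet a = toSet a →
        g • toSet (os.foldl (fun a o => a &&& o) a) = toSet (os.foldl (fun a o => a &&& o) a) := by
      intro os
      induction os with
      | nil => exact fun a _ ha => ha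
      | cons o os ih =>
        intro a hall ha
        rw [List.foldl_cons]
        refine ih _ (fun o' ho' => hall o' (List.mem_cons_of_mem _ ho')) ?_
        obtain ⟨h1, h2, h3, h4⟩ := hall o List.mem_cons_self
        have ho : toSet o ∈ octads := octad_mem_iff.2 ⟨o, h1, h2, rfl⟩
        have hWo : toSet W ⊆ toSet o := by
          conv_lhs => rw [← h3, ← toSet_inter]
          exact Finset.inter_subset_left
        have hgo : g • toSet o = toSet o := by
          refine octad_unique (hoct _ ho hWo) ho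
            (s := toSet o ∩ toSet F) (by rw [toSet_inter, card_toSet]; exact h4) (fun p hp => ?_)
            Finset.inter_subset_left
          rw [← hfix p (Finset.mem_inter.1 hp).2]
          exact Finset.smul_mem_smul_finset (Finset.mem_inter.1 hp).1
        rw [← toSet_inter, Finset.smul_finset_inter, ha, hgo]
    have hset := key os _
      (fun o ho => ⟨(hos o ho).1.1.1, (hos o ho).1.1.2, (hos o ho).1.2, (hos o ho).2⟩) hcompl
    rw [hfold] at hset
    intro p hp
    rw [mem_toSet, Nat.testBit_or, Bool.or_eq_true] at hp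
    rcases hp with hp | hp
    · exact hfix p (mem_toSet.2 hp)
    · rw [Nat.testBit_two_pow] at hp
      have hpx : idx p = x := (of_decide_eq_true hp).symm
      have : g p ∈ toSet (2 ^ x) := by
        rw [apply_mem_iff_of_smul_eq hset, mem_toSet, hpx, Nat.testBit_two_pow_self]
      rw [mem_toSet, Nat.testBit_two_pow] at this
      exact idx_injective ((of_decide_eq_true this).symm.trans hpx.symm)

/-- After composing with an element of the group a normalising permutation fixes the base. -/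
theorem NormalizesFix.exists_fix_base {i : ℕ} (hi : i ≤ 2) {σ : Equiv.Perm GolayPt}
    (hσ : NormalizesFix i σ) :
    ∃ h ∈ fixUpTo M24 i, ∀ j < 7, (h * σ) (bp j) = bp j := by
  obtain ⟨h0, ⟨ho1, ho2⟩, h3, h4, h5, h6, -, -, -⟩ := orb_facts
  obtain ⟨g, hg, hgj⟩ := exists_map_in (i := i) (fun j => σ (bp j)) 5 le_rfl (by omega)
    (fun j k hj hk h => bp_injective (by omega) (by omega) (σ.injective h))
    (fun j hj => hσ.1 _ (mem_baseSet.2 ⟨j, hj, rfl⟩))
  have hσ1 := hσ.mul_left ((fixUpTo M24 i).inv_mem hg)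
  have hfix1 : ∀ j < 5, (g⁻¹ * σ) (bp j) = bp j := fun j hj => by
    rw [Equiv.Perm.mul_apply, Equiv.Perm.coe_inv, Equiv.symm_apply_eq]
    exact (hgj j hj).symm
  have hO : toSet octadO ∈ octads := octad_mem_iff.2 ⟨_, ho1, ho2, rfl⟩
  have hbO : ∀ j < 6, bp j ∈ toSet octadO := fun j hj => by
    rw [mem_toSet, idx_bp]
    exact h3 ⟨j, hj⟩
  have hOpres : ∀ τ : Equiv.Perm GolayPt, NormalizesFix i τ → (∀ j < 5, τ (bp j) = bp j) →
      τ • toSet octadO = toSet octadO := by
    intro τ hτ hτfix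
    refine octad_unique (hτ.smul_octad hi hO fun w hw => ?_) hO
      (s := baseSet 5) (by rw [card_baseSet (by norm_num)]) (fun p hp => ?_) (fun p hp => ?_)
    · obtain ⟨j, hj, rfl⟩ := mem_baseSet.1 hw
      exact hbO j (by omega)
    · obtain ⟨j, hj, rfl⟩ := mem_baseSet.1 hp
      rw [← hτfix j hj]
      exact Finset.smul_mem_smul_finset (hbO j (by omega))
    · obtain ⟨j, hj, rfl⟩ := mem_baseSet.1 hp
      exact hbO j (by omega)
  have hx5 : idx ((g⁻¹ * σ) (bp 5)) ∈ orbN.getD 5 [] := by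
    refine h4 ⟨_, idx_lt _⟩ (fun j => apply_ne_of_fixed (hfix1 j.val j.isLt)
      (base_ne ⟨5, by norm_num⟩ ⟨j.val, by omega⟩
        (fun e => absurd (congrArg Fin.val e) (by have := j.isLt; simp only; omega)))) ?_
    exact mem_toSet.1 ((apply_mem_iff_of_smul_eq (hOpres _ hσ1 hfix1) _).2 (hbO 5 (by norm_num)))
  obtain ⟨t, ht, et⟩ := exists_transversal (by norm_num) hx5
  obtain ⟨t1, t2⟩ := mem_fixUpTo.1 ht
  have htG : t ∈ fixUpTo M24 i := mem_fixUpTo.2 ⟨t1, fun j hj => t2 j (by omega)⟩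
  have hσ2 := hσ1.mul_left ((fixUpTo M24 i).inv_mem htG)
  have hfix2 : ∀ j < 6, (t⁻¹ * (g⁻¹ * σ)) (bp j) = bp j := by
    intro j hj
    rw [Equiv.Perm.mul_apply, Equiv.Perm.coe_inv, Equiv.symm_apply_eq]
    rcases Nat.lt_succ_iff_lt_or_eq.1 hj with hj' | rfl
    · rw [hfix1 j hj', t2 j hj']
    · exact (idx_injective et).symm
  have hx6 : idx ((t⁻¹ * (g⁻¹ * σ)) (bp 6)) ∈ orbN.getD 6 [] := by
    refine h5 ⟨_, idx_lt _⟩ ?_
    rw [Bool.eq_false_iff]
    intro e
    have hm := (apply_mem_iff_of_smul_eq (hOpres _ hσ2 fun j hj => hfix2 j (by omega)) (bp 6)).1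
      (mem_toSet.2 e)
    rw [mem_toSet, idx_bp, h6] at hm
    exact absurd hm (by decide)
  obtain ⟨u, hu, eu⟩ := exists_transversal (by norm_num) hx6
  obtain ⟨u1, u2⟩ := mem_fixUpTo.1 hu
  have huG : u ∈ fixUpTo M24 i := mem_fixUpTo.2 ⟨u1, fun j hj => u2 j (by omega)⟩
  refine ⟨u⁻¹ * t⁻¹ * g⁻¹, (fixUpTo M24 i).mul_mem ((fixUpTo M24 i).mul_mem
    ((fixUpTo M24 i).inv_mem huG) ((fixUpTo M24 i).inv_mem htG)) ((fixUpTo M24 i).inv_mem hg),
    fun j hj => ?_⟩
  rw [show u⁻¹ * t⁻¹ * g⁻¹ * σ = u⁻¹ * (t⁻¹ * (g⁻¹ * σ)) by group, Equiv.Perm.mul_apply,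
    Equiv.Perm.coe_inv, Equiv.symm_apply_eq]
  rcases Nat.lt_succ_iff_lt_or_eq.1 hj with hj' | rfl
  · rw [hfix2 j hj', u2 j hj']
  · exact (idx_injective eu).symm

def steps0 : List (ℕ × List ℕ) := [(6, [8683614, 2162811]), (7, [8978620, 11010247, 12599513]), (8, [1065303, 9568632, 8421811]), (9, [786999, 8524371]), (10, [1573998, 5279]), (11, [9963547, 8431757]), (12, [11538486, 8663097]), (13, [12656663, 8663097]), (14, [8966165, 421910]), (15, [14716939, 8966165]), (16, [4845570, 1302533]), (17, [13062145, 9347075, 1302533]), (18, [13062145, 9347075]), (19, [4845570, 9347075]), (20, [13938692, 1302533]), (21, [11100169]), (22, [])]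

def steps1 : List (ℕ × List ℕ) := [(6, [8683614, 8391797]), (7, [8978620, 11010247, 12599513]), (8, [9568632, 13631886, 8421811]), (9, [8524371, 8946281]), (10, [8660134, 11535529]), (11, [9963547, 8431757]), (12, [11538486, 8663097]), (13, [12656663, 8663097]), (14, [8966165, 8536111]), (15, [14716939, 8966165]), (16, [11100169, 12656663]), (17, [13062145, 9347075, 10170384]), (18, [13062145, 9347075]), (19, [9347075]), (20, [13938692, 10305542]), (21, [11100169]), (22, [])]

def steps2 : List (ℕ × List ℕ) := [(6, [12599513, 8391797]), (7, [11010247, 12599513]), (8, [10506593, 8421811]), (9, [9519665, 8675909]), (10, [10765331, 11535529, 8398155]), (11, [9963547, 8505411]), (12, [8966165, 8663097]), (13, [12656663, 8663097]), (15, [14716939, 8966165]), (16, [11100169, 12656663]), (17, [13062145, 9347075, 8536111]), (18, [13062145, 9347075]), (19, [9347075]), (20, [9506893]), (21, [11100169]), (22, [])]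

theorem steps_checked :
    closeCheckW 0 ((baseN.map (2 ^ ·)).foldl (· ||| ·) 0) steps0 = true ∧
    closeCheckW 8388608 ((baseN.map (2 ^ ·)).foldl (· ||| ·) 0) steps1 = true ∧
    closeCheckW 8388609 ((baseN.map (2 ^ ·)).foldl (· ||| ·) 0 ||| 2 ^ 14) steps2 = true ∧
    toSet 0 = baseSet 0 ∧ toSet 8388608 = baseSet 1 ∧ toSet 8388609 = baseSet 2 := by
  decide +kernel

theorem eq_one_of_fix_base {i : ℕ} (hi : i ≤ 1) {σ : Equiv.Perm GolayPt}
    (hσ : NormalizesFix i σ) (hfix : ∀ j < 7, σ (bp j) = bp j) : σ = 1 := by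
  obtain ⟨c0, c1, -, w0, w1, -⟩ := steps_checked
  have hbase : ∀ p ∈ toSet ((baseN.map (2 ^ ·)).foldl (· ||| ·) 0), σ p = p := fun p hp => by
    obtain ⟨j, hj⟩ := baseMask_facts.2 p (mem_toSet.1 hp)
    rw [← idx_bp] at hj
    rw [idx_injective hj]
    exact hfix j.val j.isLt
  interval_cases i
  · exact eq_one_of_closeCheckW (fun o ho hW => hσ.smul_octad (by norm_num) ho (w0 ▸ hW)) _ _ c0
      hbase
  · exact eq_one_of_closeCheckW (fun o ho hW => hσ.smul_octad (by norm_num) ho (w1 ▸ hW)) _ _ c1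
      hbase

/-- The table of a permutation normalising M₂₂ outside M₂₄. -/
def outTab : List ℕ := [0, 1, 2, 3, 4, 5, 10, 15, 8, 21, 6, 11, 18, 13, 17, 7, 22, 14, 12, 20, 19, 9, 16, 23]

/-- Its companion in M₂₄, exchanging the two base points. -/
def swapTab : List ℕ := [23, 1, 2, 3, 4, 5, 10, 15, 8, 21, 6, 11, 18, 13, 17, 7, 22, 14, 12, 20, 19, 9, 16, 0]

theorem outTab_facts : checkAut swapTab = true ∧
    (∀ i : Fin 24, outTab.getD i.val 0 =
      if swapTab.getD i.val 0 = 0 then 23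
      else if swapTab.getD i.val 0 = 23 then 0 else swapTab.getD i.val 0) ∧
    swapTab.getD 23 0 = 0 ∧ swapTab.getD 0 1 = 23 ∧ powTab outTab 2 = idTab ∧
    outTab.getD 14 0 = 17 ∧ (∀ j : Fin 7, outTab.getD (baseN.getD j.val 0) 0 = baseN.getD j.val 0) := by
  decide +kernel

/-- The outer element. -/
noncomputable def outPerm : Equiv.Perm GolayPt := permOf outTab (by decide +kernel)

/-- The element of M₂₄ exchanging the two base points. -/
noncomputable def swapElt : Equiv.Perm GolayPt := permOf swapTab (by decide +kernel)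

theorem outPerm_eq : outPerm = Equiv.swap (none : GolayPt) (some 0) * swapElt := by
  have h : ∀ p : GolayPt, Equiv.swap (none : GolayPt) (some 0) (pt (swapTab.getD (idx p) 0)) =
      pt (outTab.getD (idx p) 0) := by decide +kernel
  exact Equiv.ext fun p => by
    rw [outPerm, swapElt, Equiv.Perm.mul_apply, (tab_permOf _).apply, (tab_permOf _).apply, h]

theorem outPerm_mul_self : outPerm * outPerm = 1 := by
  rw [← pow_two]
  exact tab_unique (outTab_facts.2.2.2.2.1 ▸ (tab_permOf _).pow 2) tab_one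

theorem tab_outPerm : Tab outPerm outTab := tab_permOf _

theorem outPerm_base {j : ℕ} (hj : j < 7) : outPerm (bp j) = bp j := by
  apply idx_injective
  rw [tab_outPerm.apply, idx_pt (tab_outPerm.lt (idx_lt _)), idx_bp]
  exact outTab_facts.2.2.2.2.2.2 ⟨j, hj⟩

theorem normalizes_outPerm : NormalizesFix 2 outPerm := by
  have hconj : ∀ g ∈ fixUpTo M24 2, outPerm * g * outPerm⁻¹ ∈ fixUpTo M24 2 := by
    intro g hg
    obtain ⟨hg1, hg2⟩ := mem_fixUpTo.1 hg
    have hτ : swapElt ∈ M24 := (tab_permOf _).mem_M24 outTab_facts.1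
    have hn : swapElt none = some 0 := by
      rw [swapElt, (tab_permOf _).apply, show idx none = 23 from rfl, outTab_facts.2.2.1]
      rfl
    have h0 : swapElt (some 0) = none := by
      rw [swapElt, (tab_permOf _).apply, show idx (some 0) = 0 from rfl]
      decide +kernel
    set c := swapElt * g * swapElt⁻¹ with hc
    have hcn : c none = none := by
      rw [hc, Equiv.Perm.mul_apply, Equiv.Perm.mul_apply, Equiv.Perm.coe_inv,
        show swapElt.symm none = some 0 from (Equiv.symm_apply_eq _).2 h0.symm,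
        ← bp_one, hg2 1 (by norm_num), bp_one, h0]
    have hc0 : c (some 0) = some 0 := by
      rw [hc, Equiv.Perm.mul_apply, Equiv.Perm.mul_apply, Equiv.Perm.coe_inv,
        show swapElt.symm (some 0) = none from (Equiv.symm_apply_eq _).2 hn.symm,
        ← bp_zero, hg2 0 (by norm_num), bp_zero, hn]
    have hcomm : outPerm * g * outPerm⁻¹ = c := by
      rw [outPerm_eq, mul_inv_rev, Equiv.swap_inv]
      calc _ = Equiv.swap (none : GolayPt) (some 0) * c * Equiv.swap none (some 0) := by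
            rw [hc]; group
        _ = c := by
            rw [mul_assoc, Equiv.mul_swap_eq_swap_mul, hcn, hc0, ← mul_assoc, Equiv.swap_mul_self,
              one_mul]
    rw [hcomm]
    refine mem_fixUpTo.2 ⟨M24.mul_mem (M24.mul_mem hτ hg1) (M24.inv_mem hτ), fun j hj => ?_⟩
    interval_cases j
    · rw [bp_zero]; exact hcn
    · rw [bp_one]; exact hc0
  refine ⟨fun w hw => ?_, hconj, fun g hg => ?_⟩
  · obtain ⟨j, hj, rfl⟩ := mem_baseSet.1 hw
    exact outPerm_base (by omega)
  · have hinv : outPerm⁻¹ = outPerm := inv_eq_of_mul_eq_one_right outPerm_mul_self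
    have := hconj g hg
    rwa [hinv] at this ⊢

theorem eq_one_or_outPerm_of_fix_base {σ : Equiv.Perm GolayPt} (hσ : NormalizesFix 2 σ)
    (hfix : ∀ j < 7, σ (bp j) = bp j) : σ = 1 ∨ σ = outPerm := by
  obtain ⟨-, ⟨ho1, ho2⟩, h3, h4, -, -, -, -, -⟩ := orb_facts
  obtain ⟨-, -, c2, -, -, w2⟩ := steps_checked
  have done : ∀ τ : Equiv.Perm GolayPt, NormalizesFix 2 τ → (∀ j < 7, τ (bp j) = bp j) →
      τ (pt 14) = pt 14 → τ = 1 := by
    intro τ hτ hτfix h14
    refine eq_one_of_closeCheckW (fun o ho hW => hτ.smul_octad le_rfl ho (w2 ▸ hW)) _ _ c2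
      fun p hp => ?_
    rw [mem_toSet, Nat.testBit_or, Bool.or_eq_true, Nat.testBit_two_pow] at hp
    rcases hp with hp | hp
    · obtain ⟨j, hj⟩ := baseMask_facts.2 p hp
      rw [← idx_bp] at hj
      rw [idx_injective hj]
      exact hτfix j.val j.isLt
    · rw [← pt_idx p, ← of_decide_eq_true hp, h14]
  have hO : toSet octadO ∈ octads := octad_mem_iff.2 ⟨_, ho1, ho2, rfl⟩
  have hbO : ∀ j < 6, bp j ∈ toSet octadO := fun j hj => by
    rw [mem_toSet, idx_bp]
    exact h3 ⟨j, hj⟩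
  have hpres : σ • toSet octadO = toSet octadO := by
    refine octad_unique (hσ.smul_octad le_rfl hO fun w hw => ?_) hO
      (s := baseSet 5) (by rw [card_baseSet (by norm_num)]) (fun p hp => ?_) (fun p hp => ?_)
    · obtain ⟨j, hj, rfl⟩ := mem_baseSet.1 hw
      exact hbO j (by omega)
    · obtain ⟨j, hj, rfl⟩ := mem_baseSet.1 hp
      rw [← hfix j (by omega)]
      exact Finset.smul_mem_smul_finset (hbO j (by omega))
    · obtain ⟨j, hj, rfl⟩ := mem_baseSet.1 hp
      exact hbO j (by omega)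
  have h14O : pt 14 ∈ toSet octadO := by decide +kernel
  have hx : idx (σ (pt 14)) ∈ orbN.getD 5 [] := by
    refine h4 ⟨_, idx_lt _⟩ (fun j e => ?_)
      (mem_toSet.1 ((apply_mem_iff_of_smul_eq hpres _).2 h14O))
    simp only at e
    rw [← idx_bp, ← hfix j.val (by omega)] at e
    exact (by decide +kernel : ∀ j : Fin 5, pt 14 ≠ bp j.val) j (σ.injective (idx_injective e))
  have hne5 : idx (σ (pt 14)) ≠ baseN.getD 5 0 := fun e => by
    rw [← idx_bp, ← hfix 5 (by norm_num)] at e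
    exact (by decide +kernel : pt 14 ≠ bp 5) (σ.injective (idx_injective e))
  have h1417 : idx (σ (pt 14)) = 14 ∨ idx (σ (pt 14)) = 17 :=
    (by decide +kernel : ∀ x ∈ orbN.getD 5 [], x ≠ baseN.getD 5 0 → x = 14 ∨ x = 17) _ hx hne5
  rcases h1417 with h | h
  · exact Or.inl (done σ hσ hfix (idx_injective (h.trans (idx_pt (by norm_num)).symm)))
  refine Or.inr ?_
  have hσ' : NormalizesFix 2 (outPerm * σ) := by
    obtain ⟨a1, a2, a3⟩ := hσ
    obtain ⟨b1, b2, b3⟩ := normalizes_outPerm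
    refine ⟨fun w hw => by rw [Equiv.Perm.mul_apply, a1 w hw, b1 w hw],
      fun g hg => ?_, fun g hg => ?_⟩
    · convert b2 _ (a2 g hg) using 1; group
    · convert a3 _ (b3 g hg) using 1; group
  have h1 := done (outPerm * σ) hσ' (fun j hj => by
    rw [Equiv.Perm.mul_apply, hfix j hj, outPerm_base hj]) (by
    rw [Equiv.Perm.mul_apply, ← pt_idx (σ (pt 14)), h, outPerm, (tab_permOf _).apply]
    decide +kernel)
  rw [← inv_eq_of_mul_eq_one_right outPerm_mul_self]
  exact eq_inv_of_mul_eq_one_right h1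

theorem normalizes_of_conj {i : ℕ} {G : Subgroup (Equiv.Perm GolayPt)} (hG : G = fixUpTo M24 i)
    (φ : MulAut G) {σ : Equiv.Perm GolayPt} (hw : ∀ w ∈ baseSet i, σ w = w)
    (hφ : ∀ g : G, (φ g : Equiv.Perm GolayPt) = σ * g * σ⁻¹) : NormalizesFix i σ := by
  refine ⟨hw, fun g hg => ?_, fun g hg => ?_⟩
  · rw [← hφ ⟨g, hG.ge hg⟩]
    exact hG.le (φ _).2
  · obtain ⟨k, hk⟩ := φ.surjective ⟨g, hG.ge hg⟩
    have h := hφ k
    rw [hk] at h
    rw [show g = σ * k.1 * σ⁻¹ from h, show σ⁻¹ * (σ * k.1 * σ⁻¹) * σ = k.1 by group]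
    exact hG.le k.2

theorem mem_Inn_of_mem {i : ℕ} {G : Subgroup (Equiv.Perm GolayPt)} (hG : G = fixUpTo M24 i)
    (φ : MulAut G) {σ : Equiv.Perm GolayPt} (hσ : σ ∈ fixUpTo M24 i)
    (hφ : ∀ g : G, (φ g : Equiv.Perm GolayPt) = σ * g * σ⁻¹) : φ ∈ Cfsg.Inn G :=
  ⟨⟨σ, hG.ge hσ⟩, MulEquiv.ext fun g => Subtype.ext (hφ g).symm⟩

theorem card_Out_of_rigid {i : ℕ} (hi : i ≤ 1) (G : Subgroup (Equiv.Perm GolayPt))
    (hG : G = fixUpTo M24 i)
    (hsub : ∀ K ≤ fixUpTo M24 i, Nat.card K * (24 - i) = Nat.card (fixUpTo M24 i) →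
      ∃ p ∉ baseSet i, ∀ g ∈ K, g p = p) : Nat.card (Cfsg.Out G) = 1 := by
  have htop : Cfsg.Inn G = ⊤ := by
    rw [eq_top_iff]
    intro φ _
    obtain ⟨σ, hw, hφ⟩ := exists_conj_perm (by omega) G hG hsub φ
    have hN := normalizes_of_conj hG φ hw hφ
    obtain ⟨h, hh, hfix⟩ := hN.exists_fix_base (by omega)
    have := eq_one_of_fix_base hi (hN.mul_left hh) hfix
    exact mem_Inn_of_mem hG φ
      (eq_inv_of_mul_eq_one_right this ▸ (fixUpTo M24 i).inv_mem hh) hφ
  rw [Cfsg.Out, ← Subgroup.index_eq_card, htop, Subgroup.index_top]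

theorem card_Out_M24 : Nat.card (Cfsg.Out M24) = 1 :=
  card_Out_of_rigid (i := 0) (by norm_num) M24 rfl fun K hK hc =>
    exists_fixed_M24 hK (by rw [show fixUpTo M24 0 = M24 from rfl, card_M24] at hc; omega)

theorem card_Out_M23 : Nat.card (Cfsg.Out Spor.M23) = 1 :=
  card_Out_of_rigid (i := 1) le_rfl Spor.M23 M23_eq fun K hK hc =>
    exists_fixed_M23 hK (by rw [card_fix_one] at hc; omega)

/-- Conjugation by `outPerm`, as an automorphism of M₂₂. -/
noncomputable def outAut : MulAut Spor.M22 where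
  toFun g := ⟨outPerm * g.1 * outPerm⁻¹, M22_eq.ge (normalizes_outPerm.2.1 g.1 (M22_eq.le g.2))⟩
  invFun g := ⟨outPerm⁻¹ * g.1 * outPerm, M22_eq.ge (normalizes_outPerm.2.2 g.1 (M22_eq.le g.2))⟩
  left_inv g := by ext1; simp only; group
  right_inv g := by ext1; simp only; group
  map_mul' a b := by ext1; simp only [Subgroup.coe_mul]; group

theorem card_Out_M22 : Nat.card (Cfsg.Out Spor.M22) = 2 := by
  have hsub : ∀ K ≤ fixUpTo M24 2, Nat.card K * (24 - 2) = Nat.card (fixUpTo M24 2) →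
      ∃ p ∉ baseSet 2, ∀ g ∈ K, g p = p := fun K hK hc =>
    exists_fixed_M22 hK (by rw [card_fix_two] at hc; omega)
  have houtnot : outAut ∉ Cfsg.Inn Spor.M22 := by
    rintro ⟨⟨h, hh⟩, e⟩
    rw [M22_eq] at hh
    have hc : ∀ g : Spor.M22, h * g.1 * h⁻¹ = outPerm * g.1 * outPerm⁻¹ := fun g =>
      congrArg Subtype.val (DFunLike.congr_fun e g)
    have heq : h⁻¹ * outPerm = 1 := by
      have hw : ∀ w ∈ baseSet 2, (h⁻¹ * outPerm) w = w := fun w hw => by
        rw [Equiv.Perm.mul_apply, normalizes_outPerm.1 w hw]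
        exact fix_baseSet ((fixUpTo M24 2).inv_mem hh) hw
      refine Equiv.ext fun p => ?_
      by_cases hp : p ∈ baseSet 2
      · exact hw p hp
      refine stab_determines le_rfl hp (fun hmem => hp ?_) fun g hg hgp => ?_
      · exact (h⁻¹ * outPerm).injective (hw _ hmem) ▸ hmem
      have h1 := hc ⟨g, M22_eq.ge hg⟩
      have h2 : g * (h⁻¹ * outPerm) = (h⁻¹ * outPerm) * g := by
        calc g * (h⁻¹ * outPerm) = h⁻¹ * (h * g * h⁻¹) * outPerm := by group
          _ = h⁻¹ * (outPerm * g * outPerm⁻¹) * outPerm := by rw [h1]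
          _ = (h⁻¹ * outPerm) * g := by group
      have h3 := DFunLike.congr_fun h2 p
      rw [Equiv.Perm.coe_one, id_eq] at hgp
      rw [Equiv.Perm.mul_apply, Equiv.Perm.mul_apply (h⁻¹ * outPerm) g, hgp] at h3
      exact h3
    have hout : outPerm ∈ fixUpTo M24 7 := by
      refine mem_fixUpTo.2 ⟨?_, fun j hj => outPerm_base hj⟩
      rw [← inv_mul_eq_one.1 heq]
      exact fixUpTo_le M24 2 hh
    rw [fixUpTo_seven, Subgroup.mem_bot] at hout
    have h14 : outPerm (pt 14) = pt 17 := by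
      rw [outPerm, (tab_permOf _).apply]
      decide +kernel
    rw [hout, Equiv.Perm.coe_one, id_eq] at h14
    exact absurd h14 (by decide +kernel)
  have hcover : ∀ φ : MulAut Spor.M22, φ ∈ Cfsg.Inn Spor.M22 ∨ φ * outAut ∈ Cfsg.Inn Spor.M22 := by
    intro φ
    obtain ⟨σ, hw, hφ⟩ := exists_conj_perm le_rfl Spor.M22 M22_eq hsub φ
    have hN := normalizes_of_conj M22_eq φ hw hφ
    obtain ⟨h, hh, hfix⟩ := hN.exists_fix_base le_rfl
    rcases eq_one_or_outPerm_of_fix_base (hN.mul_left hh) hfix with h1 | h1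
    · exact Or.inl (mem_Inn_of_mem M22_eq φ
        (eq_inv_of_mul_eq_one_right h1 ▸ (fixUpTo M24 2).inv_mem hh) hφ)
    · refine Or.inr (mem_Inn_of_mem M22_eq _ ((fixUpTo M24 2).inv_mem hh) fun g => ?_)
      rw [MulAut.mul_apply, hφ]
      show σ * (outPerm * g.1 * outPerm⁻¹) * σ⁻¹ = _
      have hσe : σ = h⁻¹ * outPerm := eq_inv_mul_iff_mul_eq.2 h1
      rw [hσe, inv_eq_of_mul_eq_one_right outPerm_mul_self]
      calc h⁻¹ * outPerm * (outPerm * g.1 * outPerm) * (h⁻¹ * outPerm)⁻¹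
          = h⁻¹ * (outPerm * outPerm) * g.1 * h := by group
        _ = _ := by rw [outPerm_mul_self]; group
  rw [Cfsg.Out, ← Subgroup.index_eq_card, Subgroup.index_eq_two_iff]
  refine ⟨outAut, fun φ => ?_⟩
  rcases hcover φ with h | h
  · exact Or.inr ⟨h, fun h' => houtnot (((Cfsg.Inn _).mul_mem_cancel_left h).1 h')⟩
  · refine Or.inl ⟨h, fun h' => houtnot (((Cfsg.Inn _).mul_mem_cancel_left h').1 h)⟩

end Cfsg.Agent.Golay
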