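import Cfsg.Agent.Lib.Golay.Fixed
import Cfsg.Agent.Lib.Golay.Outer

/-!
Involutions of M₂₄, its base size, and the setwise stabiliser of a pair of points.
-/

set_option autoImplicit false

namespace Cfsg.Agent.Golay

open scoped Pointwise

/-- An element exchanging ∞ with 0 and 1 with 2. -/
def pairsTab : List ℕ := [23, 2, 1, 13, 15, 4, 5, 14, 19, 18, 8, 7, 21, 20, 22, 12, 9, 16, 6, 3, 11, 17, 10, 0]

def inv8Tab : List ℕ := [23, 2, 1, 5, 4, 3, 19, 21, 8, 15, 20, 11, 12, 13, 17, 9, 16, 14, 18, 6, 10, 7, 22, 0]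

def inv0Tab : List ℕ := [23, 2, 1, 13, 5, 4, 15, 10, 11, 21, 7, 8, 18, 3, 22, 6, 17, 16, 12, 20, 19, 9, 14, 0]

def conj8 : List (List ℕ) := [
    [0, 1, 2, 3, 4, 5, 6, 7, 8, 9, 10, 11, 12, 13, 14, 15, 16, 17, 18, 19, 20, 21, 22, 23],
    [18, 8, 11, 2, 10, 1, 14, 5, 6, 13, 16, 7, 19, 15, 0, 4, 9, 23, 21, 17, 22, 3, 20, 12],
    [0, 2, 1, 17, 20, 5, 6, 19, 8, 16, 22, 18, 12, 15, 14, 13, 9, 3, 11, 7, 4, 21, 10, 23],
    [0, 14, 3, 18, 21, 8, 2, 5, 6, 11, 9, 4, 22, 13, 15, 12, 19, 20, 7, 1, 10, 17, 16, 23],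
    [2, 23, 0, 12, 16, 18, 10, 20, 14, 21, 6, 17, 3, 22, 8, 19, 4, 11, 5, 15, 7, 9, 13, 1],
    [12, 4, 22, 9, 19, 15, 18, 16, 7, 20, 0, 5, 3, 14, 1, 10, 6, 2, 21, 11, 23, 13, 17, 8],
    [16, 6, 21, 2, 17, 1, 10, 23, 3, 7, 4, 12, 14, 8, 20, 19, 18, 15, 11, 9, 13, 0, 5, 22],
    [0, 1, 2, 4, 3, 16, 6, 7, 9, 8, 12, 20, 10, 17, 22, 18, 5, 13, 15, 19, 11, 21, 14, 23],
    [2, 23, 0, 16, 12, 4, 10, 20, 21, 14, 3, 7, 6, 11, 13, 5, 18, 22, 19, 15, 17, 9, 8, 1],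
    [0, 17, 3, 21, 10, 6, 8, 19, 20, 5, 1, 13, 9, 16, 11, 14, 4, 18, 22, 12, 2, 7, 15, 23]]

def conj0 : List (List ℕ) := [
    [0, 1, 2, 3, 4, 5, 6, 7, 8, 9, 10, 11, 12, 13, 14, 15, 16, 17, 18, 19, 20, 21, 22, 23],
    [5, 14, 16, 12, 18, 9, 23, 21, 3, 2, 19, 13, 4, 20, 10, 0, 15, 8, 17, 7, 6, 1, 11, 22],
    [22, 1, 2, 11, 7, 8, 18, 21, 15, 20, 12, 10, 13, 6, 14, 19, 5, 16, 3, 23, 0, 9, 4, 17],
    [15, 6, 16, 8, 0, 23, 17, 5, 19, 1, 10, 4, 20, 18, 21, 9, 22, 7, 14, 11, 12, 2, 13, 3],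
    [0, 1, 2, 6, 18, 19, 3, 17, 13, 9, 10, 22, 16, 8, 21, 15, 12, 7, 4, 5, 20, 14, 11, 23],
    [23, 14, 10, 18, 8, 4, 22, 13, 17, 9, 12, 20, 19, 16, 21, 11, 2, 1, 6, 15, 3, 5, 7, 0],
    [4, 12, 18, 1, 8, 11, 7, 6, 0, 22, 10, 23, 5, 2, 9, 15, 20, 21, 13, 16, 14, 17, 19, 3],
    [7, 22, 14, 9, 20, 8, 12, 18, 4, 17, 10, 3, 23, 11, 2, 15, 19, 21, 0, 5, 16, 13, 1, 6],
    [23, 16, 17, 21, 19, 8, 12, 18, 4, 5, 7, 3, 10, 11, 20, 6, 2, 1, 15, 14, 13, 22, 9, 0],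
    [0, 21, 6, 10, 20, 9, 8, 12, 19, 17, 11, 7, 1, 15, 22, 18, 13, 16, 2, 5, 3, 14, 4, 23],
    [2, 23, 0, 12, 16, 18, 10, 20, 14, 21, 6, 17, 3, 22, 8, 19, 4, 11, 5, 15, 7, 9, 13, 1],
    [19, 23, 0, 14, 2, 1, 18, 12, 3, 7, 4, 5, 15, 17, 22, 13, 16, 8, 6, 21, 10, 20, 11, 9],
    [0, 11, 13, 5, 2, 1, 16, 18, 8, 19, 22, 4, 17, 3, 21, 12, 7, 9, 14, 10, 6, 20, 15, 23],
    [0, 9, 10, 17, 3, 5, 7, 19, 15, 16, 21, 20, 1, 14, 8, 6, 11, 18, 2, 13, 22, 4, 12, 23],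
    [16, 0, 23, 18, 12, 13, 2, 17, 3, 15, 14, 5, 22, 4, 20, 1, 7, 10, 8, 9, 6, 19, 21, 11],
    [8, 12, 15, 21, 19, 22, 2, 3, 11, 0, 14, 20, 9, 4, 13, 1, 16, 6, 18, 5, 17, 23, 7, 10],
    [3, 13, 22, 2, 23, 0, 7, 21, 16, 9, 6, 4, 5, 1, 12, 19, 11, 8, 17, 20, 10, 15, 18, 14],
    [11, 15, 10, 14, 5, 17, 7, 19, 9, 4, 6, 20, 12, 3, 23, 21, 1, 2, 8, 22, 16, 13, 0, 18],
    [23, 17, 5, 22, 7, 4, 8, 18, 2, 12, 15, 1, 3, 6, 21, 20, 16, 19, 14, 10, 11, 9, 13, 0],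
    [16, 14, 3, 4, 22, 7, 2, 5, 23, 18, 17, 0, 13, 6, 9, 1, 12, 10, 19, 8, 15, 20, 11, 21],
    [6, 4, 19, 1, 3, 14, 10, 8, 21, 15, 9, 22, 7, 2, 23, 18, 17, 5, 16, 20, 12, 11, 0, 13],
    [0, 5, 6, 1, 10, 20, 17, 7, 3, 8, 14, 19, 9, 2, 22, 21, 4, 18, 15, 16, 12, 13, 11, 23],
    [23, 8, 9, 18, 11, 10, 3, 21, 15, 22, 14, 12, 16, 20, 17, 19, 7, 5, 13, 2, 1, 4, 6, 0],
    [3, 4, 10, 15, 16, 9, 8, 0, 22, 21, 23, 20, 17, 13, 2, 12, 18, 11, 7, 14, 6, 5, 1, 19],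
    [23, 2, 1, 6, 4, 21, 14, 3, 9, 12, 18, 10, 15, 13, 7, 8, 16, 19, 20, 5, 11, 17, 22, 0],
    [0, 4, 20, 19, 2, 1, 9, 16, 13, 8, 10, 15, 21, 7, 11, 22, 18, 3, 6, 14, 12, 5, 17, 23],
    [0, 18, 3, 6, 15, 21, 1, 16, 5, 19, 22, 12, 13, 20, 11, 2, 8, 17, 4, 7, 10, 9, 14, 23],
    [0, 6, 4, 18, 3, 8, 2, 10, 13, 12, 9, 21, 20, 14, 19, 1, 7, 16, 15, 11, 17, 5, 22, 23],
    [5, 7, 19, 2, 6, 21, 10, 9, 23, 17, 13, 0, 11, 1, 22, 4, 16, 20, 14, 3, 8, 12, 15, 18],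
    [23, 20, 19, 3, 5, 11, 18, 12, 15, 6, 14, 7, 22, 8, 4, 17, 2, 1, 16, 21, 10, 9, 13, 0],
    [17, 3, 7, 18, 11, 16, 9, 2, 5, 20, 1, 21, 19, 13, 4, 15, 22, 12, 14, 23, 0, 10, 8, 6],
    [0, 15, 18, 13, 2, 1, 12, 10, 9, 14, 8, 11, 4, 16, 17, 20, 5, 19, 22, 7, 3, 6, 21, 23],
    [2, 5, 6, 7, 19, 17, 15, 13, 21, 23, 9, 14, 11, 3, 4, 16, 10, 22, 18, 12, 8, 0, 20, 1],
    [1, 7, 5, 13, 16, 18, 22, 4, 21, 19, 12, 3, 9, 11, 23, 8, 20, 10, 15, 6, 14, 17, 0, 2],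
    [4, 3, 21, 16, 0, 23, 17, 6, 14, 8, 5, 19, 1, 13, 20, 7, 10, 18, 2, 9, 12, 15, 11, 22],
    [21, 7, 14, 4, 22, 9, 0, 11, 19, 2, 18, 5, 17, 15, 10, 23, 20, 16, 6, 8, 12, 1, 13, 3],
    [0, 3, 20, 6, 19, 16, 7, 21, 14, 17, 22, 15, 8, 4, 2, 13, 11, 12, 18, 5, 9, 10, 1, 23],
    [2, 23, 0, 10, 5, 15, 12, 11, 22, 21, 6, 13, 4, 14, 9, 19, 3, 20, 16, 18, 7, 8, 17, 1],
    [2, 23, 0, 16, 12, 4, 10, 20, 21, 14, 3, 7, 6, 11, 13, 5, 18, 22, 19, 15, 17, 9, 8, 1],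
    [15, 16, 5, 6, 9, 7, 4, 13, 3, 23, 14, 22, 21, 20, 18, 17, 2, 1, 10, 11, 8, 0, 12, 19],
    [0, 22, 3, 20, 8, 9, 2, 19, 14, 15, 21, 4, 6, 11, 13, 1, 16, 17, 7, 10, 12, 18, 5, 23],
    [0, 2, 1, 14, 4, 5, 7, 6, 10, 18, 8, 15, 20, 16, 3, 11, 13, 17, 9, 19, 12, 21, 22, 23],
    [11, 8, 5, 4, 13, 7, 15, 2, 18, 10, 1, 17, 3, 19, 6, 20, 21, 16, 12, 0, 23, 9, 22, 14],
    [0, 10, 13, 14, 11, 5, 21, 2, 4, 8, 1, 9, 19, 18, 22, 6, 16, 15, 7, 12, 3, 17, 20, 23],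
    [17, 13, 4, 2, 22, 16, 6, 21, 23, 3, 20, 0, 8, 1, 10, 15, 9, 7, 14, 5, 18, 12, 19, 11],
    [16, 17, 15, 8, 1, 2, 22, 13, 5, 12, 6, 20, 4, 18, 9, 19, 14, 10, 7, 23, 0, 11, 3, 21],
    [23, 19, 11, 3, 17, 20, 15, 10, 6, 18, 5, 12, 13, 9, 4, 14, 2, 1, 22, 8, 7, 21, 16, 0],
    [21, 11, 13, 10, 20, 14, 3, 5, 12, 4, 15, 22, 2, 17, 23, 9, 19, 6, 1, 16, 8, 18, 0, 7],
    [20, 10, 19, 8, 23, 0, 22, 3, 21, 14, 16, 15, 9, 11, 1, 5, 12, 18, 6, 17, 13, 4, 2, 7],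
    [23, 11, 15, 14, 3, 16, 17, 5, 8, 18, 4, 10, 21, 13, 1, 22, 7, 6, 19, 12, 9, 20, 2, 0],
    [0, 1, 2, 4, 3, 16, 6, 7, 9, 8, 12, 20, 10, 17, 22, 18, 5, 13, 15, 19, 11, 21, 14, 23],
    [23, 3, 6, 17, 14, 21, 8, 13, 19, 20, 12, 5, 15, 7, 11, 16, 22, 18, 9, 1, 2, 10, 4, 0],
    [9, 10, 12, 1, 16, 13, 14, 6, 8, 19, 3, 20, 15, 2, 22, 7, 23, 0, 11, 21, 5, 17, 4, 18],
    [0, 6, 3, 15, 4, 9, 2, 12, 17, 10, 8, 21, 11, 22, 19, 1, 7, 5, 18, 20, 13, 16, 14, 23],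
    [4, 17, 8, 12, 3, 11, 23, 9, 5, 21, 10, 18, 13, 14, 20, 0, 2, 1, 19, 16, 6, 22, 15, 7],
    [17, 4, 15, 8, 5, 12, 16, 22, 20, 1, 10, 13, 11, 14, 21, 9, 0, 23, 3, 19, 7, 2, 6, 18],
    [11, 18, 14, 16, 23, 0, 10, 21, 17, 7, 9, 12, 8, 22, 2, 6, 13, 4, 5, 19, 15, 20, 1, 3],
    [11, 9, 15, 3, 14, 5, 19, 7, 20, 2, 6, 10, 18, 17, 13, 21, 16, 22, 8, 0, 23, 1, 4, 12],
    [13, 17, 3, 2, 14, 5, 6, 21, 23, 4, 11, 0, 9, 1, 12, 18, 8, 7, 22, 16, 15, 10, 19, 20],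
    [11, 17, 3, 6, 21, 8, 14, 23, 2, 4, 0, 1, 18, 12, 13, 5, 15, 22, 19, 16, 9, 20, 10, 7],
    [17, 6, 11, 7, 19, 8, 16, 15, 18, 1, 4, 21, 23, 12, 13, 10, 20, 22, 0, 5, 14, 2, 9, 3],
    [10, 14, 5, 8, 21, 12, 11, 7, 0, 1, 18, 23, 15, 6, 16, 19, 4, 9, 13, 3, 17, 2, 20, 22],
    [7, 9, 10, 13, 4, 22, 2, 0, 20, 12, 23, 15, 19, 16, 5, 1, 3, 17, 6, 11, 8, 18, 14, 21],
    [17, 11, 12, 10, 9, 14, 8, 1, 0, 16, 2, 23, 5, 3, 22, 18, 19, 13, 15, 4, 21, 7, 6, 20],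
    [0, 3, 10, 1, 22, 13, 5, 20, 17, 11, 14, 15, 16, 2, 6, 9, 19, 8, 4, 21, 12, 7, 18, 23],
    [21, 12, 16, 1, 6, 19, 22, 18, 11, 17, 13, 4, 23, 2, 3, 8, 5, 20, 0, 15, 14, 9, 10, 7]]

/-- The fixed points of a table, as a mask. -/
def fixMask (l : List ℕ) : ℕ :=
  (List.range 24).foldl (fun r i => if l.getD i 0 == i then r ||| 2 ^ i else r) 0

/-- An element of the chain, from a transversal index. -/
def chainTab (k : ℕ) : List ℕ := (evalSLP gens24 prog24).getD k idTab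

theorem chainTab_mem (k : ℕ) : ∃ g ∈ M24, Tab g (chainTab k) := by
  refine evalSLP_mem M24 prog24 gens24 ?_ k
  intro l hl
  simp only [gens24, List.mem_cons, List.not_mem_nil, or_false] at hl
  rcases hl with rfl | rfl | rfl | rfl
  exacts [⟨_, shift_mem, tab_shift⟩, ⟨_, projInv_mem, tab_projInv⟩,
    ⟨_, cubeTwist_mem, tab_cubeTwist⟩, ⟨1, M24.one_mem, tab_one⟩]

/-- Each candidate is not an involution, or is conjugate to one of the two representatives. -/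
def candCheck (c : List ℕ) : Bool :=
  comp c c != idTab || conj8.any (fun l => comp l inv8Tab == comp c l) ||
    conj0.any (fun l => comp l inv0Tab == comp c l)

theorem invol_facts :
    ((reps24.getD 4 []).all fun a => (reps24.getD 5 []).all fun b => (reps24.getD 6 []).all fun c =>
      candCheck (comp pairsTab (comp (chainTab a.2) (comp (chainTab b.2) (chainTab c.2))))) = true ∧
    (conj8 ++ conj0).all (fun l => isPermTab l && checkAut l) = true ∧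
    (isPermTab inv8Tab && checkAut inv8Tab && (comp inv8Tab inv8Tab == idTab) &&
      decide (fixCount inv8Tab = 8)) = true ∧
    (isPermTab inv0Tab && checkAut inv0Tab && (comp inv0Tab inv0Tab == idTab) &&
      decide (fixCount inv0Tab = 0)) = true ∧
    (isPermTab pairsTab && checkAut pairsTab) = true ∧
    [pairsTab.getD 23 0, pairsTab.getD 0 1, pairsTab.getD 1 0, pairsTab.getD 2 0] = [0, 23, 2, 1] ∧
    inCode (fixMask inv8Tab) = true ∧ popc (fixMask inv8Tab) = 8 ∧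
    (∀ i : Fin 24, (fixMask inv8Tab).testBit i.val = (inv8Tab.getD i.val 0 == i.val)) := by
  decide +kernel

/-- Every involution of `M₂₄` is conjugate to one of the two representatives. -/
theorem exists_rep_involution {g : Equiv.Perm GolayPt} (hg : g ∈ M24) (ho : orderOf g = 2) :
    ∃ k ∈ M24, ∃ r, Tab r inv8Tab ∧ k * r * k⁻¹ = g ∨ Tab r inv0Tab ∧ k * r * k⁻¹ = g := by
  have hsq : ∀ x, g (g x) = x := fun x => by
    have h := pow_orderOf_eq_one g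
    rw [ho, pow_two] at h
    exact DFunLike.congr_fun h x
  have h1 : g ≠ 1 := fun e => by rw [e, orderOf_one] at ho; omega
  -- two disjoint moved pairs
  have hF := card_fixedPts_le hg h1
  obtain ⟨a, -, ha⟩ := Finset.exists_mem_notMem_of_card_lt_card
    (show (fixedPts g).card < (Finset.univ : Finset GolayPt).card by
      rw [Finset.card_univ, card_golayPt]; omega)
  obtain ⟨c, -, hc⟩ := Finset.exists_mem_notMem_of_card_lt_card
    (show (fixedPts g ∪ {a, g a}).card < (Finset.univ : Finset GolayPt).card by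
      rw [Finset.card_univ, card_golayPt]
      have := Finset.card_union_le (fixedPts g) {a, g a}
      have h2 : ({a, g a} : Finset GolayPt).card ≤ 2 := (Finset.card_insert_le _ _).trans (by simp)
      omega)
  rw [mem_fixedPts] at ha
  simp only [Finset.mem_union, mem_fixedPts, Finset.mem_insert, Finset.mem_singleton, not_or] at hc
  obtain ⟨hcf, hca, hcga⟩ := hc
  obtain ⟨q, hq, hqj⟩ := exists_map_base
    (fun j => if j = 0 then a else if j = 1 then g a else if j = 2 then c else g c) 4 (by norm_num)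
    (fun j k hj hk h => by
      interval_cases j <;> interval_cases k <;> simp at h ⊢ <;> first
        | exact absurd h (Ne.symm ha)
        | exact absurd h ha
        | exact absurd h.symm hca
        | exact absurd h hca
        | exact absurd h.symm hcga
        | exact absurd h hcga
        | exact absurd h (Ne.symm hcf)
        | exact absurd h hcf
        | (exfalso; apply hcga; rw [← hsq c, ← h]; done)
        | (exfalso; apply hcga; rw [← hsq c, h]; done)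
        | (exfalso; exact hca (g.injective h).symm)
        | (exfalso; exact hca (g.injective h)))
  set g' := q⁻¹ * g * q with hg'
  have hg'M : g' ∈ M24 := M24.mul_mem (M24.mul_mem (M24.inv_mem hq) hg) hq
  have q0 : q (bp 0) = a := by simpa using hqj 0 (by norm_num)
  have q1 : q (bp 1) = g a := by simpa using hqj 1 (by norm_num)
  have q2 : q (bp 2) = c := by simpa using hqj 2 (by norm_num)
  have q3 : q (bp 3) = g c := by simpa using hqj 3 (by norm_num)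
  have hswap : g' (bp 0) = bp 1 ∧ g' (bp 1) = bp 0 ∧ g' (bp 2) = bp 3 ∧ g' (bp 3) = bp 2 := by
    simp only [hg', Equiv.Perm.mul_apply, Equiv.Perm.coe_inv, Equiv.symm_apply_eq, q0, q1, q2, q3,
      hsq, and_self]
  obtain ⟨hcand, hconj, hr8, hr0, hp, hpv, -, -, -⟩ := invol_facts
  simp only [Bool.and_eq_true, beq_iff_eq, decide_eq_true_eq] at hr8 hr0 hp
  have tp := tab_permOf hp.1
  set p0 := permOf pairsTab hp.1
  have hp0 : p0 ∈ M24 := tp.mem_M24 hp.2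
  simp only [List.cons.injEq, and_true] at hpv
  have hv : ∀ j < 4, p0 (bp j) = g' (bp j) := by
    intro j hj
    obtain ⟨s0, s1, s2, s3⟩ := hswap
    obtain ⟨v0, v1, v2, v3⟩ := hpv
    have hb : bp 0 = pt 23 ∧ bp 1 = pt 0 ∧ bp 2 = pt 1 ∧ bp 3 = pt 2 := by decide +kernel
    have hi : idx (bp 0) = 23 ∧ idx (bp 1) = 0 ∧ idx (bp 2) = 1 ∧ idx (bp 3) = 2 := by
      decide +kernel
    have v1' : pairsTab.getD 0 0 = 23 := by decide +kernel
    interval_cases j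
    · rw [s0, tp.apply, hi.1, v0, hb.2.1]
    · rw [s1, tp.apply, hi.2.1, v1', hb.1]
    · rw [s2, tp.apply, hi.2.2.1, v2, hb.2.2.2]
    · rw [s3, tp.apply, hi.2.2.2, v3, hb.2.2.1]
  -- decompose along the chain
  have step : ∀ (i : ℕ) (hi : i < 7) (x : Equiv.Perm GolayPt), x ∈ fixUpTo M24 i →
      ∃ k, ∃ y ∈ M24, ∃ z, (z, k) ∈ reps24.getD i [] ∧ Tab y (chainTab k) ∧
        y⁻¹ * x ∈ fixUpTo M24 (i + 1) := by
    intro i hi x hx
    have hrep : ∀ i : Fin 7, (reps24.getD i.val []).map Prod.fst = orbN.getD i.val [] ∧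
        ∀ xk ∈ reps24.getD i.val [],
          (chainTab xk.2).getD (baseN.getD i.val 0) 0 = xk.1 ∧
          ∀ j : Fin i.val, (chainTab xk.2).getD (baseN.getD j.val 0) 0 = baseN.getD j.val 0 := by
      decide +kernel
    obtain ⟨h1, h2⟩ := hrep ⟨i, hi⟩
    have hm := orbit_subset hi hx
    rw [← h1, List.mem_map] at hm
    obtain ⟨⟨z, k⟩, hzk, e⟩ := hm
    obtain ⟨e1, e2⟩ := h2 _ hzk
    obtain ⟨y, hy, hyt⟩ := chainTab_mem k
    obtain ⟨x1, x2⟩ := mem_fixUpTo.1 hx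
    refine ⟨k, y, hy, z, hzk, hyt, mem_fixUpTo.2 ⟨M24.mul_mem (M24.inv_mem hy) x1, fun j hj => ?_⟩⟩
    rw [Equiv.Perm.mul_apply, Equiv.Perm.coe_inv, Equiv.symm_apply_eq]
    rcases Nat.lt_succ_iff_lt_or_eq.1 hj with hj | rfl
    · rw [x2 j hj]
      apply idx_injective
      rw [hyt.apply, idx_pt (hyt.lt (idx_lt _)), idx_bp, e2 ⟨j, hj⟩]
    · apply idx_injective
      rw [hyt.apply, idx_pt (hyt.lt (idx_lt _)), idx_bp, e1]
      exact e.symm
  have hrest : p0⁻¹ * g' ∈ fixUpTo M24 4 := by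
    refine mem_fixUpTo.2 ⟨M24.mul_mem (M24.inv_mem hp0) hg'M, fun j hj => ?_⟩
    rw [Equiv.Perm.mul_apply, Equiv.Perm.coe_inv, Equiv.symm_apply_eq, hv j hj]
  obtain ⟨k4, y4, -, z4, m4, t4, r4⟩ := step 4 (by norm_num) _ hrest
  obtain ⟨k5, y5, -, z5, m5, t5, r5⟩ := step 5 (by norm_num) _ r4
  obtain ⟨k6, y6, -, z6, m6, t6, r6⟩ := step 6 (by norm_num) _ r5
  rw [fixUpTo_seven, Subgroup.mem_bot] at r6
  have hg'eq : g' = p0 * (y4 * (y5 * y6)) := by
    rw [inv_mul_eq_one, eq_inv_mul_iff_mul_eq, eq_inv_mul_iff_mul_eq, eq_inv_mul_iff_mul_eq] at r6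
    exact r6.symm
  have tg : Tab g' _ := hg'eq ▸ tp.mul (t4.mul (t5.mul t6))
  simp only [List.all_eq_true] at hcand hconj
  have hck := hcand _ m4 _ m5 _ m6
  simp only [candCheck, Bool.or_eq_true, bne_iff_ne, List.any_eq_true, beq_iff_eq] at hck
  have conv : ∀ (rt : List ℕ) (hrp : isPermTab rt = true) (l : List ℕ), l ∈ conj8 ++ conj0 →
      comp l rt = comp (comp pairsTab (comp (chainTab k4) (comp (chainTab k5) (chainTab k6)))) l →
      ∃ k ∈ M24, k * permOf rt hrp * k⁻¹ = g := by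
    intro rt hrp l hl e
    have hlc := hconj l hl
    rw [Bool.and_eq_true] at hlc
    have tl := tab_permOf hlc.1
    refine ⟨q * permOf l hlc.1, M24.mul_mem hq (tl.mem_M24 hlc.2), ?_⟩
    have key : permOf l hlc.1 * permOf rt hrp = g' * permOf l hlc.1 :=
      tab_unique (tl.mul (tab_permOf hrp)) (e ▸ tg.mul tl)
    calc q * permOf l hlc.1 * permOf rt hrp * (q * permOf l hlc.1)⁻¹
        = q * (permOf l hlc.1 * permOf rt hrp) * (permOf l hlc.1)⁻¹ * q⁻¹ := by group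
      _ = q * g' * q⁻¹ := by rw [key]; group
      _ = g := by rw [hg']; group
  rcases hck with (hns | ⟨l, hl, e⟩) | ⟨l, hl, e⟩
  · exfalso
    apply hns
    have h2 : g' * g' = 1 := by
      rw [hg']
      calc q⁻¹ * g * q * (q⁻¹ * g * q) = q⁻¹ * (g * g) * q := by group
        _ = 1 := by rw [← pow_two g, ← ho, pow_orderOf_eq_one]; group
    have t2 := tg.mul tg
    rw [h2] at t2
    refine List.ext_getElem (by simp [comp, idTab]) fun i hi _ => ?_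
    have hi24 : i < 24 := by simpa [comp] using hi
    rw [← List.getD_eq_getElem _ 0 hi, ← List.getD_eq_getElem _ 0, ← t2 i hi24, tab_one i hi24]
  · obtain ⟨k, hk, e'⟩ := conv inv8Tab hr8.1.1.1 l (List.mem_append_left _ hl) e
    exact ⟨k, hk, _, Or.inl ⟨tab_permOf _, e'⟩⟩
  · obtain ⟨k, hk, e'⟩ := conv inv0Tab hr0.1.1.1 l (List.mem_append_right _ hl) e
    exact ⟨k, hk, _, Or.inr ⟨tab_permOf _, e'⟩⟩

/-- The fixed points of an involution: an octad or none; each kind is one class. -/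
theorem involution_classes :
    (∀ g ∈ M24, orderOf g = 2 →
      (Finset.univ.filter fun p => g p = p) ∈ octads ∨ ∀ p, g p ≠ p) ∧
    (∃ g ∈ M24, orderOf g = 2 ∧ (Finset.univ.filter fun p => g p = p) ∈ octads) ∧
    (∃ g ∈ M24, orderOf g = 2 ∧ ∀ p, g p ≠ p) ∧
    ∀ g ∈ M24, ∀ h ∈ M24, orderOf g = 2 → orderOf h = 2 →
      ((∀ p, g p ≠ p) ↔ (∀ p, h p ≠ p)) → ∃ k ∈ M24, k * g * k⁻¹ = h := by
  obtain ⟨-, -, hr8, hr0, -, -, hm1, hm2, hm3⟩ := invol_facts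
  simp only [Bool.and_eq_true, beq_iff_eq, decide_eq_true_eq] at hr8 hr0
  have t8 := tab_permOf hr8.1.1.1
  have t0 := tab_permOf hr0.1.1.1
  set r8 := permOf inv8Tab hr8.1.1.1
  set r0 := permOf inv0Tab hr0.1.1.1
  have ord : ∀ (r : Equiv.Perm GolayPt) (l : List ℕ), Tab r l → comp l l = idTab →
      fixCount l ≠ 24 → orderOf r = 2 := by
    intro r l hr he hne
    have : Fact (Nat.Prime 2) := ⟨Nat.prime_two⟩
    refine orderOf_eq_prime (by rw [pow_two]; exact tab_unique (he ▸ hr.mul hr) tab_one) fun e => ?_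
    apply hne
    rw [← hr.card_fixedPts, e, show fixedPts 1 = Finset.univ by ext; simp, Finset.card_univ,
      card_golayPt]
  have o8 : fixedPts r8 ∈ octads := by
    have e : fixedPts r8 = toSet (fixMask inv8Tab) := by
      ext p
      rw [mem_fixedPts, mem_toSet, hm3 ⟨_, idx_lt p⟩, beq_iff_eq, t8.apply]
      exact ⟨fun h => by rw [← idx_pt (t8.lt (idx_lt p)), h], fun h => by rw [h, pt_idx]⟩
    rw [e]
    exact octad_mem_iff.2 ⟨_, hm1, hm2, rfl⟩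
  have f0 : ∀ p, r0 p ≠ p := by
    intro p hp
    have h0 : (fixedPts r0).card = 0 := by rw [t0.card_fixedPts, hr0.2]
    rw [Finset.card_eq_zero] at h0
    exact absurd (mem_fixedPts.2 hp) (by rw [h0]; exact Finset.notMem_empty p)
  have fconj : ∀ k r : Equiv.Perm GolayPt, fixedPts (k * r * k⁻¹) = k • fixedPts r := by
    intro k r
    ext p
    rw [← Finset.inv_smul_mem_iff, mem_fixedPts, mem_fixedPts, Equiv.Perm.smul_def,
      Equiv.Perm.mul_apply, Equiv.Perm.mul_apply, Equiv.Perm.coe_inv]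
    exact (Equiv.eq_symm_apply k).symm
  have main : ∀ g ∈ M24, orderOf g = 2 → (∃ k ∈ M24, k * r8 * k⁻¹ = g ∧ fixedPts g ∈ octads) ∨
      ∃ k ∈ M24, k * r0 * k⁻¹ = g ∧ ∀ p, g p ≠ p := by
    intro g hg ho
    obtain ⟨k, hk, r, ⟨hr, e⟩ | ⟨hr, e⟩⟩ := exists_rep_involution hg ho
    · rw [tab_unique hr t8] at e
      exact Or.inl ⟨k, hk, e, by rw [← e, fconj]; exact smul_mem_octads hk o8⟩
    · rw [tab_unique hr t0] at e
      refine Or.inr ⟨k, hk, e, fun p hp => f0 (k⁻¹ p) ?_⟩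
      rw [← e, Equiv.Perm.mul_apply, Equiv.Perm.mul_apply] at hp
      exact k.injective (hp.trans (Equiv.apply_symm_apply k p).symm)
  refine ⟨fun g hg ho => ?_, ⟨r8, t8.mem_M24 hr8.1.1.2, ord _ _ t8 hr8.1.2 (by rw [hr8.2]; norm_num),
    o8⟩, ⟨r0, t0.mem_M24 hr0.1.1.2, ord _ _ t0 hr0.1.2 (by rw [hr0.2]; norm_num), f0⟩,
    fun g hg h hh hgo hho hiff => ?_⟩
  · rcases main g hg ho with ⟨-, -, -, h⟩ | ⟨-, -, -, h⟩
    · exact Or.inl h
    · exact Or.inr h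
  · have ne : ∀ g : Equiv.Perm GolayPt, fixedPts g ∈ octads → ¬ ∀ p, g p ≠ p := fun g hg hall => by
      have := card_of_mem_octads hg
      obtain ⟨p, hp⟩ := Finset.card_pos.1 (show 0 < (fixedPts g).card by omega)
      exact hall p (mem_fixedPts.1 hp)
    rcases main g hg hgo with ⟨k, hk, e, fg⟩ | ⟨k, hk, e, fg⟩ <;>
      rcases main h hh hho with ⟨k', hk', e', fh⟩ | ⟨k', hk', e', fh⟩
    · exact ⟨k' * k⁻¹, M24.mul_mem hk' (M24.inv_mem hk), by rw [← e, ← e']; group⟩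
    · exact absurd (hiff.2 fh) (ne g fg)
    · exact absurd (hiff.1 fg) (ne h fh)
    · exact ⟨k' * k⁻¹, M24.mul_mem hk' (M24.inv_mem hk), by rw [← e, ← e']; group⟩

theorem base_facts : ∀ x : Fin 24, (∀ j : Fin 5, x.val ≠ baseN.getD j.val 0) →
    (reps24.getD 5 []).any (fun a => (reps24.getD 6 []).any fun b =>
      comp (chainTab a.2) (chainTab b.2) != idTab &&
        (comp (chainTab a.2) (chainTab b.2)).getD x.val 0 == x.val &&
        (List.range 5).all fun j =>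
          (comp (chainTab a.2) (chainTab b.2)).getD (baseN.getD j 0) 0 == baseN.getD j 0) = true := by
  decide +kernel

/-- The base size of `M₂₄` is 7. -/
theorem base_size :
    (∀ B : Finset GolayPt, B.card ≤ 6 → ∃ g ∈ M24, g ≠ 1 ∧ ∀ b ∈ B, g b = b) ∧
    ∃ B : Finset GolayPt, B.card = 7 ∧ ∀ g ∈ M24, (∀ b ∈ B, g b = b) → g = 1 := by
  refine ⟨fun B hB => ?_, baseSet 7, card_baseSet le_rfl, fun g hg hfix => ?_⟩
  · obtain ⟨S, hBS, -, hS⟩ := Finset.exists_subsuperset_card_eq (Finset.subset_univ B) hB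
      (by rw [Finset.card_univ, card_golayPt]; norm_num)
    obtain ⟨x, hx⟩ := Finset.card_pos.1 (show 0 < S.card by omega)
    set T := S.erase x
    have hT : T.card = 5 := by rw [Finset.card_erase_of_mem hx, hS]
    obtain ⟨a, ha, haj⟩ := exists_map_base
      (fun j => if h : j < 5 then ((T.equivFinOfCardEq hT).symm ⟨j, h⟩ : GolayPt) else none) 5 le_rfl
      (fun j k hj hk hjk => by
        simp only [dif_pos hj, dif_pos hk, ← Subtype.ext_iff, EmbeddingLike.apply_eq_iff_eq,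
          Fin.mk.injEq] at hjk
        exact hjk)
    have hne : ∀ j : Fin 5, idx (a⁻¹ x) ≠ baseN.getD j.val 0 := by
      intro j e
      rw [← idx_bp] at e
      have h1 := idx_injective e
      rw [Equiv.Perm.coe_inv, Equiv.symm_apply_eq, haj _ j.isLt, dif_pos j.isLt] at h1
      exact (Finset.mem_erase.1 ((T.equivFinOfCardEq hT).symm ⟨j, j.isLt⟩).2).1 h1.symm
    have hb := base_facts ⟨idx (a⁻¹ x), idx_lt _⟩ hne
    simp only [List.any_eq_true, Bool.and_eq_true, bne_iff_ne, beq_iff_eq, List.all_eq_true,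
      List.mem_range] at hb
    obtain ⟨c, -, d, -, ⟨hne', hfx⟩, hfb⟩ := hb
    obtain ⟨yc, hyc, tc⟩ := chainTab_mem c.2
    obtain ⟨yd, hyd, td⟩ := chainTab_mem d.2
    have t := tc.mul td
    refine ⟨a * (yc * yd) * a⁻¹, M24.mul_mem (M24.mul_mem ha (M24.mul_mem hyc hyd)) (M24.inv_mem ha),
      fun e => hne' ?_, fun b hb => ?_⟩
    · rw [mul_inv_eq_one, mul_eq_left] at e
      rw [e] at t
      refine List.ext_getElem (by simp [comp, idTab]) fun i hi _ => ?_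
      have hi24 : i < 24 := by simpa [comp] using hi
      rw [← List.getD_eq_getElem _ 0 hi, ← List.getD_eq_getElem _ 0, ← t i hi24, tab_one i hi24]
    · have hy : (yc * yd) (a⁻¹ b) = a⁻¹ b := by
        apply idx_injective
        rw [t.apply, idx_pt (t.lt (idx_lt _))]
        by_cases hbx : b = x
        · rw [hbx, hfx]
        · have hbT : b ∈ T := Finset.mem_erase.2 ⟨hbx, hBS hb⟩
          have hj := (T.equivFinOfCardEq hT ⟨b, hbT⟩).isLt
          have h1 := haj _ hj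
          rw [dif_pos hj, Fin.eta, Equiv.symm_apply_apply] at h1
          rw [show a⁻¹ b = bp (T.equivFinOfCardEq hT ⟨b, hbT⟩).val from
            (Equiv.symm_apply_eq a).2 h1.symm, idx_bp, hfb _ hj]
      rw [Equiv.Perm.mul_apply, Equiv.Perm.mul_apply, hy, Equiv.Perm.coe_inv,
        Equiv.apply_symm_apply]
  · have : g ∈ fixUpTo M24 7 :=
      mem_fixUpTo.2 ⟨hg, fun j hj => hfix _ (mem_baseSet.2 ⟨j, hj, rfl⟩)⟩
    rwa [fixUpTo_seven, Subgroup.mem_bot] at this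

/-- M₂₂ inside the setwise stabiliser of its two fixed points. -/
theorem pair_stabilizer (g : Equiv.Perm GolayPt) (hg : g ∈ M24) (h1 : g none = some 0)
    (h2 : g (some 0) = none) :
    Spor.M22.relIndex
        (M24 ⊓ MulAction.stabilizer (Equiv.Perm GolayPt) ({none, some 0} : Finset GolayPt)) = 2 ∧
      (∀ x ∈ Spor.M22, g * x * g⁻¹ ∈ Spor.M22) ∧
      ¬ ∃ h ∈ Spor.M22, ∀ x ∈ Spor.M22, g * x * g⁻¹ = h * x * h⁻¹ := by
  set K := M24 ⊓ MulAction.stabilizer (Equiv.Perm GolayPt) ({none, some 0} : Finset GolayPt)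
    with hK
  have hgK : g ∈ K := ⟨hg, by
    show Finset.image _ _ = _
    simp [Equiv.Perm.smul_def, h1, h2, Finset.pair_comm]⟩
  have hpair : ∀ k ∈ K, ∀ p : GolayPt, p = none ∨ p = some 0 → k p = none ∨ k p = some 0 := by
    intro k hk p hp
    have hk2 : k • ({none, some 0} : Finset GolayPt) = {none, some 0} := hk.2
    have : k • p ∈ k • ({none, some 0} : Finset GolayPt) :=
      Finset.smul_mem_smul_finset (by simpa using hp)
    rw [hk2] at this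
    simpa using this
  have hle : Spor.M22 ≤ K := fun x hx => by
    refine ⟨hx.1.1, ?_⟩
    have e1 : x none = none := hx.1.2
    have e2 : x (some 0) = some 0 := hx.2
    show Finset.image _ _ = _
    simp [Equiv.Perm.smul_def, e1, e2]
  have hstab : K ⊓ MulAction.stabilizer (Equiv.Perm GolayPt) (none : GolayPt) = Spor.M22 := by
    apply le_antisymm
    · rintro x ⟨hx, hx0⟩
      have hx0' : x none = none := hx0
      refine ⟨⟨hx.1, hx0⟩, ?_⟩
      rcases hpair x hx (some 0) (Or.inr rfl) with h | h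
      · exact absurd (x.injective (h.trans hx0'.symm)) (Option.some_ne_none 0)
      · exact h
    · exact fun x hx => ⟨hle hx, hx.1.2⟩
  have horb : (orbF K none).card = 2 := by
    have : orbF K none = {none, some 0} := by
      ext p
      rw [mem_orbF, Finset.mem_insert, Finset.mem_singleton]
      constructor
      · rintro ⟨k, hk, rfl⟩
        exact hpair k hk none (Or.inl rfl)
      · rintro (rfl | rfl)
        · exact ⟨1, K.one_mem, rfl⟩
        · exact ⟨g, hgK, h1⟩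
    rw [this]; rfl
  have hinv : g.symm none = some 0 ∧ g.symm (some 0) = none :=
    ⟨(Equiv.symm_apply_eq g).2 h2.symm, (Equiv.symm_apply_eq g).2 h1.symm⟩
  refine ⟨?_, fun x hx => ?_, ?_⟩
  · have hc := card_eq_orbF_mul K none
    rw [hstab, horb] at hc
    have hm := Subgroup.card_mul_index (Spor.M22.subgroupOf K)
    rw [Nat.card_congr (Subgroup.subgroupOfEquivOfLe hle).toEquiv, hc, mul_comm 2] at hm
    exact Nat.eq_of_mul_eq_mul_left Nat.card_pos hm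
  · have e1 : x none = none := hx.1.2
    have e2 : x (some 0) = some 0 := hx.2
    refine ⟨⟨M24.mul_mem (M24.mul_mem hg hx.1.1) (M24.inv_mem hg), ?_⟩, ?_⟩
    · show (g * x * g⁻¹) none = none
      rw [Equiv.Perm.mul_apply, Equiv.Perm.mul_apply, Equiv.Perm.coe_inv, hinv.1, e2, h2]
    · show (g * x * g⁻¹) (some 0) = some 0
      rw [Equiv.Perm.mul_apply, Equiv.Perm.mul_apply, Equiv.Perm.coe_inv, hinv.2, e1, h1]
  · rintro ⟨h, hh, hx⟩
    have hh1 : h none = none := hh.1.2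
    set c := h⁻¹ * g with hc
    have hc1 : c none = some 0 := by
      rw [hc, Equiv.Perm.mul_apply, h1, Equiv.Perm.coe_inv, Equiv.symm_apply_eq]
      exact hh.2.symm
    have hcom : ∀ x ∈ Spor.M22, x * c = c * x := by
      intro x hx'
      calc x * c = h⁻¹ * (h * x * h⁻¹) * g := by rw [hc]; group
        _ = h⁻¹ * (g * x * g⁻¹) * g := by rw [hx x hx']
        _ = c * x := by rw [hc]; group
    have hb : ∀ p, p ∈ baseSet 2 ↔ p = none ∨ p = some 0 := by decide +kernel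
    have hfix : ∀ p, p ∉ baseSet 2 → c p = p := by
      intro p hp
      have hcp : c p ∉ baseSet 2 := by
        have hc2 : c (some 0) = none := by
          rw [hc, Equiv.Perm.mul_apply, h2, Equiv.Perm.coe_inv, Equiv.symm_apply_eq]
          exact hh1.symm
        intro hm
        rcases (hb _).1 hm with e | e
        · exact hp ((hb p).2 (Or.inr (c.injective (e.trans hc2.symm))))
        · exact hp ((hb p).2 (Or.inl (c.injective (e.trans hc1.symm))))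
      refine stab_determines le_rfl hp hcp fun x hx' hxp => ?_
      have := DFunLike.congr_fun (hcom x (M22_eq.ge hx')) p
      rw [Equiv.Perm.mul_apply, Equiv.Perm.mul_apply c x, hxp] at this
      exact this
    have hcM : c ∈ M24 := M24.mul_mem (M24.inv_mem hh.1.1) hg
    have hone := eq_one_of_fixed hcM (s := Finset.univ \ baseSet 2)
      (by rw [Finset.card_sdiff_of_subset (Finset.subset_univ _), Finset.card_univ, card_golayPt,
        card_baseSet (by norm_num)]; norm_num)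
      (fun p hp => hfix p (Finset.mem_sdiff.1 hp).2)
    rw [hone, Equiv.Perm.coe_one, id_eq] at hc1
    exact Option.some_ne_none 0 hc1.symm

end Cfsg.Agent.Golay
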