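import Cfsg.Agent.Lib.Golay.Irreducible
import Cfsg.Agent.Lib.Golay.Outer

/-!
Self-duality of the Golay code, and the invariant subspaces of the permutation module of M₂₄.
-/

set_option autoImplicit false

namespace Cfsg.Agent.Golay

open scoped Pointwise

set_option maxRecDepth 40000 in
theorem dual_check : ∀ a : Fin 64, ∀ b : Fin 64,
    (∀ c ∈ basisN, popc (((64 * a.val + b.val) * 4096) &&& c) % 2 = 0) →
      64 * a.val + b.val = 0 := by decide +kernel

theorem dot_toWord (a b : ℕ) :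
    ∑ i, toWord a i * toWord b i = ((popc (a &&& b) : ℕ) : ZMod 2) := by
  rw [dot_eq_card, support₂_toWord, support₂_toWord, toSet_inter, card_toSet]

theorem exists_toWord (w : GolayPt → ZMod 2) : ∃ n < 2 ^ 24, toWord n = w := by
  classical
  let f : Fin (2 ^ 24) → (GolayPt → ZMod 2) := fun n => toWord n.val
  have hf : Function.Injective f := fun a b h => by
    have h' := congrArg support₂ (show toWord a.val = toWord b.val from h)
    rw [support₂_toWord, support₂_toWord] at h'
    exact Fin.ext (toSet_injOn a.isLt b.isLt h')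
  obtain ⟨-, hs⟩ := (Nat.bijective_iff_injective_and_card f).2 ⟨hf, by
    rw [Nat.card_fin, Nat.card_eq_fintype_card, Fintype.card_fun, ZMod.card, card_golayPt]⟩
  obtain ⟨n, hn⟩ := hs w
  exact ⟨n.val, n.isLt, hn⟩

/-- The code contains every word orthogonal to it. -/
theorem mem_golayCode_of_orth {w : GolayPt → ZMod 2}
    (h : ∀ c ∈ golayCode, ∑ i, w i * c i = 0) : w ∈ golayCode := by
  obtain ⟨n, hn, rfl⟩ := exists_toWord w
  set r := n ^^^ comb (n % 4096) with hr
  have hm : n % 4096 < 4096 := Nat.mod_lt _ (by norm_num)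
  have hrlt : r < 2 ^ 24 := Nat.xor_lt_two_pow hn (comb_lt hm)
  have hrmod : r % 4096 = 0 := by
    rw [hr, show (4096 : ℕ) = 2 ^ 12 by norm_num, Nat.xor_mod_two_pow,
      show (2 : ℕ) ^ 12 = 4096 by norm_num, comb_mod hm, Nat.xor_self]
  have horth : ∀ c ∈ basisN, popc (r &&& c) % 2 = 0 := by
    intro c hc
    have hcode := basisN_mem c hc
    have h2 : ∑ i, toWord r i * toWord c i = 0 := by
      rw [hr, toWord_xor]
      simp only [Pi.add_apply, add_mul, Finset.sum_add_distrib]
      rw [h _ hcode, golayCode_orth (toWord_comb_mem _) hcode, add_zero]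
    rw [dot_toWord, ZMod.natCast_eq_zero_iff_even] at h2
    exact Nat.even_iff.1 h2
  have hzero : r = 0 := by
    have hq : r / 4096 < 4096 := by omega
    have hre : (64 * (r / 4096 / 64) + r / 4096 % 64) * 4096 = r := by omega
    have := dual_check ⟨r / 4096 / 64, by omega⟩ ⟨r / 4096 % 64, Nat.mod_lt _ (by norm_num)⟩
      (fun c hc => by simp only [hre]; exact horth c hc)
    simp only at this
    omega
  have : comb (n % 4096) = n := by
    have h3 : r ^^^ comb (n % 4096) = n := by rw [hr, Nat.xor_assoc, Nat.xor_self, Nat.xor_zero]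
    rw [hzero, Nat.zero_xor] at h3
    exact h3
  rw [← this]
  exact toWord_comb_mem _

def coGens0 : List (List ℕ) :=
  [[1, 2, 3, 4, 5, 6, 7, 8, 9, 10, 11, 12, 13, 14, 15, 16, 17, 18, 19, 20, 21, 22, 0, 23],
    [23, 22, 11, 15, 17, 9, 19, 13, 20, 5, 16, 2, 21, 7, 18, 3, 10, 4, 14, 6, 8, 12, 1, 0]]

def coPairs0 : List (ℕ × ℕ) :=
  [(0, 0), (0, 1), (0, 2), (0, 3), (0, 4), (0, 5), (0, 6), (0, 7), (0, 8), (0, 9), (0, 10), (1, 2)]

def coMask0 : List ℕ :=
  [3962, 1, 3961, 7, 3957, 3941, 3909, 127, 255, 511, 3205, 2181]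

def coGens8 : List (List ℕ) :=
  [[2, 3, 17, 1, 18, 14, 10, 7, 21, 22, 11, 15, 19, 16, 5, 12, 8, 0, 20, 6, 4, 9, 13, 23],
    [23, 1, 0, 14, 7, 2, 4, 12, 15, 21, 20, 18, 13, 22, 5, 16, 11, 3, 19, 6, 8, 9, 10, 17]]

def coPairs8 : List (ℕ × ℕ) :=
  [(0, 0), (0, 1), (0, 2), (0, 3), (0, 4), (0, 6), (0, 8), (0, 10), (1, 0), (1, 2), (1, 3), (1, 4)]

def coMask8 : List ℕ :=
  [1563, 1453, 554, 464, 558, 628, 1620, 3876, 95, 1082, 1646, 721]

def coGens12 : List (List ℕ) :=
  [[12, 13, 18, 15, 6, 8, 10, 9, 11, 17, 4, 5, 19, 23, 3, 14, 21, 7, 20, 0, 2, 22, 16, 1],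
    [18, 13, 22, 3, 11, 8, 9, 23, 6, 4, 1, 7, 14, 17, 20, 15, 0, 10, 12, 16, 21, 19, 2, 5]]

def coPairs12 : List (ℕ × ℕ) :=
  [(0, 0), (0, 1), (0, 2), (0, 4), (0, 5), (0, 6), (0, 7), (0, 8), (1, 0), (1, 1), (1, 2), (1, 4)]

def coMask12 : List ℕ :=
  [2744, 4, 2236, 2750, 3989, 1024, 3486, 3, 1557, 2298, 3516, 1169]

/-- The certificate that a set of code automorphisms fixing `d` has no coinvariants on the code. -/
def coCheck (d : ℕ) (G : List (List ℕ)) (P : List (ℕ × ℕ)) (M : List ℕ) : Bool :=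
  G.all (fun l => isPermTab l && checkAut l && maps l d d) &&
    P.all (fun gi => decide (gi.1 < G.length) && decide (gi.2 < 12) &&
      maps (G.getD gi.1 idTab) (basisN.getD gi.2 0) (imgN (G.getD gi.1 idTab) (basisN.getD gi.2 0))) &&
    (M.map (combAux (P.map fun gi =>
      basisN.getD gi.2 0 ^^^ imgN (G.getD gi.1 idTab) (basisN.getD gi.2 0))) == basisN)

theorem coCheck_facts : coCheck 0 coGens0 coPairs0 coMask0 = true ∧
    coCheck octadO coGens8 coPairs8 coMask8 = true ∧
    coCheck dodecad0 coGens12 coPairs12 coMask12 = true := by decide +kernel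

/-- The stabiliser of `d` fixes no nonzero element of the quotient by the code. -/
theorem exists_moving {d : ℕ} {G : List (List ℕ)} {P : List (ℕ × ℕ)} {M : List ℕ}
    (hc : coCheck d G P M = true) {w : GolayPt → ZMod 2} (hw : w ∉ golayCode) :
    ∃ σ ∈ M24, σ • toSet d = toSet d ∧ (fun p => w (σ.symm p)) - w ∉ golayCode := by
  by_contra hcon
  push Not at hcon
  apply hw
  refine mem_golayCode_of_orth fun c hcc => ?_
  let Z : Submodule (ZMod 2) (GolayPt → ZMod 2) :=
    { carrier := {c | c ∈ golayCode ∧ ∑ i, w i * c i = 0}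
      zero_mem' := ⟨Submodule.zero_mem _, by simp⟩
      add_mem' := fun ha hb => ⟨Submodule.add_mem _ ha.1 hb.1, by
        simp only [Pi.add_apply, mul_add, Finset.sum_add_distrib, ha.2, hb.2, add_zero]⟩
      smul_mem' := fun r a ha => ⟨Submodule.smul_mem _ r ha.1, by
        simp only [Pi.smul_apply, smul_eq_mul]
        rw [show ∑ i, w i * (r * a i) = r * ∑ i, w i * a i by
          rw [Finset.mul_sum]; exact Finset.sum_congr rfl fun i _ => by ring, ha.2, mul_zero]⟩ }
  suffices golayCode ≤ Z from (this hcc).2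
  rw [golayCode_eq]
  rintro _ ⟨m, -, rfl⟩
  refine toWord_combAux_mem Z _ _ fun b hb => ?_
  simp only [coCheck, Bool.and_eq_true, List.all_eq_true, beq_iff_eq, decide_eq_true_eq] at hc
  obtain ⟨⟨hG, hP⟩, hM⟩ := hc
  rw [← hM, List.mem_map] at hb
  obtain ⟨k, -, rfl⟩ := hb
  refine toWord_combAux_mem Z _ _ fun x hx => ?_
  obtain ⟨⟨a, i⟩, hai, rfl⟩ := List.mem_map.1 hx
  obtain ⟨⟨ha, hi⟩, hmaps⟩ := hP _ hai
  simp only at ha hi hmaps ⊢
  have hla : G.getD a idTab ∈ G := by
    rw [List.getD_eq_getElem _ _ ha]; exact List.getElem_mem ha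
  obtain ⟨⟨hperm, haut⟩, hfix⟩ := hG _ hla
  have ht := tab_permOf hperm
  set σ := permOf _ hperm
  have hσ : σ ∈ M24 := ht.mem_M24 haut
  have hdiff := hcon σ hσ (ht.smul_toSet hfix)
  have hbi : toWord (basisN.getD i 0) ∈ golayCode := by
    refine basisN_mem _ ?_
    rw [List.getD_eq_getElem _ _ (show i < basisN.length from hi)]
    exact List.getElem_mem _
  have himg : toWord (imgN (G.getD a idTab) (basisN.getD i 0)) =
      fun p => toWord (basisN.getD i 0) (σ.symm p) := by
    funext p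
    have := ht.mem_image_iff hmaps (σ.symm p)
    rw [Equiv.apply_symm_apply] at this
    simp only [toWord, this]
  have himc : toWord (imgN (G.getD a idTab) (basisN.getD i 0)) ∈ golayCode := by
    rw [himg]
    exact mem_M24_iff.1 hσ _ hbi
  refine ⟨by rw [toWord_xor]; exact Submodule.add_mem _ hbi himc, ?_⟩
  have key : ∑ i', ((fun p => w (σ.symm p)) - w) i' *
      toWord (imgN (G.getD a idTab) (basisN.getD i 0)) i' = 0 := by
    exact golayCode_orth hdiff himc
  simp only [Pi.sub_apply, sub_mul, Finset.sum_sub_distrib] at key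
  have hmove : ∑ i', w (σ.symm i') * toWord (imgN (G.getD a idTab) (basisN.getD i 0)) i' =
      ∑ i', w i' * toWord (basisN.getD i 0) i' := by
    rw [himg]
    exact Equiv.sum_comp σ.symm fun q => w q * toWord (basisN.getD i 0) q
  rw [hmove, sub_eq_zero] at key
  rw [toWord_xor]
  simp only [Pi.add_apply, mul_add, Finset.sum_add_distrib]
  rw [← key]
  exact CharTwo.add_self_eq_zero _

/-- The stabiliser of a code word fixes no nonzero element of the quotient by the code. -/
theorem exists_fixing_moving {u : GolayPt → ZMod 2} (hu : u ∈ golayCode) {w : GolayPt → ZMod 2}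
    (hw : w ∉ golayCode) : ∃ σ ∈ M24, (fun p => u (σ.symm p)) = u ∧
      (fun p => w (σ.symm p)) - w ∉ golayCode := by
  obtain ⟨c0, c8, c12⟩ := coCheck_facts
  -- reduction to the representatives
  suffices h : ∃ τ ∈ M24, ∃ σ ∈ M24, σ • (τ • support₂ u) = τ • support₂ u ∧
      (fun p => w (τ.symm (σ.symm p))) - (fun p => w (τ.symm p)) ∉ golayCode by
    obtain ⟨τ, hτ, σ, hσ, hfix, hmove⟩ := h
    refine ⟨τ⁻¹ * σ * τ, M24.mul_mem (M24.mul_mem (M24.inv_mem hτ) hσ) hτ, ?_, fun hin => ?_⟩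
    · apply support₂_injective
      rw [show (fun p => u ((τ⁻¹ * σ * τ).symm p)) = u ∘ (τ⁻¹ * σ * τ).symm from rfl,
        ← smul_support₂, mul_smul, mul_smul, hfix, inv_smul_smul]
    · apply hmove
      have h2 := mem_M24_iff.1 hτ _ hin
      convert h2 using 1
      funext p
      simp only [Pi.sub_apply, Function.comp_apply]
      congr 2
      simp [Equiv.Perm.mul_def, Equiv.Perm.inv_def]
  have fin : ∀ (τ : Equiv.Perm GolayPt) (d : ℕ), τ ∈ M24 → τ • support₂ u = toSet d →
      (∀ v : GolayPt → ZMod 2, v ∉ golayCode →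
        ∃ σ ∈ M24, σ • toSet d = toSet d ∧ (fun p => v (σ.symm p)) - v ∉ golayCode) →
      ∃ τ ∈ M24, ∃ σ ∈ M24, σ • (τ • support₂ u) = τ • support₂ u ∧
        (fun p => w (τ.symm (σ.symm p))) - (fun p => w (τ.symm p)) ∉ golayCode := by
    intro τ d hτ hd hex
    obtain ⟨σ, hσ, hfix, hmove⟩ := hex (fun p => w (τ.symm p)) (fun hin => hw (by
      have h2 := mem_M24_iff.1 (M24.inv_mem hτ) _ hin
      convert h2 using 1
      funext p
      simp [Equiv.Perm.coe_inv, Equiv.Perm.inv_def]))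
    exact ⟨τ, hτ, σ, hσ, by rw [hd]; exact hfix, hmove⟩
  obtain ⟨-, ⟨ho1, ho2⟩, -⟩ := orb_facts
  rcases supports_card_cases (s := support₂ u) ⟨u, hu, rfl⟩ with h | h | h | h | h
  · exact fin 1 0 M24.one_mem (by rw [one_smul, h]; decide +kernel) fun v hv => exists_moving c0 hv
  · obtain ⟨τ, hτ, hd⟩ := octad_transitive (o := support₂ u) (o' := toSet octadO)
      ⟨⟨u, hu, rfl⟩, h⟩ (octad_mem_iff.2 ⟨_, ho1, ho2, rfl⟩)
    exact fin τ _ hτ hd fun v hv => exists_moving c8 hv
  · obtain ⟨τ, hτ, hd⟩ := dodecad_transitive (d := support₂ u) (d' := toSet dodecad0)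
      ⟨⟨u, hu, rfl⟩, h⟩ (dodecad_mem_iff.2 ⟨_, dfs_checked.2.1, by decide +kernel, rfl⟩)
    exact fin τ _ hτ hd fun v hv => exists_moving c12 hv
  · have hu1 : u + (fun _ => 1) ∈ golayCode := golayCode.add_mem hu one_mem_golayCode
    have hone : support₂ (fun _ : GolayPt => (1 : ZMod 2)) = Finset.univ := by simp [support₂]
    have hs := support₂_add u (fun _ => 1)
    rw [hone, Finset.inter_univ, Finset.card_univ, card_golayPt] at hs
    obtain ⟨τ, hτ, hd⟩ := octad_transitive (o := support₂ (u + fun _ => 1)) (o' := toSet octadO)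
      ⟨⟨_, hu1, rfl⟩, by omega⟩ (octad_mem_iff.2 ⟨_, ho1, ho2, rfl⟩)
    have hd' : τ • support₂ u = toSet (16777215 ^^^ octadO) := by
      rw [← support₂_toWord, toWord_xor, toWord_ones, smul_support₂] at *
      have h2 := support₂_injective hd
      congr 1
      funext p
      have h3 := congrFun h2 p
      simp only [Function.comp_apply, Pi.add_apply] at h3 ⊢
      rw [← h3, add_left_comm, CharTwo.add_self_eq_zero, add_zero]
    refine fin τ _ hτ hd' fun v hv => ?_
    obtain ⟨σ, hσ, hfix, hmove⟩ := exists_moving c8 hv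
    refine ⟨σ, hσ, ?_, hmove⟩
    rw [← support₂_toWord, toWord_xor, toWord_ones, smul_support₂]
    congr 1
    rw [← support₂_toWord, smul_support₂] at hfix
    have h2 := support₂_injective hfix
    funext p
    have h3 := congrFun h2 p
    simp only [Function.comp_apply, Pi.add_apply] at h3 ⊢
    rw [h3]
  · have hu' : support₂ u = toSet 16777215 := by
      rw [Finset.eq_univ_of_card _ (h.trans card_golayPt.symm)]
      decide +kernel
    refine fin 1 16777215 M24.one_mem (by rw [one_smul, hu']) fun v hv => ?_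
    obtain ⟨σ, hσ, -, hmove⟩ := exists_moving c0 hv
    refine ⟨σ, hσ, ?_, hmove⟩
    rw [show toSet 16777215 = Finset.univ by decide +kernel, Finset.smul_finset_univ]

end Cfsg.Agent.Golay
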