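import Cfsg.Agent.Lib.Golay.Code

/-!
Permutations of the 24 points through tables: `Tab σ l` says that `σ` sends the point with index
`i` to the point with index `l[i]`.  Membership in `Cfsg.M24` is decided on tables.
-/

set_option autoImplicit false

namespace Cfsg.Agent.Golay

open scoped Pointwise

/-- `σ` acts on indices by the table `l`. -/
def Tab (σ : Equiv.Perm GolayPt) (l : List ℕ) : Prop := ∀ i < 24, idx (σ (pt i)) = l.getD i 0

/-- The table of the identity. -/
def idTab : List ℕ := List.range 24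

/-- Composition of tables. -/
def comp (a b : List ℕ) : List ℕ := (List.range 24).map fun i => a.getD (b.getD i 0) 0

theorem getD_map_range (f : ℕ → ℕ) {i : ℕ} (hi : i < 24) :
    ((List.range 24).map f).getD i 0 = f i := by
  rw [List.getD_eq_getElem _ _ (by simpa using hi)]
  simp

theorem Tab.apply {σ : Equiv.Perm GolayPt} {l : List ℕ} (h : Tab σ l) (p : GolayPt) :
    σ p = pt (l.getD (idx p) 0) := by
  rw [← h _ (idx_lt p), pt_idx, pt_idx]

theorem Tab.lt {σ : Equiv.Perm GolayPt} {l : List ℕ} (h : Tab σ l) {i : ℕ} (hi : i < 24) :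
    l.getD i 0 < 24 := by
  rw [← h i hi]; exact idx_lt _

theorem tab_one : Tab 1 idTab := fun i hi => by
  rw [Equiv.Perm.coe_one, id_eq, idx_pt hi, idTab, List.getD_eq_getElem _ _ (by simpa using hi)]
  simp

theorem Tab.mul {σ τ : Equiv.Perm GolayPt} {a b : List ℕ} (hσ : Tab σ a) (hτ : Tab τ b) :
    Tab (σ * τ) (comp a b) := fun i hi => by
  rw [comp, getD_map_range _ hi, ← hσ _ (hτ.lt hi), ← hτ i hi, pt_idx, Equiv.Perm.mul_apply]

theorem tab_unique {σ τ : Equiv.Perm GolayPt} {l : List ℕ} (hσ : Tab σ l) (hτ : Tab τ l) :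
    σ = τ :=
  Equiv.ext fun p => by rw [hσ.apply, hτ.apply]

/-- A table of a permutation. -/
def isPermTab (l : List ℕ) : Bool :=
  (List.range 24).all fun i =>
    decide (l.getD i 0 < 24) && (List.range i).all fun j => l.getD j 0 != l.getD i 0

theorem isPermTab_injective {l : List ℕ} (h : isPermTab l = true) :
    Function.Injective fun p => pt (l.getD (idx p) 0) := by
  simp only [isPermTab, List.all_eq_true, List.mem_range, Bool.and_eq_true, decide_eq_true_eq,
    bne_iff_ne, ne_eq] at h
  intro p q hpq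
  have hi := congrArg idx hpq
  simp only [idx_pt (h _ (idx_lt p)).1, idx_pt (h _ (idx_lt q)).1] at hi
  rcases lt_trichotomy (idx p) (idx q) with hl | hl | hl
  · exact absurd hi ((h _ (idx_lt q)).2 _ hl)
  · exact idx_injective hl
  · exact absurd hi.symm ((h _ (idx_lt p)).2 _ hl)

/-- The permutation with a given table. -/
noncomputable def permOf (l : List ℕ) (h : isPermTab l = true) : Equiv.Perm GolayPt :=
  Equiv.ofBijective _ (Finite.injective_iff_bijective.1 (isPermTab_injective h))

theorem tab_permOf {l : List ℕ} (h : isPermTab l = true) : Tab (permOf l h) l := fun i hi => by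
  have h' := h
  simp only [isPermTab, List.all_eq_true, List.mem_range, Bool.and_eq_true, decide_eq_true_eq]
    at h'
  rw [permOf, Equiv.ofBijective_apply, idx_pt hi, idx_pt (h' i hi).1]

/-- The image of a mask under a table. -/
def imgN (l : List ℕ) (n : ℕ) : ℕ :=
  (List.range 24).foldl (fun r i => if n.testBit i then r ||| 2 ^ l.getD i 0 else r) 0

/-- The table maps the mask `a` onto the mask `b`. -/
def maps (l : List ℕ) (a b : ℕ) : Bool :=
  (List.range 24).all fun i => b.testBit (l.getD i 0) == a.testBit i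

theorem Tab.mem_image_iff {σ : Equiv.Perm GolayPt} {l : List ℕ} (h : Tab σ l) {a b : ℕ}
    (hm : maps l a b = true) (p : GolayPt) :
    b.testBit (idx (σ p)) = a.testBit (idx p) := by
  simp only [maps, List.all_eq_true, List.mem_range, beq_iff_eq] at hm
  have := hm _ (idx_lt p)
  rwa [← h _ (idx_lt p), pt_idx] at this

theorem Tab.smul_toSet {σ : Equiv.Perm GolayPt} {l : List ℕ} (h : Tab σ l) {a b : ℕ}
    (hm : maps l a b = true) : σ • toSet a = toSet b := by
  ext p
  rw [← Finset.inv_smul_mem_iff, mem_toSet, mem_toSet, Equiv.Perm.smul_def]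
  have := h.mem_image_iff hm (σ⁻¹ p)
  rw [Equiv.Perm.coe_inv, Equiv.apply_symm_apply] at this
  rw [this, Equiv.Perm.coe_inv]

theorem smul_support₂ (σ : Equiv.Perm GolayPt) (w : GolayPt → ZMod 2) :
    σ • support₂ w = support₂ (w ∘ σ.symm) := by
  ext p
  rw [← Finset.inv_smul_mem_iff, Equiv.Perm.smul_def, Equiv.Perm.coe_inv]
  simp [support₂]

theorem mem_setSystemAut_iff {α : Type*} [Fintype α] [DecidableEq α] {B : Set (Finset α)}
    {σ : Equiv.Perm α} : σ ∈ setSystemAut B ↔ ∀ b ∈ B, σ • b ∈ B := by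
  rw [setSystemAut, MulAction.mem_stabilizer_iff]
  constructor
  · intro h b hb
    rw [← h]
    exact Set.smul_mem_smul_set hb
  · intro h
    apply Set.eq_of_subset_of_ncard_le (ht := Set.toFinite _)
    · rintro _ ⟨b, hb, rfl⟩
      exact h b hb
    · rw [Set.ncard_smul_set]

theorem mem_M24_iff {σ : Equiv.Perm GolayPt} :
    σ ∈ M24 ↔ ∀ w ∈ golayCode, w ∘ σ.symm ∈ golayCode := by
  rw [M24, mem_setSystemAut_iff]
  constructor
  · intro h w hw
    obtain ⟨v, hv, hvw⟩ := h _ ⟨w, hw, rfl⟩
    rw [smul_support₂] at hvw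
    rwa [← support₂_injective hvw]
  · rintro h _ ⟨w, hw, rfl⟩
    exact ⟨_, h w hw, (smul_support₂ σ w).symm⟩

/-- A test for membership in `M24`. -/
def checkAut (l : List ℕ) : Bool :=
  basisN.all fun b => inCode (imgN l b) && maps l b (imgN l b)

theorem Tab.mem_M24 {σ : Equiv.Perm GolayPt} {l : List ℕ} (h : Tab σ l)
    (hc : checkAut l = true) : σ ∈ M24 := by
  rw [mem_M24_iff]
  intro w hw
  have hle : golayCode ≤ Submodule.comap (LinearMap.funLeft (ZMod 2) (ZMod 2) σ.symm) golayCode := by
    rw [golayCode_eq]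
    rintro _ ⟨m, -, rfl⟩
    rw [← golayCode_eq]
    refine toWord_combAux_mem _ _ _ fun b hb => ?_
    simp only [checkAut, List.all_eq_true, Bool.and_eq_true] at hc
    obtain ⟨hc1, hc2⟩ := hc b hb
    rw [Submodule.mem_comap]
    have : LinearMap.funLeft (ZMod 2) (ZMod 2) σ.symm (toWord b) = toWord (imgN l b) := by
      funext p
      have := h.mem_image_iff hc2 (σ.symm p)
      rw [Equiv.apply_symm_apply] at this
      simp only [LinearMap.funLeft_apply, toWord, this]
    rw [this]
    exact toWord_mem_of_inCode hc1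
  exact hle hw

/-- Extend a list of tables by products of earlier entries. -/
def evalSLP (acc : List (List ℕ)) : List (ℕ × ℕ) → List (List ℕ)
  | [] => acc
  | (a, b) :: r => evalSLP (acc ++ [comp (acc.getD a idTab) (acc.getD b idTab)]) r

theorem evalSLP_mem (H : Subgroup (Equiv.Perm GolayPt)) :
    ∀ (prog : List (ℕ × ℕ)) (acc : List (List ℕ)), (∀ l ∈ acc, ∃ g ∈ H, Tab g l) →
      ∀ k, ∃ g ∈ H, Tab g ((evalSLP acc prog).getD k idTab)
  | [], acc, h, k => by
    rcases lt_or_ge k acc.length with hk | hk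
    · rw [evalSLP, List.getD_eq_getElem _ _ hk]
      exact h _ (List.getElem_mem hk)
    · rw [evalSLP, List.getD_eq_default _ _ hk]
      exact ⟨1, H.one_mem, tab_one⟩
  | (a, b) :: r, acc, h, k => by
    refine evalSLP_mem H r _ ?_ k
    intro l hl
    rcases List.mem_append.1 hl with hl | hl
    · exact h l hl
    · rw [List.mem_singleton] at hl
      subst hl
      obtain ⟨g, hg, hgt⟩ := evalSLP_mem H [] acc h a
      obtain ⟨g', hg', hgt'⟩ := evalSLP_mem H [] acc h b
      exact ⟨g * g', H.mul_mem hg hg', hgt.mul hgt'⟩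

end Cfsg.Agent.Golay
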