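import Cfsg.Agent.Lib.Golay.Perm

/-!
The standard generators of `Cfsg.M24` and their tables.
-/

set_option autoImplicit false

namespace Cfsg.Agent.Golay

/-- `x ↦ x + 1`. -/
noncomputable def shift : Equiv.Perm GolayPt := Equiv.optionCongr (Equiv.addRight (1 : ZMod 23))

def shiftTab : List ℕ :=
  [1, 2, 3, 4, 5, 6, 7, 8, 9, 10, 11, 12, 13, 14, 15, 16, 17, 18, 19, 20, 21, 22, 0, 23]

def projInvTab : List ℕ := [23, 22, 11, 15, 17, 9, 19, 13, 20, 5, 16, 2, 21, 7, 18, 3, 10, 4, 14, 6, 8, 12, 1, 0]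

def cubeTwistTab : List ℕ := [0, 18, 6, 3, 2, 21, 1, 5, 16, 12, 7, 19, 8, 9, 17, 15, 13, 11, 4, 22, 10, 20, 14, 23]

theorem tab_shift : Tab shift shiftTab := by
  have h : ∀ i : Fin 24,
      idx ((pt i.val).map fun x => x + 1) = shiftTab.getD i.val 0 := by decide +kernel
  intro i hi
  exact h ⟨i, hi⟩

theorem tab_projInv : Tab projInv projInvTab := by
  have h : ∀ i : Fin 24, idx (projInvFun (pt i.val)) = projInvTab.getD i.val 0 := by
    decide +kernel
  intro i hi
  exact h ⟨i, hi⟩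

theorem tab_cubeTwist : Tab cubeTwist cubeTwistTab := by
  have h : ∀ i : Fin 24, idx (cubeTwistFun (pt i.val)) = cubeTwistTab.getD i.val 0 := by
    decide +kernel
  intro i hi
  exact h ⟨i, hi⟩

theorem shift_mem : shift ∈ M24 := tab_shift.mem_M24 (by decide +kernel)

theorem projInv_mem : projInv ∈ M24 := tab_projInv.mem_M24 (by decide +kernel)

theorem cubeTwist_mem : cubeTwist ∈ M24 := tab_cubeTwist.mem_M24 (by decide +kernel)

/-- `x ↦ u * x` for a nonzero square `u`. -/
theorem mulSquare_mem (u : (ZMod 23)ˣ) (hu : IsSquare u) :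
    Equiv.optionCongr (Units.mulLeft u) ∈ M24 := by
  have : Fact (1 < 23) := ⟨by norm_num⟩
  obtain ⟨r, rfl⟩ := hu
  have h : ∀ a : ZMod 23, a ≠ 0 →
      checkAut ((List.range 24).map fun i => idx ((pt i).map (a * a * ·))) = true := by
    decide +kernel
  refine Tab.mem_M24 (l := (List.range 24).map fun i => idx ((pt i).map ((r : ZMod 23) * r * ·)))
    (fun i hi => ?_) (h r r.ne_zero)
  rw [getD_map_range _ hi]
  cases pt i <;> rfl

end Cfsg.Agent.Golay
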