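import Cfsg.Agent.Lib.Golay.Transitive

/-!
A doubly even code of length 24 and dimension 12 without words of weight 4: its weight-8 words
form a Steiner system S(5, 8, 24); an isomorphism of that system with the octads is an
equivalence with the Golay code.
-/

set_option autoImplicit false

namespace Cfsg.Agent.Golay

variable {α : Type*} [Fintype α] [DecidableEq α]

/-- The indicator word of a finite set. -/
def indWord (s : Finset α) : α → ZMod 2 := fun a => if a ∈ s then 1 else 0

theorem support₂_indWord (s : Finset α) : support₂ (indWord s) = s := by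
  ext a
  by_cases h : a ∈ s <;> simp [support₂, indWord, h]

theorem indWord_support₂ (w : α → ZMod 2) : indWord (support₂ w) = w := by
  funext a
  have two : ∀ x : ZMod 2, (if x ≠ 0 then 1 else 0) = x := by decide
  simp only [indWord, support₂, Finset.mem_filter, Finset.mem_univ, true_and]
  exact two _

theorem card_support₂_add (v w : α → ZMod 2) :
    (support₂ (v + w)).card + 2 * (support₂ v ∩ support₂ w).card =
      (support₂ v).card + (support₂ w).card := by
  have h : support₂ (v + w) = (support₂ v ∪ support₂ w) \ (support₂ v ∩ support₂ w) := by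
    ext p
    have two : ∀ a b : ZMod 2, (a + b ≠ 0 ↔ (a ≠ 0 ∨ b ≠ 0) ∧ ¬(a ≠ 0 ∧ b ≠ 0)) := by decide
    simp only [support₂, Finset.mem_filter, Finset.mem_univ, true_and, Finset.mem_sdiff,
      Finset.mem_union, Finset.mem_inter, Pi.add_apply]
    exact two _ _
  rw [h, Finset.card_sdiff_of_subset (Finset.inter_subset_left.trans Finset.subset_union_left)]
  have h1 := Finset.card_union_add_card_inter (support₂ v) (support₂ w)
  have h2 := Finset.card_le_card
    (Finset.inter_subset_left.trans Finset.subset_union_left :
      support₂ v ∩ support₂ w ⊆ support₂ v ∪ support₂ w)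
  omega

omit [Fintype α] [DecidableEq α] in
theorem word_neg (w : α → ZMod 2) : -w = w := by
  funext a
  have two : ∀ x : ZMod 2, -x = x := by decide
  exact two _

variable {C : Submodule (ZMod 2) (α → ZMod 2)}
  (hmin : ∀ w ∈ C, w ≠ 0 → 8 ≤ (support₂ w).card ∧ 4 ∣ (support₂ w).card)

include hmin

theorem coset_sum {a b : Finset α} (h : Submodule.Quotient.mk (p := C) (indWord a) =
      Submodule.Quotient.mk (indWord b)) (hab : a ≠ b) :
    indWord a + indWord b ∈ C ∧ 8 + 2 * (a ∩ b).card ≤ a.card + b.card ∧
      4 ∣ (support₂ (indWord a + indWord b)).card := by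
  have hm : indWord a + indWord b ∈ C := by
    have := (Submodule.Quotient.eq C).1 h
    rwa [sub_eq_add_neg, word_neg] at this
  have hne : indWord a + indWord b ≠ 0 := by
    intro e
    apply hab
    rw [← support₂_indWord a, ← support₂_indWord b]
    congr 1
    rw [add_eq_zero_iff_eq_neg, word_neg] at e
    exact e
  obtain ⟨h8, h4⟩ := hmin _ hm hne
  have := card_support₂_add (indWord a) (indWord b)
  rw [support₂_indWord, support₂_indWord] at this
  exact ⟨hm, by omega, h4⟩

/-- Every set of points has, modulo the code, a representative with at most four points. -/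
theorem exists_small_rep (hα : Fintype.card α = 24) (hdim : Module.finrank (ZMod 2) C = 12)
    (x : (α → ZMod 2) ⧸ C) :
    ∃ a : Finset α, a.card ≤ 4 ∧ Submodule.Quotient.mk (indWord a) = x := by
  classical
  let f : Finset α → (α → ZMod 2) ⧸ C := fun a => Submodule.Quotient.mk (indWord a)
  set P : ℕ → Finset (Finset α) := fun j => (Finset.univ : Finset α).powersetCard j with hP
  set small := P 0 ∪ P 1 ∪ P 2 ∪ P 3 with hsmall
  have hmem : ∀ j a, a ∈ P j ↔ a.card = j := fun j a => by simp [hP]
  have hsmall_card : ∀ a ∈ small, a.card ≤ 3 := by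
    intro a ha
    simp only [hsmall, Finset.mem_union, hmem] at ha
    omega
  have hc : small.card = 2325 := by
    have d : ∀ i j, i ≠ j → Disjoint (P i) (P j) := fun i j hij => by
      rw [Finset.disjoint_left]
      intro a ha hb
      rw [hmem] at ha hb
      exact hij (ha.symm.trans hb)
    rw [hsmall, Finset.card_union_of_disjoint, Finset.card_union_of_disjoint,
      Finset.card_union_of_disjoint]
    · simp only [hP, Finset.card_powersetCard, Finset.card_univ, hα]
      decide
    all_goals simp only [Finset.disjoint_union_left, d 0 1 (by norm_num), d 0 2 (by norm_num),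
      d 0 3 (by norm_num), d 1 2 (by norm_num), d 1 3 (by norm_num), d 2 3 (by norm_num), and_self]
  have hinj : Set.InjOn f small := by
    intro a ha b hb hab
    by_contra hne
    obtain ⟨-, h, -⟩ := coset_sum hmin hab hne
    have := hsmall_card a (Finset.mem_coe.1 ha)
    have := hsmall_card b (Finset.mem_coe.1 hb)
    omega
  have hdisj : Disjoint (small.image f) ((P 4).image f) := by
    rw [Finset.disjoint_left]
    intro y hy hy'
    obtain ⟨a, ha, rfl⟩ := Finset.mem_image.1 hy
    obtain ⟨b, hb, hab⟩ := Finset.mem_image.1 hy'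
    rw [hmem] at hb
    have := hsmall_card a ha
    obtain ⟨-, h, -⟩ := coset_sum hmin hab.symm (fun e => by rw [e] at this; omega)
    omega
  have hfib : (P 4).card ≤ 6 * ((P 4).image f).card := by
    refine Finset.card_le_mul_card_image _ _ fun y _ => ?_
    set F := {a ∈ P 4 | f a = y} with hF
    have hpd : (F : Set (Finset α)).PairwiseDisjoint id := by
      intro a ha b hb hne
      simp only [hF, Finset.coe_filter, Set.mem_ofPred_eq, hmem] at ha hb
      obtain ⟨-, h, -⟩ := coset_sum hmin (ha.2.trans hb.2.symm) hne
      exact Finset.disjoint_iff_inter_eq_empty.2 (Finset.card_eq_zero.1 (by simp only [id]; omega))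
    have h1 := Finset.card_le_univ (F.biUnion id)
    rw [Finset.card_biUnion hpd, hα] at h1
    simp only [id] at h1
    rw [Finset.sum_const_nat (m := 4) (fun a ha => (hmem 4 a).1 (Finset.mem_filter.1 ha).1)] at h1
    rw [← hF] at h1
    omega
  have hP4 : (P 4).card = 10626 := by
    simp only [hP, Finset.card_powersetCard, Finset.card_univ, hα]
    decide
  have hQ : Nat.card ((α → ZMod 2) ⧸ C) = 4096 := by
    have h : Module.finrank (ZMod 2) ((α → ZMod 2) ⧸ C) = 12 := by
      have := Submodule.finrank_quotient_add_finrank C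
      rw [hdim, Module.finrank_fintype_fun_eq_card, hα] at this
      omega
    rw [Module.natCard_eq_pow_finrank (K := ZMod 2), h, Nat.card_eq_fintype_card, ZMod.card]
    norm_num
  let U := small.image f ∪ (P 4).image f
  letI : Fintype ((α → ZMod 2) ⧸ C) := Fintype.ofFinite _
  have hU : U = Finset.univ := by
    apply Finset.eq_of_subset_of_card_le (Finset.subset_univ _)
    rw [Finset.card_univ, ← Nat.card_eq_fintype_card, hQ, Finset.card_union_of_disjoint hdisj,
      Finset.card_image_of_injOn hinj, hc]
    omega
  have hx : x ∈ U := hU ▸ Finset.mem_univ x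
  rcases Finset.mem_union.1 hx with h | h <;> obtain ⟨a, ha, rfl⟩ := Finset.mem_image.1 h
  · exact ⟨a, (hsmall_card a ha).trans (by norm_num), rfl⟩
  · exact ⟨a, ((hmem 4 a).1 ha).le, rfl⟩

/-- The weight-8 words form a Steiner system S(5, 8, 24). -/
theorem isSteinerSystem_weight_eight (hα : Fintype.card α = 24)
    (hdim : Module.finrank (ZMod 2) C = 12) :
    IsSteinerSystem 5 8 (wordsOfWeight (C : Set (α → ZMod 2)) 8) := by
  refine ⟨fun b hb => hb.2, fun s hs => ?_⟩
  obtain ⟨a, ha, hae⟩ := exists_small_rep hmin hα hdim (Submodule.Quotient.mk (indWord s))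
  have hne : a ≠ s := fun e => by rw [e] at ha; omega
  obtain ⟨hm, h8, h4⟩ := coset_sum hmin hae hne
  have hsum := card_support₂_add (indWord a) (indWord s)
  rw [support₂_indWord, support₂_indWord] at hsum
  have hi : (a ∩ s).card = 0 ∧ a.card = 3 := by omega
  have hd : ∀ p, ¬(p ∈ a ∧ p ∈ s) := fun p h =>
    absurd (Finset.mem_inter.2 h) (by rw [Finset.card_eq_zero.1 hi.1]; simp)
  have hsum2 : indWord a + indWord s = indWord (s ∪ a) := by
    funext p
    have hdp := hd p
    simp only [Pi.add_apply, indWord, Finset.mem_union]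
    by_cases h1 : p ∈ a <;> by_cases h2 : p ∈ s
    · exact absurd ⟨h1, h2⟩ hdp
    all_goals simp [h1, h2]
  have hset : support₂ (indWord a + indWord s) = s ∪ a := by rw [hsum2, support₂_indWord]
  refine ⟨s ∪ a, ⟨⟨⟨_, hm, hset⟩, ?_⟩, Finset.subset_union_left⟩, ?_⟩
  · rw [← hset]; omega
  · rintro o ⟨⟨⟨v, hv, rfl⟩, hvc⟩, hso⟩
    by_contra hne'
    have hne0 : v + (indWord a + indWord s) ≠ 0 := fun e => by
      rw [add_eq_zero_iff_eq_neg, word_neg] at e
      exact hne' (by rw [e, hset])
    obtain ⟨h8', -⟩ := hmin _ (C.add_mem hv hm) hne0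
    have hsum' := card_support₂_add v (indWord a + indWord s)
    have hle : 5 ≤ (support₂ v ∩ support₂ (indWord a + indWord s)).card := by
      rw [hset, ← hs]
      exact Finset.card_le_card (Finset.subset_inter hso Finset.subset_union_left)
    omega

omit hmin in
/-- A bijection carrying the weight-8 words onto the octads is an equivalence of codes. -/
theorem code_equiv_of_iso (hdim : Module.finrank (ZMod 2) C = 12) (e : α ≃ GolayPt)
    (he : (fun b => b.image e) '' wordsOfWeight (C : Set (α → ZMod 2)) 8 = octads)
    (w : GolayPt → ZMod 2) : w ∈ golayCode ↔ (fun i => w (e i)) ∈ C := by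
  let f : (GolayPt → ZMod 2) ≃ₗ[ZMod 2] (α → ZMod 2) :=
    LinearEquiv.funCongrLeft (ZMod 2) (ZMod 2) e
  have hle : golayCode.map f.toLinearMap ≤ C := by
    rw [Submodule.map_le_iff_le_comap, golayCode_eq]
    rintro _ ⟨m, -, rfl⟩
    refine toWord_combAux_mem _ _ _ fun b hb => ?_
    rw [octBasis_facts.1, List.mem_map] at hb
    obtain ⟨k, -, rfl⟩ := hb
    refine toWord_combAux_mem _ _ _ fun o ho => ?_
    have ho' := List.all_eq_true.1 octBasis_facts.2 o ho
    simp only [Bool.and_eq_true, beq_iff_eq] at ho'
    have hoct : toSet o ∈ octads := octad_mem_iff.2 ⟨o, ho'.1, ho'.2, rfl⟩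
    rw [← he] at hoct
    obtain ⟨b, ⟨⟨v, hv, rfl⟩, -⟩, hbo⟩ := hoct
    rw [Submodule.mem_comap]
    have : f.toLinearMap (toWord o) = v := by
      rw [← indWord_support₂ v]
      funext i
      have hi := Finset.ext_iff.1 hbo (e i)
      simp only [Finset.mem_image, EmbeddingLike.apply_eq_iff_eq, exists_eq_right, mem_toSet] at hi
      show toWord o (e i) = _
      simp only [toWord, indWord, ← hi]
    rw [this]
    exact hv
  have heq : golayCode.map f.toLinearMap = C :=
    Submodule.eq_of_le_of_finrank_eq hle
      (by rw [hdim, LinearEquiv.finrank_map_eq, finrank_golayCode])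
  have hmap : f w ∈ golayCode.map f.toLinearMap ↔ w ∈ golayCode := by
    constructor
    · rintro ⟨v, hv, hvw⟩
      rwa [← f.injective hvw]
    · exact fun h => ⟨w, h, rfl⟩
  rw [← hmap, heq]
  rfl

end Cfsg.Agent.Golay
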