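import Cfsg.Agent.Lib.Golay.Simple

/-!
Fixed points of elements of `Cfsg.M24`: a non-identity element fixes at most eight points, and the
elements of order 5, 7, 11, 23 fix 4, 3, 2, 1 points.
-/

set_option autoImplicit false

namespace Cfsg.Agent.Golay

open scoped Pointwise

/-- The fixed points of a permutation. -/
def fixedPts (g : Equiv.Perm GolayPt) : Finset GolayPt := Finset.univ.filter fun p => g p = p

@[simp] theorem mem_fixedPts {g : Equiv.Perm GolayPt} {p : GolayPt} :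
    p ∈ fixedPts g ↔ g p = p := by simp [fixedPts]

/-- The number of points fixed by a table. -/
def fixCount (l : List ℕ) : ℕ := ((Finset.range 24).filter fun i => l.getD i 0 = i).card

theorem Tab.card_fixedPts {g : Equiv.Perm GolayPt} {l : List ℕ} (h : Tab g l) :
    (fixedPts g).card = fixCount l := by
  rw [fixCount, ← Finset.card_image_of_injective (fixedPts g) idx_injective]
  congr 1
  ext i
  simp only [Finset.mem_image, mem_fixedPts, Finset.mem_filter, Finset.mem_range]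
  constructor
  · rintro ⟨p, hp, rfl⟩
    refine ⟨idx_lt p, ?_⟩
    rw [← h _ (idx_lt p), pt_idx, hp]
  · rintro ⟨hi, e⟩
    refine ⟨pt i, idx_injective ?_, idx_pt hi⟩
    rw [h i hi, e, idx_pt hi]

theorem card_fixedPts_conj (a g : Equiv.Perm GolayPt) :
    (fixedPts (a * g * a⁻¹)).card = (fixedPts g).card := by
  rw [← Finset.card_map a.toEmbedding (s := fixedPts g)]
  congr 1
  ext p
  rw [mem_fixedPts, Finset.mem_map_equiv, mem_fixedPts, Equiv.Perm.mul_apply, Equiv.Perm.mul_apply,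
    Equiv.Perm.coe_inv]
  constructor
  · intro h
    exact (Equiv.eq_symm_apply a).2 h
  · intro h
    rw [h, Equiv.apply_symm_apply]

theorem fixedPts_subset_pow (g : Equiv.Perm GolayPt) (n : ℕ) : fixedPts g ⊆ fixedPts (g ^ n) := by
  intro p hp
  rw [mem_fixedPts] at hp ⊢
  induction n with
  | zero => rfl
  | succ n ih => rw [pow_succ, Equiv.Perm.mul_apply, hp, ih]

theorem level_facts :
    ((reps24.getD 5 []).map fun a => (reps24.getD 6 []).all fun b =>
      (comp ((evalSLP gens24 prog24).getD a.2 idTab) ((evalSLP gens24 prog24).getD b.2 idTab)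
          == idTab) ||
        decide (fixCount (comp ((evalSLP gens24 prog24).getD a.2 idTab)
          ((evalSLP gens24 prog24).getD b.2 idTab)) ≤ 8)).all id = true := by
  decide +kernel

theorem transversal_tab {i : ℕ} (hi : i = 5 ∨ i = 6) {x : ℕ} (hx : x ∈ orbN.getD i []) :
    ∃ k, (x, k) ∈ reps24.getD i [] ∧ ∃ h ∈ fixUpTo M24 i,
      Tab h ((evalSLP gens24 prog24).getD k idTab) ∧ idx (h (bp i)) = x := by
  have hf : ∀ i : Fin 7, (reps24.getD i.val []).map Prod.fst = orbN.getD i.val [] ∧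
      ∀ xk ∈ reps24.getD i.val [],
        ((evalSLP gens24 prog24).getD xk.2 idTab).getD (baseN.getD i.val 0) 0 = xk.1 ∧
        ∀ j : Fin i.val, ((evalSLP gens24 prog24).getD xk.2 idTab).getD (baseN.getD j.val 0) 0 =
          baseN.getD j.val 0 := by
    decide +kernel
  obtain ⟨h1, h2⟩ := hf ⟨i, by omega⟩
  rw [← h1, List.mem_map] at hx
  obtain ⟨⟨y, k⟩, hyk, rfl⟩ := hx
  obtain ⟨e1, e2⟩ := h2 _ hyk
  have hgen : ∀ l ∈ gens24, ∃ g ∈ M24, Tab g l := by
    intro l hl
    simp only [gens24, List.mem_cons, List.not_mem_nil, or_false] at hl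
    rcases hl with rfl | rfl | rfl | rfl
    exacts [⟨_, shift_mem, tab_shift⟩, ⟨_, projInv_mem, tab_projInv⟩,
      ⟨_, cubeTwist_mem, tab_cubeTwist⟩, ⟨1, M24.one_mem, tab_one⟩]
  obtain ⟨g, hg, hgt⟩ := evalSLP_mem M24 prog24 gens24 hgen k
  refine ⟨k, hyk, g, mem_fixUpTo.2 ⟨hg, fun j hj => idx_injective ?_⟩, hgt, ?_⟩
  · rw [hgt.apply, idx_pt (hgt.lt (idx_lt _)), idx_bp]
    exact e2 ⟨j, hj⟩
  · rw [hgt.apply, idx_pt (hgt.lt (idx_lt _)), idx_bp]
    exact e1

/-- A non-identity element of `M24` fixes at most eight points. -/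
theorem card_fixedPts_le {g : Equiv.Perm GolayPt} (hg : g ∈ M24) (h1 : g ≠ 1) :
    (fixedPts g).card ≤ 8 := by
  by_contra hcon
  push Not at hcon
  obtain ⟨s, hs, hsc⟩ := Finset.exists_subset_card_eq (s := fixedPts g) (n := 5) (by omega)
  obtain ⟨a, ha, haj⟩ := exists_map_base
    (fun j => if h : j < 5 then ((s.equivFinOfCardEq hsc).symm ⟨j, h⟩ : GolayPt) else none) 5 le_rfl
    (fun j k hj hk hjk => by
      simp only [dif_pos hj, dif_pos hk, ← Subtype.ext_iff, EmbeddingLike.apply_eq_iff_eq,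
        Fin.mk.injEq] at hjk
      exact hjk)
  have hfix : a⁻¹ * g * a ∈ fixUpTo M24 5 := by
    refine mem_fixUpTo.2 ⟨M24.mul_mem (M24.mul_mem (M24.inv_mem ha) hg) ha, fun j hj => ?_⟩
    rw [Equiv.Perm.mul_apply, Equiv.Perm.mul_apply, haj j hj, dif_pos hj,
      mem_fixedPts.1 (hs (Finset.coe_mem _)), Equiv.Perm.coe_inv, Equiv.symm_apply_eq, haj j hj,
      dif_pos hj]
  obtain ⟨k5, hk5, h5, hh5, t5, e5⟩ := transversal_tab (Or.inl rfl) (orbit_subset (by norm_num) hfix)
  have hg6 : h5⁻¹ * (a⁻¹ * g * a) ∈ fixUpTo M24 6 := by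
    obtain ⟨m1, m2⟩ := mem_fixUpTo.1 hh5
    obtain ⟨n1, n2⟩ := mem_fixUpTo.1 hfix
    refine mem_fixUpTo.2 ⟨M24.mul_mem (M24.inv_mem m1) n1, fun j hj => ?_⟩
    rw [Equiv.Perm.mul_apply, Equiv.Perm.coe_inv, Equiv.symm_apply_eq]
    rcases Nat.lt_succ_iff_lt_or_eq.1 hj with hj | rfl
    · rw [n2 j hj, m2 j hj]
    · exact (idx_injective e5).symm
  obtain ⟨k6, hk6, h6, hh6, t6, e6⟩ := transversal_tab (Or.inr rfl) (orbit_subset (by norm_num) hg6)
  have hg7 : h6⁻¹ * (h5⁻¹ * (a⁻¹ * g * a)) ∈ fixUpTo M24 7 := by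
    obtain ⟨m1, m2⟩ := mem_fixUpTo.1 hh6
    obtain ⟨n1, n2⟩ := mem_fixUpTo.1 hg6
    refine mem_fixUpTo.2 ⟨M24.mul_mem (M24.inv_mem m1) n1, fun j hj => ?_⟩
    rw [Equiv.Perm.mul_apply, Equiv.Perm.coe_inv, Equiv.symm_apply_eq]
    rcases Nat.lt_succ_iff_lt_or_eq.1 hj with hj | rfl
    · rw [n2 j hj, m2 j hj]
    · exact (idx_injective e6).symm
  rw [fixUpTo_seven, Subgroup.mem_bot, inv_mul_eq_one, eq_inv_mul_iff_mul_eq] at hg7
  have hlev := level_facts
  simp only [List.all_eq_true, List.mem_map, id_eq, forall_exists_index, and_imp,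
    forall_apply_eq_imp_iff₂, Bool.or_eq_true, beq_iff_eq, decide_eq_true_eq] at hlev
  have ht : Tab (h5 * h6) _ := t5.mul t6
  rcases hlev _ hk5 _ hk6 with hid | hle
  · apply h1
    rw [hid] at ht
    rw [tab_unique ht tab_one] at hg7
    calc g = a * (a⁻¹ * g * a) * a⁻¹ := by group
      _ = 1 := by rw [← hg7]; group
  · rw [← ht.card_fixedPts, hg7] at hle
    have := card_fixedPts_conj a⁻¹ g
    rw [inv_inv] at this
    omega

theorem eq_one_of_fixed {g : Equiv.Perm GolayPt} (hg : g ∈ M24) {s : Finset GolayPt}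
    (hs : 9 ≤ s.card) (h : ∀ p ∈ s, g p = p) : g = 1 := by
  by_contra h1
  have := card_fixedPts_le hg h1
  have := Finset.card_le_card (fun p hp => mem_fixedPts.2 (h p hp) : s ⊆ fixedPts g)
  omega

theorem zpowers_sylow {G : Type*} [Group G] [Finite G] {p : ℕ} [hp : Fact p.Prime]
    (hp2 : ¬ p ^ 2 ∣ Nat.card G) {y : G} (hy : orderOf y = p) :
    ∃ Q : Sylow p G, (Q : Subgroup G) = Subgroup.zpowers y := by
  have hP : IsPGroup p (Subgroup.zpowers y) := IsPGroup.of_card (n := 1)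
    (by rw [Nat.card_zpowers, hy, pow_one])
  obtain ⟨Q, hQ⟩ := hP.exists_le_sylow
  refine ⟨Q, (Subgroup.eq_of_le_of_card_ge hQ ?_).symm⟩
  obtain ⟨k, hk⟩ := IsPGroup.iff_card.1 Q.isPGroup'
  have hkdvd : p ^ k ∣ Nat.card G := hk ▸ Subgroup.card_subgroup_dvd_card _
  have hk1 : k ≤ 1 := by
    by_contra h
    exact hp2 ((pow_dvd_pow p (by omega)).trans hkdvd)
  rw [hk, Nat.card_zpowers, hy]
  exact (Nat.pow_le_pow_right hp.out.pos hk1).trans (le_of_eq (pow_one p))

/-- All elements of order `p` fix the same number of points when `p²` does not divide `|M₂₄|`. -/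
theorem card_fixedPts_of_orderOf {p : ℕ} [hp : Fact p.Prime] (hp2 : ¬ p ^ 2 ∣ 244823040)
    {x g : Equiv.Perm GolayPt} (hx : x ∈ M24) (hg : g ∈ M24) (hxo : orderOf x = p)
    (hgo : orderOf g = p) : (fixedPts g).card = (fixedPts x).card := by
  have hp2' : ¬ p ^ 2 ∣ Nat.card M24 := by rwa [card_M24]
  obtain ⟨Q, hQ⟩ := zpowers_sylow hp2' (y := (⟨x, hx⟩ : M24)) (by rw [Subgroup.orderOf_mk, hxo])
  obtain ⟨R, hR⟩ := zpowers_sylow hp2' (y := (⟨g, hg⟩ : M24)) (by rw [Subgroup.orderOf_mk, hgo])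
  obtain ⟨a, ha⟩ := MulAction.exists_smul_eq M24 Q R
  have hmem : (⟨g, hg⟩ : M24) ∈ (R : Subgroup M24) := hR ▸ Subgroup.mem_zpowers _
  rw [← ha, Sylow.coe_subgroup_smul, hQ, Subgroup.mem_pointwise_smul_iff_inv_smul_mem] at hmem
  rw [← mem_powers_iff_mem_zpowers, Submonoid.mem_powers_iff] at hmem
  obtain ⟨k, hk⟩ := hmem
  have e : g = a.1 * x ^ k * (a.1)⁻¹ := by
    have h := congrArg Subtype.val hk
    simp only [SubmonoidClass.coe_pow, ← map_inv, MulAut.smul_def, MulAut.conj_apply,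
      Subgroup.coe_mul, Subgroup.coe_inv, inv_inv] at h
    rw [h]; group
  rw [e, card_fixedPts_conj]
  apply congrArg
  refine Finset.Subset.antisymm ?_ (fixedPts_subset_pow x k)
  have hxk : x ^ k ≠ 1 := fun h => by
    rw [h, mul_one, mul_inv_cancel] at e
    rw [e, orderOf_one] at hgo
    exact hp.out.one_lt.ne hgo
  have hcop : Nat.Coprime k (orderOf x) := by
    rw [hxo, Nat.coprime_comm, hp.out.coprime_iff_not_dvd, ← hxo]
    exact fun h => hxk (orderOf_dvd_iff_pow_eq_one.1 h)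
  obtain ⟨m, hm⟩ := exists_pow_eq_self_of_coprime hcop
  have := fixedPts_subset_pow (x ^ k) m
  rwa [hm] at this

def fiveTab : List ℕ := [0, 18, 6, 3, 2, 21, 1, 5, 16, 12, 7, 19, 8, 9, 17, 15, 13, 11, 4, 22, 10, 20, 14, 23]

def sevenTab : List ℕ := [20, 8, 5, 4, 0, 3, 7, 18, 14, 9, 21, 10, 11, 19, 17, 15, 13, 6, 1, 12, 22, 16, 2, 23]

theorem fixed_facts :
    checkAut fiveTab = true ∧ checkAut sevenTab = true ∧ powTab fiveTab 5 = idTab ∧
      powTab sevenTab 7 = idTab ∧ fixCount fiveTab = 4 ∧ fixCount sevenTab = 3 ∧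
      fixCount doubleTab = 2 ∧ fixCount shiftTab = 1 := by
  decide +kernel

theorem card_fixedPts_five {g : Equiv.Perm GolayPt} (hg : g ∈ M24) (ho : orderOf g = 5) :
    (fixedPts g).card = 4 := by
  obtain ⟨h1, -, h2, -, h3, -⟩ := fixed_facts
  have : Fact (Nat.Prime 5) := ⟨by norm_num⟩
  have t := tab_permOf (l := fiveTab) (by decide +kernel)
  rw [card_fixedPts_of_orderOf (p := 5) (by norm_num) (t.mem_M24 h1) hg
    (t.orderOf_eq (by norm_num) (by decide +kernel) h2) ho, t.card_fixedPts, h3]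

theorem card_fixedPts_seven {g : Equiv.Perm GolayPt} (hg : g ∈ M24) (ho : orderOf g = 7) :
    (fixedPts g).card = 3 := by
  obtain ⟨-, h1, -, h2, -, h3, -⟩ := fixed_facts
  have : Fact (Nat.Prime 7) := ⟨by norm_num⟩
  have t := tab_permOf (l := sevenTab) (by decide +kernel)
  rw [card_fixedPts_of_orderOf (p := 7) (by norm_num) (t.mem_M24 h1) hg
    (t.orderOf_eq (by norm_num) (by decide +kernel) h2) ho, t.card_fixedPts, h3]

theorem double_mem : double ∈ M24 := (gens22_mem (by simp)).1.1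

theorem card_fixedPts_eleven {g : Equiv.Perm GolayPt} (hg : g ∈ M24) (ho : orderOf g = 11) :
    (fixedPts g).card = 2 := by
  obtain ⟨-, -, -, -, -, -, h3, -⟩ := fixed_facts
  have : Fact (Nat.Prime 11) := ⟨by norm_num⟩
  rw [card_fixedPts_of_orderOf (p := 11) (by norm_num) double_mem hg orderOf_gens.2.2.1 ho,
    double, (tab_permOf _).card_fixedPts, h3]

theorem card_fixedPts_twentythree {g : Equiv.Perm GolayPt} (hg : g ∈ M24)
    (ho : orderOf g = 23) : (fixedPts g).card = 1 := by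
  obtain ⟨-, -, -, -, -, -, -, h3⟩ := fixed_facts
  have : Fact (Nat.Prime 23) := ⟨by norm_num⟩
  rw [card_fixedPts_of_orderOf (p := 23) (by norm_num) shift_mem hg orderOf_gens.1 ho,
    tab_shift.card_fixedPts, h3]

/-- An invariant set has, modulo `p`, as many points as fixed points. -/
theorem card_modEq_fixed {p : ℕ} [hp : Fact p.Prime] {g : Equiv.Perm GolayPt} (hgp : g ^ p = 1)
    {S : Finset GolayPt} (hS : ∀ q, g q ∈ S ↔ q ∈ S) :
    S.card ≡ (S.filter fun q => g q = q).card [MOD p] := by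
  set σ : Equiv.Perm {q // q ∈ S} := g.subtypePerm hS with hσdef
  have hσ : σ ^ p = 1 := by
    ext x
    rw [hσdef, Equiv.Perm.subtypePerm_pow]
    simp [hgp]
  set f : Function.End {q // q ∈ S} := ⇑σ with hf
  have hf1 : f ^ p ^ 1 = 1 := by
    rw [pow_one]
    rw [hom_coe_pow (fun g : Function.End {q // q ∈ S} => g) rfl (fun _ _ => rfl) f p,
      ← Equiv.Perm.coe_pow, hσ]
    rfl
  have key := Equiv.Perm.card_fixedPoints_modEq hf1
  rw [Fintype.card_coe] at key
  have e : Fintype.card f.fixedPoints = (S.filter fun q => g q = q).card := by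
    rw [← Fintype.card_coe (S.filter fun q => g q = q)]
    refine Fintype.card_congr
      { toFun := fun x => ⟨x.1.1, Finset.mem_filter.2 ⟨x.1.2, congrArg Subtype.val x.2⟩⟩
        invFun := fun x => ⟨⟨x.1, (Finset.mem_filter.1 x.2).1⟩,
          Subtype.ext (Finset.mem_filter.1 x.2).2⟩
        left_inv := fun _ => rfl
        right_inv := fun _ => rfl }
  rwa [e] at key

end Cfsg.Agent.Golay
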