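import Cfsg.Agent.Lib.Golay.Transitive

/-!
The Golay code modulo the all-ones word is an irreducible module for M₂₄.
-/

set_option autoImplicit false

namespace Cfsg.Agent.Golay

open scoped Pointwise

theorem toWord_ones : toWord 16777215 = fun _ => (1 : ZMod 2) := funext fun p => (one_eq p).2.symm

theorem one_mem_golayCode : (fun _ : GolayPt => (1 : ZMod 2)) ∈ golayCode := by
  rw [← toWord_ones]
  exact toWord_mem_of_inCode (by decide +kernel)

/-- An octad pair with dodecad sum, and a dodecad pair with octad sum. -/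
theorem sum_witness : ∃ a b c d e f : Fin 4096,
    popc (comb a.val) = 8 ∧ popc (comb b.val) = 8 ∧ popc (comb c.val) = 12 ∧
    comb a.val ^^^ comb b.val = comb c.val ∧
    popc (comb d.val) = 12 ∧ popc (comb e.val) = 12 ∧ popc (comb f.val) = 8 ∧
    comb d.val ^^^ comb e.val = comb f.val := by
  refine ⟨1, 12, 13, 13, 14, 3, ?_⟩
  decide +kernel

theorem invariant_eq_span_or_top {W : Submodule (ZMod 2) (GolayPt → ZMod 2)}
    (h1 : (fun _ => (1 : ZMod 2)) ∈ W) (hle : W ≤ golayCode)
    (hinv : ∀ σ ∈ M24, ∀ w ∈ W, (fun p => w (σ.symm p)) ∈ W) :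
    W = Submodule.span (ZMod 2) {fun _ => (1 : ZMod 2)} ∨ W = golayCode := by
  by_cases hsmall : ∀ w ∈ W, w = 0 ∨ w = fun _ => (1 : ZMod 2)
  · refine Or.inl (le_antisymm (fun w hw => ?_) ?_)
    · rcases hsmall w hw with rfl | rfl
      · exact Submodule.zero_mem _
      · exact Submodule.mem_span_singleton_self _
    · rwa [Submodule.span_singleton_le_iff_mem]
  right
  push Not at hsmall
  obtain ⟨w, hw, hw0, hw1⟩ := hsmall
  -- orbits
  have horb : ∀ {v : GolayPt → ZMod 2} {n : ℕ} {σ : Equiv.Perm GolayPt}, v ∈ W → σ ∈ M24 →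
      σ • support₂ v = toSet n → toWord n ∈ W := by
    intro v n σ hv hσ h
    rw [smul_support₂, ← support₂_toWord] at h
    rw [← support₂_injective h]
    exact hinv σ hσ v hv
  obtain ⟨a, b, c, d, e, f, ha, hb, hc, habc, hd, he, hf, hdef⟩ := sum_witness
  have oct_all : (∃ v ∈ W, (support₂ v).card = 8) → ∀ n, inCode n = true → popc n = 8 →
      toWord n ∈ W := by
    rintro ⟨v, hv, hv8⟩ n hn hn8
    obtain ⟨σ, hσ, hσv⟩ := octad_transitive (o := support₂ v) (o' := toSet n)
      ⟨⟨v, hle hv, rfl⟩, hv8⟩ (octad_mem_iff.2 ⟨n, hn, hn8, rfl⟩)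
    exact horb hv hσ hσv
  have dod_all : (∃ v ∈ W, (support₂ v).card = 12) → ∀ n, inCode n = true → popc n = 12 →
      toWord n ∈ W := by
    rintro ⟨v, hv, hv12⟩ n hn hn12
    obtain ⟨σ, hσ, hσv⟩ := dodecad_transitive (d := support₂ v) (d' := toSet n)
      ⟨⟨v, hle hv, rfl⟩, hv12⟩ (dodecad_mem_iff.2 ⟨n, hn, hn12, rfl⟩)
    exact horb hv hσ hσv
  have hoct : ∃ v ∈ W, (support₂ v).card = 8 := by
    have hwt := supports_card_cases (s := support₂ w) ⟨w, hle hw, rfl⟩
    rcases hwt with h | h | h | h | h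
    · exact absurd (support₂_injective (h.trans (by simp [support₂]))) hw0
    · exact ⟨w, hw, h⟩
    · have hall := dod_all ⟨w, hw, h⟩
      refine ⟨toWord (comb f.val), ?_, by rw [support₂_toWord, card_toSet, hf]⟩
      rw [← hdef, toWord_xor]
      exact W.add_mem (hall _ (inCode_comb d.isLt) hd) (hall _ (inCode_comb e.isLt) he)
    · refine ⟨w + fun _ => 1, W.add_mem hw h1, ?_⟩
      have hs := support₂_add w (fun _ => 1)
      have hu : support₂ (fun _ : GolayPt => (1 : ZMod 2)) = Finset.univ := by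
        simp [support₂]
      rw [hu, Finset.inter_univ, Finset.card_univ, card_golayPt] at hs
      omega
    · have hu : support₂ (fun _ : GolayPt => (1 : ZMod 2)) = Finset.univ := by
        simp [support₂]
      refine absurd (support₂_injective ?_) hw1
      rw [hu, ← Finset.card_eq_iff_eq_univ, h, card_golayPt]
  refine le_antisymm hle ?_
  rw [golayCode_eq]
  rintro _ ⟨m, -, rfl⟩
  refine toWord_combAux_mem _ _ _ fun x hx => ?_
  rw [octBasis_facts.1, List.mem_map] at hx
  obtain ⟨k, -, rfl⟩ := hx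
  refine toWord_combAux_mem _ _ _ fun o ho => ?_
  have ho' := List.all_eq_true.1 octBasis_facts.2 o ho
  simp only [Bool.and_eq_true, beq_iff_eq] at ho'
  exact oct_all hoct o ho'.1 ho'.2

end Cfsg.Agent.Golay
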