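import Cfsg.Agent.Lib.Golay.M12
import Cfsg.Prelude.Def_KGroupFacts

/-!
The outer automorphism groups of M₁₁ and M₁₂.
-/

set_option autoImplicit false

namespace Cfsg.Agent.Golay

open scoped Pointwise

/-- An element of M₁₁ fixing 1 that cubes the first generator. -/
def normTab : List ℕ := [0, 1, 6, 8, 12, 5, 3, 7, 18, 13, 22, 10, 16, 4, 19, 21, 9, 11, 2, 15, 14, 20, 23, 17]

/-- The reflection of the orbit of the first generator. -/
def reflTab : List ℕ := [0, 1, 9, 4, 3, 5, 13, 7, 12, 2, 10, 11, 8, 6, 14, 15, 18, 17, 16, 19, 20, 21, 22, 23]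

/-- An octad meeting the dodecad of squares in six points. -/
def badOctad : ℕ := 3416079

/-- An octad through five points of the twisted image of that hexad. -/
def nearOctad : ℕ := 69395

/-- An element of M₂₄ exchanging the dodecad of squares and its complement. -/
def exchTab : List ℕ := [23, 22, 11, 15, 17, 9, 19, 13, 20, 5, 16, 2, 21, 7, 18, 3, 10, 4, 14, 6, 8, 12, 1, 0]

/-- Two elements of M₁₁ fixing 5 and 1, with no further common fixed point outside the dodecad. -/
def twoPointTabs : List (List ℕ) := [[0, 1, 3, 13, 6, 5, 12, 23, 18, 16, 10, 17, 8, 9, 19, 20, 2, 7, 4, 21, 14, 15, 11, 22], [0, 1, 12, 4, 6, 5, 3, 23, 18, 2, 17, 10, 9, 8, 14, 20, 16, 11, 13, 15, 19, 21, 7, 22]]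

/-- The first generator of M₁₁, of order 11. -/
def elevenTab : List ℕ := gens11.getD 0 idTab

/-- The second generator of M₁₁ twisted by the reflection. -/
def twistTab : List ℕ := comp reflTab (comp (gens11.getD 1 idTab) reflTab)

/-- The image of the hexad of `badOctad` under the twisted generator. -/
def badImage : ℕ := imgN twistTab (badOctad &&& dMask)

theorem eleven_facts :
    (ok11 elevenTab = true ∧ ok11 normTab = true ∧ ok11 (gens11.getD 1 idTab) = true) ∧
    comp normTab elevenTab = comp (powTab elevenTab 3) normTab ∧ normTab.getD 1 0 = 1 ∧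
    powTab elevenTab 11 = idTab ∧ elevenTab.getD 1 0 ≠ 1 ∧
    (∀ d : Fin 24, dMask.testBit d.val = true → d.val ≠ 0 →
      ∃ j : Fin 11, (powTab elevenTab j.val).getD 1 0 = d.val) ∧
    (∀ k : Fin 11, k.val ≠ 0 → ∃ i : Fin 5, k.val * 3 ^ i.val % 11 = 1 ∨ k.val * 3 ^ i.val % 11 = 10) := by
  decide +kernel

theorem refl_facts :
    (isPermTab reflTab = true ∧ comp reflTab reflTab = idTab ∧ reflTab.getD 0 0 = 0) ∧
    (∀ j : Fin 11, reflTab.getD ((powTab elevenTab j.val).getD 1 0) 0 =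
      (powTab elevenTab (10 * j.val % 11)).getD 1 0) ∧
    maps twistTab (badOctad &&& dMask) badImage = true ∧
    (inCode badOctad = true ∧ popc badOctad = 8) ∧ (inCode nearOctad = true ∧ popc nearOctad = 8) ∧
    popc badImage = 6 ∧ popc (badImage &&& nearOctad) = 5 := by
  decide +kernel

theorem exch_facts :
    isPermTab exchTab = true ∧ checkAut exchTab = true ∧
    maps exchTab dMask (16777215 ^^^ dMask) = true := by
  decide +kernel

theorem two_point_facts :
    twoPointTabs.all (fun l => ok11 l && l.getD 5 0 == 5 && l.getD 1 0 == 1) = true ∧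
    (∀ c : Fin 24, dMask.testBit c.val = false → (∀ l ∈ twoPointTabs, l.getD c.val 0 = c.val) →
      c.val = 5) ∧ dMask.testBit 5 = false := by
  decide +kernel

theorem apply_zero_M11 {g : Equiv.Perm GolayPt} (hg : g ∈ Spor.M11) : g (some 0) = some 0 :=
  (mem_M11_iff.1 hg).2

theorem mem_M12_of_mem_M11 {g : Equiv.Perm GolayPt} (hg : g ∈ Spor.M11) : g ∈ Spor.M12 :=
  (mem_M11_iff.1 hg).1

theorem exists_map11 {p q : GolayPt} (hp : p ∈ Spor.squareDodecad.erase (some 0))
    (hq : q ∈ Spor.squareDodecad.erase (some 0)) : ∃ g ∈ Spor.M11, g p = q := by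
  obtain ⟨hp0, hpD⟩ := Finset.mem_erase.1 hp
  obtain ⟨hq0, hqD⟩ := Finset.mem_erase.1 hq
  obtain ⟨g, hg, hgi⟩ := exists_map12' (n := 2) (by norm_num) ![some 0, p] ![some 0, q]
    (by intro i j e; fin_cases i <;> fin_cases j <;> first | rfl | exact absurd e (Ne.symm hp0) |
      exact absurd e hp0)
    (by intro i j e; fin_cases i <;> fin_cases j <;> first | rfl | exact absurd e (Ne.symm hq0) |
      exact absurd e hq0)
    (by intro i; fin_cases i; exacts [zero_mem_D, hpD])
    (by intro i; fin_cases i; exacts [zero_mem_D, hqD])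
  exact ⟨g, mem_M11_iff.2 ⟨hg, hgi 0⟩, hgi 1⟩

theorem apply_mem_erase {g : Equiv.Perm GolayPt} (hg : g ∈ Spor.M11) (p : GolayPt) :
    g p ∈ Spor.squareDodecad.erase (some 0) ↔ p ∈ Spor.squareDodecad.erase (some 0) := by
  rw [Finset.mem_erase, Finset.mem_erase, apply_mem_D (mem_M12_of_mem_M11 hg)]
  refine and_congr_left fun _ => not_congr ⟨fun h => g.injective (h.trans (apply_zero_M11 hg).symm),
    fun h => by rw [h, apply_zero_M11 hg]⟩

theorem orbF_M11 {p : GolayPt} (hp : p ∈ Spor.squareDodecad.erase (some 0)) :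
    orbF Spor.M11 p = Spor.squareDodecad.erase (some 0) := by
  ext q
  rw [mem_orbF]
  constructor
  · rintro ⟨g, hg, rfl⟩
    exact (apply_mem_erase hg p).2 hp
  · exact exists_map11 hp

theorem card_erase_zero : (Spor.squareDodecad.erase (some 0)).card = 11 := by
  rw [Finset.card_erase_of_mem zero_mem_D, card_squareDodecad]

theorem card_M11_stab {p : GolayPt} (hp : p ∈ Spor.squareDodecad.erase (some 0)) :
    Nat.card ↥(Spor.M11 ⊓ MulAction.stabilizer (Equiv.Perm GolayPt) p) = 720 := by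
  have h := card_eq_orbF_mul Spor.M11 p
  rw [card_M11, orbF_M11 hp, card_erase_zero] at h
  omega

/-- A subgroup of order 720 of M₁₁ fixes a point of the dodecad other than 0. -/
theorem exists_fixed_720 {K : Subgroup (Equiv.Perm GolayPt)} (hK : K ≤ Spor.M11)
    (hc : Nat.card K = 720) :
    ∃ p ∈ Spor.squareDodecad.erase (some 0), ∀ g ∈ K, g p = p := by
  have : Fact (Nat.Prime 5) := ⟨by norm_num⟩
  obtain ⟨⟨g, hg⟩, hgo⟩ := exists_prime_orderOf_dvd_card' (G := K) 5 (by rw [hc]; norm_num)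
  rw [Subgroup.orderOf_mk] at hgo
  have hg5 : g ^ 5 = 1 := by rw [← hgo, pow_orderOf_eq_one]
  have hg12 := mem_M12_of_mem_M11 (hK hg)
  have hg1 : g ≠ 1 := fun h => by simp [h] at hgo
  have hle := card_fixed12_le hg12 hg1
  have hD := card_modEq_fixed hg5 (S := Spor.squareDodecad) (apply_mem_D hg12)
  rw [card_squareDodecad, Nat.ModEq] at hD
  have hF : ((Spor.squareDodecad.filter fun r => g r = r).erase (some 0)).card ≤ 1 := by
    have h0 : (some 0 : GolayPt) ∈ Spor.squareDodecad.filter fun r => g r = r :=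
      Finset.mem_filter.2 ⟨zero_mem_D, apply_zero_M11 (hK hg)⟩
    rw [Finset.card_erase_of_mem h0]
    omega
  have hsub : ∀ q ∈ Spor.squareDodecad.erase (some 0),
      orbF K q ⊆ Spor.squareDodecad.erase (some 0) := by
    intro q hq r hr
    obtain ⟨h, hh, rfl⟩ := mem_orbF.1 hr
    exact (apply_mem_erase (hK hh) q).2 hq
  have hmod : ∀ q ∈ Spor.squareDodecad.erase (some 0),
      (orbF K q).card % 5 ≤ 1 ∧ 0 < (orbF K q).card ∧ (orbF K q).card ≠ 11 := by
    intro q hq
    refine ⟨?_, Finset.card_pos.2 ⟨q, self_mem_orbF K q⟩, fun h11 => ?_⟩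
    · have hm := card_modEq_fixed hg5 (S := orbF K q) (orbF_invariant hg)
      have hs : (orbF K q).filter (fun r => g r = r) ⊆
          (Spor.squareDodecad.filter fun r => g r = r).erase (some 0) := by
        intro r hr
        rw [Finset.mem_filter] at hr
        obtain ⟨h1, h2⟩ := Finset.mem_erase.1 (hsub q hq hr.1)
        exact Finset.mem_erase.2 ⟨h1, Finset.mem_filter.2 ⟨h2, hr.2⟩⟩
      have := Finset.card_le_card hs
      rw [Nat.ModEq] at hm
      omega
    · have := card_eq_orbF_mul K q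
      rw [hc, h11] at this
      omega
  by_contra hcon
  push Not at hcon
  have hne1 : ∀ q ∈ Spor.squareDodecad.erase (some 0), (orbF K q).card ≠ 1 := by
    intro q hq h1
    obtain ⟨h, hh, hhq⟩ := hcon q hq
    exact hhq (fixes_of_card_one h1 h hh)
  have hfive : ∃ q ∈ Spor.squareDodecad.erase (some 0), (orbF K q).card = 5 := by
    obtain ⟨q, hq⟩ := Finset.card_pos.1 (card_erase_zero.symm ▸ (by norm_num : 0 < 11) :
      0 < (Spor.squareDodecad.erase (some 0)).card)
    obtain ⟨m1, m2, m3⟩ := hmod q hq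
    have m4 := hne1 q hq
    have m5 := (Finset.card_le_card (hsub q hq)).trans card_erase_zero.le
    obtain ⟨q', hq', hq''⟩ := Finset.exists_mem_notMem_of_card_lt_card
      (s := orbF K q) (t := Spor.squareDodecad.erase (some 0)) (by rw [card_erase_zero]; omega)
    obtain ⟨n1, n2, n3⟩ := hmod q' hq'
    have n4 := hne1 q' hq'
    have hu := Finset.card_le_card (Finset.union_subset (hsub q hq) (hsub q' hq'))
    rw [Finset.card_union_of_disjoint (orbF_disjoint hq''), card_erase_zero] at hu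
    rcases eq_or_ne (orbF K q).card 5 with h | h
    · exact ⟨q, hq, h⟩
    · exact ⟨q', hq', by omega⟩
  obtain ⟨q, hq, hq5⟩ := hfive
  let f : K → Equiv.Perm {r // r ∈ orbF K q} := fun h => h.1.subtypePerm (orbF_invariant h.2)
  have hinj : Function.Injective f := by
    intro a b hab
    have h6 : (insert (some 0) (orbF K q)).card = 6 := by
      rw [Finset.card_insert_of_notMem
        (fun h => (Finset.mem_erase.1 (hsub q hq h)).1 rfl), hq5]
    refine Subtype.ext (eq12_of_five (mem_M12_of_mem_M11 (hK a.2)) (mem_M12_of_mem_M11 (hK b.2))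
      (s := insert (some 0) (orbF K q)) ?_ (by omega) fun r hr => ?_)
    · exact Finset.insert_subset zero_mem_D ((hsub q hq).trans (Finset.erase_subset _ _))
    · rcases Finset.mem_insert.1 hr with rfl | hr
      · rw [apply_zero_M11 (hK a.2), apply_zero_M11 (hK b.2)]
      · exact congrArg Subtype.val (DFunLike.congr_fun hab ⟨r, hr⟩)
  have := Nat.card_le_card_of_injective f hinj
  rw [hc, Nat.card_perm, Nat.card_eq_finsetCard, hq5] at this
  norm_num [Nat.factorial] at this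

theorem stab_det11 {p q : GolayPt} (hp : p ∈ Spor.squareDodecad.erase (some 0))
    (hq : q ∈ Spor.squareDodecad.erase (some 0))
    (h : ∀ g ∈ Spor.M11, g p = p → g q = q) : p = q := by
  by_contra hne
  obtain ⟨hp0, hpD⟩ := Finset.mem_erase.1 hp
  obtain ⟨hq0, hqD⟩ := Finset.mem_erase.1 hq
  obtain ⟨r, hr, hr'⟩ := Finset.exists_mem_notMem_of_card_lt_card (s := {some 0, p, q})
    (t := Spor.squareDodecad) (by rw [card_squareDodecad]; exact lt_of_le_of_lt Finset.card_le_three (by norm_num))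
  simp only [Finset.mem_insert, Finset.mem_singleton, not_or] at hr'
  obtain ⟨hr0, hrp, hrq⟩ := hr'
  obtain ⟨g, hg, hgi⟩ := exists_map12' (n := 3) (by norm_num) ![some 0, p, q] ![some 0, p, r]
    (by intro i j e; fin_cases i <;> fin_cases j <;> first | rfl | exact absurd e (by first
      | assumption | exact Ne.symm hp0 | exact Ne.symm hq0 | exact Ne.symm hne))
    (by intro i j e; fin_cases i <;> fin_cases j <;> first | rfl | exact absurd e (by first
      | assumption | exact Ne.symm hp0 | exact Ne.symm hr0 | exact Ne.symm hrp))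
    (by intro i; fin_cases i; exacts [zero_mem_D, hpD, hqD])
    (by intro i; fin_cases i; exacts [zero_mem_D, hpD, hr])
  exact hrq ((hgi 2).symm.trans (h g (mem_M11_iff.2 ⟨hg, hgi 0⟩) (hgi 1)))

/-- `σ` induces the automorphism `φ` of M₁₁ on the dodecad of squares. -/
def Induces11 (φ : MulAut Spor.M11) (σ : Equiv.Perm GolayPt) : Prop :=
  (∀ p, σ p ∈ Spor.squareDodecad ↔ p ∈ Spor.squareDodecad) ∧ σ (some 0) = some 0 ∧
    ∀ (g : Spor.M11), ∀ p ∈ Spor.squareDodecad, (φ g).1 (σ p) = σ (g.1 p)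

theorem exists_induces11 (φ : MulAut Spor.M11) : ∃ σ, Induces11 φ σ := by
  classical
  have himg : ∀ p, p ∈ Spor.squareDodecad.erase (some 0) → ∃ q,
      q ∈ Spor.squareDodecad.erase (some 0) ∧ ∀ g : Spor.M11, g.1 p = p ↔ (φ g).1 q = q := by
    intro p hp
    set K : Subgroup (Equiv.Perm GolayPt) :=
      (((Spor.M11 ⊓ MulAction.stabilizer (Equiv.Perm GolayPt) p).subgroupOf Spor.M11).map
        φ.toMonoidHom).map Spor.M11.subtype with hK
    have hKle : K ≤ Spor.M11 := Subgroup.map_subtype_le _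
    have hKc : Nat.card K = 720 := by
      rw [hK, Subgroup.card_map_of_injective Spor.M11.subtype_injective,
        Subgroup.card_map_of_injective φ.injective,
        Nat.card_congr (Subgroup.subgroupOfEquivOfLe inf_le_left).toEquiv, card_M11_stab hp]
    obtain ⟨q, hq, hfix⟩ := exists_fixed_720 hKle hKc
    have hKeq : K = Spor.M11 ⊓ MulAction.stabilizer (Equiv.Perm GolayPt) q :=
      Subgroup.eq_of_le_of_card_ge (le_inf hKle fun g hg => hfix g hg)
        (by rw [card_M11_stab hq, hKc])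
    refine ⟨q, hq, fun g => ⟨fun h => hfix _ ?_, fun h => ?_⟩⟩
    · exact ⟨φ g, ⟨g, ⟨g.2, h⟩, rfl⟩, rfl⟩
    · have hmem : (φ g).1 ∈ K := by
        rw [hKeq]
        exact ⟨(φ g).2, h⟩
      obtain ⟨y, ⟨z, hz, hzy⟩, hy⟩ := hmem
      have : z = g := φ.injective (hzy.trans (Subtype.ext hy))
      exact this ▸ hz.2
  choose f hf hf' using himg
  let F : GolayPt → GolayPt := fun p =>
    if h : p ∈ Spor.squareDodecad.erase (some 0) then f p h else p
  have hFinj : Function.Injective F := by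
    intro p q h
    by_cases hp : p ∈ Spor.squareDodecad.erase (some 0) <;>
      by_cases hq : q ∈ Spor.squareDodecad.erase (some 0) <;>
      simp only [F, dif_pos, dif_neg, hp, hq, not_false_eq_true] at h
    · refine stab_det11 hp hq fun g hg hgp => ?_
      have h1 := (hf' p hp ⟨g, hg⟩).1 hgp
      rw [h] at h1
      exact (hf' q hq ⟨g, hg⟩).2 h1
    · exact absurd (h ▸ hf p hp) hq
    · exact absurd (h ▸ hf q hq) hp
    · exact h
  have hF0 : F (some 0) = some 0 := by simp [F]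
  have hFD : ∀ p, F p ∈ Spor.squareDodecad ↔ p ∈ Spor.squareDodecad := by
    intro p
    by_cases hp : p ∈ Spor.squareDodecad.erase (some 0)
    · simp only [F, dif_pos hp]
      exact iff_of_true (Finset.mem_erase.1 (hf p hp)).2 (Finset.mem_erase.1 hp).2
    · simp only [F, dif_neg hp]
  refine ⟨Equiv.ofBijective F (Finite.injective_iff_bijective.1 hFinj), hFD, hF0, fun g p hpD => ?_⟩
  simp only [Equiv.ofBijective_apply]
  by_cases hp0 : p = some 0
  · subst hp0
    rw [apply_zero_M11 g.2, hF0, apply_zero_M11 (φ g).2]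
  have hp : p ∈ Spor.squareDodecad.erase (some 0) := Finset.mem_erase.2 ⟨hp0, hpD⟩
  have hgp : g.1 p ∈ Spor.squareDodecad.erase (some 0) := (apply_mem_erase g.2 p).2 hp
  simp only [F, dif_pos hp, dif_pos hgp]
  refine (stab_det11 (hf _ hgp) ((apply_mem_erase (φ g).2 _).2 (hf p hp)) fun h hh hhf => ?_).symm
  obtain ⟨k, hk⟩ := φ.surjective ⟨h, hh⟩
  have h1 : k.1 (g.1 p) = g.1 p := (hf' _ hgp k).2 (by rw [hk]; exact hhf)
  have h2 : (g⁻¹ * k * g : Spor.M11).1 p = p := by
    simp only [Subgroup.coe_mul, Subgroup.coe_inv, Equiv.Perm.mul_apply, Equiv.Perm.coe_inv,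
      h1, Equiv.symm_apply_apply]
  have h3 := (hf' p hp _).1 h2
  simp only [map_mul, map_inv, hk, Subgroup.coe_mul, Subgroup.coe_inv, Equiv.Perm.mul_apply,
    Equiv.Perm.coe_inv, Equiv.symm_apply_eq] at h3
  exact h3

theorem Induces11.inner {φ : MulAut Spor.M11} {σ : Equiv.Perm GolayPt} (h : Induces11 φ σ)
    (a : Spor.M11) : Induces11 (MulAut.conj a * φ) (a.1 * σ) := by
  obtain ⟨h1, h2, h3⟩ := h
  refine ⟨fun p => ?_, ?_, fun g p hp => ?_⟩
  · rw [Equiv.Perm.mul_apply, apply_mem_D (mem_M12_of_mem_M11 a.2), h1]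
  · rw [Equiv.Perm.mul_apply, h2, apply_zero_M11 a.2]
  · simp only [MulAut.mul_apply, MulAut.conj_apply, Subgroup.coe_mul, Subgroup.coe_inv,
      Equiv.Perm.mul_apply, Equiv.Perm.coe_inv, Equiv.symm_apply_apply, h3 g p hp]

/-- Every automorphism of M₁₁ is inner. -/
theorem mem_Inn_M11 (φ : MulAut Spor.M11) : φ ∈ Cfsg.Inn Spor.M11 := by
  obtain ⟨⟨okx, okn, oky⟩, hcomm, hn1, hx11, hx1, hd, hk⟩ := eleven_facts
  obtain ⟨xe, hxe, tx⟩ := exists_M11 okx
  obtain ⟨ne, hne, tn⟩ := exists_M11 okn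
  obtain ⟨ye, hye, ty⟩ := exists_M11 oky
  set x : Spor.M11 := ⟨xe, hxe⟩ with hx
  set n : Spor.M11 := ⟨ne, hne⟩ with hn
  have : Fact (Nat.Prime 11) := ⟨by norm_num⟩
  have hxo : orderOf x = 11 := by
    rw [hx, Subgroup.orderOf_mk]
    exact tx.orderOf_eq (by norm_num) (Or.inl hx1) hx11
  have hnx : n * x * n⁻¹ = x ^ 3 := by
    rw [mul_inv_eq_iff_eq_mul]
    refine Subtype.ext (tab_unique (tn.mul tx) ?_)
    rw [hcomm]
    exact (tx.pow 3).mul tn
  have h121 : ¬ 11 ^ 2 ∣ Nat.card Spor.M11 := by rw [card_M11]; norm_num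
  obtain ⟨Q, hQ⟩ := zpowers_sylow h121 (show orderOf (φ x) = 11 by
    rw [← hxo]; exact orderOf_injective φ.toMonoidHom φ.injective x)
  obtain ⟨R, hR⟩ := zpowers_sylow h121 hxo
  obtain ⟨a, ha⟩ := MulAction.exists_smul_eq Spor.M11 Q R
  have hmem : MulAut.conj a (φ x) ∈ Subgroup.zpowers x := by
    rw [← hR, ← ha, Sylow.coe_subgroup_smul, hQ, Subgroup.mem_pointwise_smul_iff_inv_smul_mem]
    convert Subgroup.mem_zpowers (φ x) using 1
    show (MulAut.conj a)⁻¹ (MulAut.conj a (φ x)) = φ x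
    exact MulEquiv.symm_apply_apply _ _
  rw [(isOfFinOrder_of_finite x).mem_zpowers_iff_mem_range_orderOf, Finset.mem_image] at hmem
  obtain ⟨k, hkr, hkx⟩ := hmem
  rw [Finset.mem_range, hxo] at hkr
  have hk0 : k ≠ 0 := fun h => by
    rw [h, pow_zero] at hkx
    have : φ x = 1 := (MulAut.conj a).injective (hkx.symm.trans (map_one _).symm)
    rw [φ.injective (this.trans (map_one φ).symm), orderOf_one] at hxo
    norm_num at hxo
  obtain ⟨i, hi⟩ := hk ⟨k, hkr⟩ hk0
  have hni : ∀ i : ℕ, MulAut.conj (n ^ i) x = x ^ (3 ^ i) := by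
    intro i
    induction i with
    | zero => simp
    | succ i ih =>
      rw [pow_succ', map_mul, MulAut.mul_apply, ih, map_pow (MulAut.conj n), MulAut.conj_apply, hnx,
        ← pow_mul, pow_succ']
  set φ2 := MulAut.conj (n ^ i.val) * (MulAut.conj a * φ) with hφ2
  have hφ2x : φ2 x = x ^ (k * 3 ^ i.val % 11) := by
    rw [hφ2, MulAut.mul_apply, MulAut.mul_apply, ← hkx, map_pow, hni, ← pow_mul, mul_comm (3 ^ i.val) k,
      ← pow_mod_orderOf, hxo]
  obtain ⟨σ2, hσ2⟩ := exists_induces11 φ2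
  have hd1 : σ2 (pt 1) ∈ Spor.squareDodecad.erase (some 0) := by
    refine Finset.mem_erase.2 ⟨fun h => ?_, (hσ2.1 _).2 (pt_mem_D (by norm_num))⟩
    have := σ2.injective (h.trans hσ2.2.1.symm)
    exact absurd this (by decide +kernel)
  obtain ⟨hd0, hdD⟩ := Finset.mem_erase.1 hd1
  obtain ⟨j, hj⟩ := hd ⟨idx (σ2 (pt 1)), idx_lt _⟩ (mem_D_iff.1 hdD) fun h => hd0 (by
    rw [← pt_zero, ← pt_idx (σ2 (pt 1))]; exact congrArg pt h)
  have hxj : (x ^ j.val : Spor.M11).1 (pt 1) = σ2 (pt 1) := by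
    rw [SubmonoidClass.coe_pow, (tx.pow j.val).apply_pt (by norm_num) hj, pt_idx]
  set a3 : Spor.M11 := (x ^ j.val)⁻¹ with ha3
  set φ3 := MulAut.conj a3 * φ2 with hφ3
  have hσ3 : Induces11 φ3 (a3.1 * σ2) := hσ2.inner a3
  set σ3 := a3.1 * σ2 with hσ3def
  have h31 : σ3 (pt 1) = pt 1 := by
    rw [hσ3def, Equiv.Perm.mul_apply, ← hxj, ha3, Subgroup.coe_inv, Equiv.Perm.coe_inv,
      Equiv.symm_apply_apply]
  have hφ3x : φ3 x = x ^ (k * 3 ^ i.val % 11) := by
    rw [hφ3, MulAut.mul_apply, hφ2x, MulAut.conj_apply, ha3, inv_inv]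
    rw [((Commute.refl x).pow_pow j.val _).inv_left.eq, mul_assoc, inv_mul_cancel, mul_one]
  have horb : ∀ m : ℕ, σ3 ((x ^ m : Spor.M11).1 (pt 1)) =
      (x ^ ((k * 3 ^ i.val % 11) * m % 11) : Spor.M11).1 (pt 1) := by
    intro m
    rw [← hσ3.2.2 _ _ (pt_mem_D (by norm_num)), map_pow, hφ3x, ← pow_mul, h31,
      ← pow_mod_orderOf x (_ * m), hxo]
  have hpts : ∀ p ∈ Spor.squareDodecad, p = some 0 ∨
      ∃ m : Fin 11, (x ^ m.val : Spor.M11).1 (pt 1) = p := by
    intro p hp
    by_cases h0 : p = some 0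
    · exact Or.inl h0
    obtain ⟨m, hm⟩ := hd ⟨idx p, idx_lt _⟩ (mem_D_iff.1 hp) fun h => h0 (by
      rw [← pt_zero, ← pt_idx p]; exact congrArg pt h)
    exact Or.inr ⟨m, by rw [SubmonoidClass.coe_pow, (tx.pow m.val).apply_pt (by norm_num) hm, pt_idx]⟩
  have hfin : φ3 = 1 := by
    rcases hi with hi | hi
    · have hid : ∀ p ∈ Spor.squareDodecad, σ3 p = p := by
        intro p hp
        rcases hpts p hp with rfl | ⟨m, rfl⟩
        · exact hσ3.2.1
        · rw [horb, hi, one_mul, Nat.mod_eq_of_lt m.isLt]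
      refine MulEquiv.ext fun g => Subtype.ext
        (eq12_of_D (mem_M12_of_mem_M11 (φ3 g).2) (mem_M12_of_mem_M11 g.2) fun p hp => ?_)
      have := hσ3.2.2 g p hp
      rw [hid p hp, hid _ ((apply_mem_D (mem_M12_of_mem_M11 g.2) p).2 hp)] at this
      exact this
    · exfalso
      obtain ⟨⟨hrp, hrr, hr0⟩, hrefl, hmap, ⟨hb1, hb2⟩, ⟨hn1', hn2'⟩, him, him5⟩ := refl_facts
      set r := permOf reflTab hrp with hr
      have tr : Tab r reflTab := tab_permOf _
      have hrs : r * r = 1 := tab_unique (hrr ▸ tr.mul tr) tab_one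
      have hσr : ∀ p ∈ Spor.squareDodecad, σ3 p = r p := by
        intro p hp
        rcases hpts p hp with rfl | ⟨m, rfl⟩
        · rw [hσ3.2.1, ← pt_zero, tr.apply_pt (by norm_num) hr0]
        · have t1 := (tx.pow m.val)
          rw [horb, hi, SubmonoidClass.coe_pow, SubmonoidClass.coe_pow,
            (tx.pow _).apply_pt (by norm_num) (hrefl m).symm, (tx.pow m.val).apply_pt (by norm_num) rfl,
            tr.apply, idx_pt ((tx.pow m.val).lt (by norm_num))]
      set h := (φ3 ⟨ye, hye⟩).1 with hh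
      have tz : Tab (r * (ye * r)) twistTab := tr.mul (ty.mul tr)
      have hagree : ∀ q ∈ Spor.squareDodecad, h q = (r * (ye * r)) q := by
        intro q hq
        have hrq : r q ∈ Spor.squareDodecad := by
          rw [← hσr q hq]; exact (hσ3.1 q).2 hq
        have := hσ3.2.2 ⟨ye, hye⟩ (r q) hrq
        rw [hσr _ hrq, ← Equiv.Perm.mul_apply r r, hrs, Equiv.Perm.coe_one, id_eq,
          hσr _ ((apply_mem_D (mem_M12_of_mem_M11 hye) _).2 hrq)] at this
        exact this
      have hsub : toSet badImage ⊆ h • toSet badOctad := by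
        rw [← tz.smul_toSet hmap]
        intro q hq
        obtain ⟨p, hp, rfl⟩ := Finset.mem_smul_finset.1 hq
        rw [← toSet_inter, Finset.mem_inter, ← squareDodecad_eq] at hp
        rw [Equiv.Perm.smul_def, ← hagree p hp.2]
        exact Finset.smul_mem_smul_finset hp.1
      have hho : h • toSet badOctad ∈ octads :=
        smul_mem_octads (mem_M12_iff.1 (mem_M12_of_mem_M11 (φ3 _).2)).1
          (octad_mem_iff.2 ⟨_, hb1, hb2, rfl⟩)
      have heq := octad_unique hho (octad_mem_iff.2 ⟨_, hn1', hn2', rfl⟩)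
        (s := toSet (badImage &&& nearOctad)) (by rw [card_toSet, him5])
        (by rw [← toSet_inter]; exact Finset.inter_subset_left.trans hsub)
        (by rw [← toSet_inter]; exact Finset.inter_subset_right)
      rw [heq] at hsub
      have := congrArg Finset.card (Finset.inter_eq_left.2 hsub)
      rw [toSet_inter, card_toSet, card_toSet, him, him5] at this
      omega
  have hmul : φ = (MulAut.conj a3 * MulAut.conj (n ^ i.val) * MulAut.conj a)⁻¹ := by
    refine eq_inv_of_mul_eq_one_right ?_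
    rw [← hfin, hφ3, hφ2, mul_assoc, mul_assoc]
  rw [hmul]
  exact (Cfsg.Inn _).inv_mem ((Cfsg.Inn _).mul_mem ((Cfsg.Inn _).mul_mem ⟨a3, rfl⟩ ⟨_, rfl⟩) ⟨a, rfl⟩)

theorem card_Out_M11 : Nat.card (Cfsg.Out Spor.M11) = 1 := by
  rw [Cfsg.Out, ← Subgroup.index_eq_card, Subgroup.index_eq_one, eq_top_iff]
  exact fun φ _ => mem_Inn_M11 φ

/-- An element of M₂₄ exchanging the dodecad of squares and its complement. -/
noncomputable def exch : Equiv.Perm GolayPt := permOf exchTab exch_facts.1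

theorem exch_mem : exch ∈ M24 := (tab_permOf _).mem_M24 exch_facts.2.1

theorem exch_mem_D (p : GolayPt) : exch p ∈ Spor.squareDodecad ↔ p ∉ Spor.squareDodecad := by
  have := (tab_permOf exch_facts.1).mem_image_iff exch_facts.2.2 p
  rw [Nat.testBit_xor] at this
  have h := toSet_all (exch p)
  rw [mem_toSet] at h
  rw [show permOf exchTab exch_facts.1 = exch from rfl, h] at this
  rw [mem_D_iff, mem_D_iff]
  cases h1 : dMask.testBit (idx (exch p)) <;> cases h2 : dMask.testBit (idx p) <;> simp_all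

theorem exch_inv_mem_D (p : GolayPt) : exch⁻¹ p ∈ Spor.squareDodecad ↔ p ∉ Spor.squareDodecad := by
  have := exch_mem_D (exch⁻¹ p)
  rw [Equiv.Perm.coe_inv, Equiv.apply_symm_apply] at this
  rw [Equiv.Perm.coe_inv]
  exact iff_not_comm.1 this

theorem conj_exch_mem {g : Equiv.Perm GolayPt} (hg : g ∈ Spor.M12) :
    exch * g * exch⁻¹ ∈ Spor.M12 ∧ exch⁻¹ * g * exch ∈ Spor.M12 := by
  have key : ∀ h : Equiv.Perm GolayPt, h ∈ M24 →
      (∀ p, h p ∈ Spor.squareDodecad ↔ p ∈ Spor.squareDodecad) → h ∈ Spor.M12 := fun h h1 h2 =>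
    mem_M12_iff.2 ⟨h1, Finset.ext fun p => by
      rw [← Finset.inv_smul_mem_iff, Equiv.Perm.smul_def, ← h2 (h⁻¹ p), Equiv.Perm.coe_inv,
        Equiv.apply_symm_apply]⟩
  have hg24 := (mem_M12_iff.1 hg).1
  refine ⟨key _ (M24.mul_mem (M24.mul_mem exch_mem hg24) (M24.inv_mem exch_mem)) fun p => ?_,
    key _ (M24.mul_mem (M24.mul_mem (M24.inv_mem exch_mem) hg24) exch_mem) fun p => ?_⟩
  · rw [Equiv.Perm.mul_apply, Equiv.Perm.mul_apply, exch_mem_D, apply_mem_D hg, exch_inv_mem_D,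
      not_not]
  · rw [Equiv.Perm.mul_apply, Equiv.Perm.mul_apply, exch_inv_mem_D, apply_mem_D hg, exch_mem_D,
      not_not]

/-- Conjugation by `exch`, as an automorphism of M₁₂. -/
noncomputable def exchAut : MulAut Spor.M12 where
  toFun g := ⟨exch * g.1 * exch⁻¹, (conj_exch_mem g.2).1⟩
  invFun g := ⟨exch⁻¹ * g.1 * exch, (conj_exch_mem g.2).2⟩
  left_inv g := by ext1; simp only; group
  right_inv g := by ext1; simp only; group
  map_mul' a b := by ext1; simp only [Subgroup.coe_mul]; group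

theorem exchAut_apply (g : Spor.M12) : (exchAut g).1 = exch * g.1 * exch⁻¹ := rfl

theorem exists_map12_one {p q : GolayPt} (hp : p ∈ Spor.squareDodecad)
    (hq : q ∈ Spor.squareDodecad) : ∃ g ∈ Spor.M12, g p = q := by
  obtain ⟨g, hg, hgi⟩ := exists_map12' (n := 1) (by norm_num) (fun _ => p) (fun _ => q)
    (fun i j _ => Subsingleton.elim i j) (fun i j _ => Subsingleton.elim i j) (fun _ => hp) fun _ => hq
  exact ⟨g, hg, hgi 0⟩

theorem card_M11_stab_compl {q : GolayPt} (hq : q ∉ Spor.squareDodecad) :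
    Nat.card ↥(Spor.M11 ⊓ MulAction.stabilizer (Equiv.Perm GolayPt) q) = 660 := by
  have h := card_eq_orbF_mul Spor.M11 q
  have ho : orbF Spor.M11 q = Finset.univ \ Spor.squareDodecad := by
    ext r
    rw [mem_orbF, Finset.mem_sdiff]
    constructor
    · rintro ⟨g, hg, rfl⟩
      exact ⟨Finset.mem_univ _, fun h => hq ((apply_mem_D (mem_M12_of_mem_M11 hg) q).1 h)⟩
    · exact fun hr => exists_map_compl hq hr.2
  rw [card_M11, ho, Finset.card_sdiff_of_subset (Finset.subset_univ _), Finset.card_univ,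
    card_golayPt, card_squareDodecad] at h
  omega

theorem orbF_trichotomy {K : Subgroup (Equiv.Perm GolayPt)} (hK : K ≤ Spor.M12)
    (h11 : 11 ∣ Nat.card K) (S : Finset GolayPt)
    (hS : ∀ g ∈ Spor.M12, ∀ q, g q ∈ S ↔ q ∈ S) (hSc : S.card = 12) {q : GolayPt} (hq : q ∈ S) :
    (∃ r ∈ S, ∀ g ∈ K, g r = r) ∨ orbF K q = S := by
  classical
  have : Fact (Nat.Prime 11) := ⟨by norm_num⟩
  obtain ⟨⟨g, hg⟩, hgo⟩ := exists_prime_orderOf_dvd_card' (G := K) 11 h11
  rw [Subgroup.orderOf_mk] at hgo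
  have hg11 : g ^ 11 = 1 := by rw [← hgo, pow_orderOf_eq_one]
  have hg24 := (mem_M12_iff.1 (hK hg)).1
  have hfix := card_fixedPts_eleven hg24 hgo
  have hS' := card_modEq_fixed hg11 (S := S) (hS g (hK hg))
  have hsub : ∀ r ∈ S, orbF K r ⊆ S := by
    intro r hr t ht
    obtain ⟨h, hh, rfl⟩ := mem_orbF.1 ht
    exact (hS h (hK hh) r).2 hr
  have hfS : (S.filter fun r => g r = r).card ≤ 1 := by
    have h1 := card_modEq_fixed hg11 (S := Finset.univ \ S) fun r => by simp [hS g (hK hg)]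
    rw [Finset.card_sdiff_of_subset (Finset.subset_univ _), Finset.card_univ, card_golayPt, hSc,
      Nat.ModEq] at h1
    rw [hSc, Nat.ModEq] at hS'
    have h2 : (S.filter fun r => g r = r).card +
        ((Finset.univ \ S).filter fun r => g r = r).card = 2 := by
      rw [← hfix, ← Finset.card_union_of_disjoint]
      · congr 1
        ext r
        simp only [Finset.mem_union, Finset.mem_filter, Finset.mem_sdiff, Finset.mem_univ, true_and,
          mem_fixedPts]
        tauto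
      · exact Finset.disjoint_filter_filter Finset.disjoint_sdiff
    omega
  have hmod : ∀ r ∈ S, (orbF K r).card % 11 ≤ 1 := by
    intro r hr
    have hm := card_modEq_fixed hg11 (S := orbF K r) (orbF_invariant hg)
    have := Finset.card_le_card (Finset.filter_subset_filter (fun t => g t = t) (hsub r hr))
    rw [Nat.ModEq] at hm
    omega
  by_cases hfull : orbF K q = S
  · exact Or.inr hfull
  left
  have hlt := Finset.card_lt_card (Finset.ssubset_iff_subset_ne.2 ⟨hsub q hq, hfull⟩)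
  obtain ⟨r, hr, hr'⟩ := Finset.exists_mem_notMem_of_card_lt_card hlt
  have hu := Finset.card_le_card (Finset.union_subset (hsub q hq) (hsub r hr))
  rw [Finset.card_union_of_disjoint (orbF_disjoint hr'), hSc] at hu
  have hp1 := Finset.card_pos.2 ⟨q, self_mem_orbF K q⟩
  have hp2 := Finset.card_pos.2 ⟨r, self_mem_orbF K r⟩
  have := hmod q hq
  have := hmod r hr
  rw [hSc] at hlt
  rcases eq_or_ne (orbF K q).card 1 with h | h
  · exact ⟨q, hq, fixes_of_card_one h⟩
  · exact ⟨r, hr, fixes_of_card_one (by omega)⟩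

/-- A subgroup of order 7920 of M₁₂ fixes a point. -/
theorem exists_fixed_7920 {K : Subgroup (Equiv.Perm GolayPt)} (hK : K ≤ Spor.M12)
    (hc : Nat.card K = 7920) : ∃ p, ∀ g ∈ K, g p = p := by
  classical
  by_contra hcon
  push Not at hcon
  have hno : ∀ S : Finset GolayPt, ¬ ∃ r ∈ S, ∀ g ∈ K, g r = r := fun S ⟨r, _, hr⟩ => by
    obtain ⟨g, hg, hgr⟩ := hcon r
    exact hgr (hr g hg)
  have h11 : 11 ∣ Nat.card K := by rw [hc]; norm_num
  have hDc : ∀ g ∈ Spor.M12, ∀ q, g q ∈ Spor.squareDodecad ↔ q ∈ Spor.squareDodecad :=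
    fun g hg => apply_mem_D hg
  have hKD : orbF K (some 0) = Spor.squareDodecad :=
    (orbF_trichotomy hK h11 _ hDc card_squareDodecad zero_mem_D).resolve_left (hno _)
  set L := K ⊓ MulAction.stabilizer (Equiv.Perm GolayPt) (some 0 : GolayPt) with hL
  have hL11 : L ≤ Spor.M11 := fun g hg => mem_M11_iff.2 ⟨hK hg.1, hg.2⟩
  have hLc : Nat.card L = 660 := by
    have h := card_eq_orbF_mul K (some 0)
    rw [hc, hKD, card_squareDodecad] at h
    rw [hL]
    omega
  obtain ⟨q, hqC, hqL⟩ : ∃ q, q ∉ Spor.squareDodecad ∧ ∀ g ∈ L, g q = q := by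
    have hc5 : pt 5 ∈ Finset.univ \ Spor.squareDodecad := by decide +kernel
    rcases orbF_trichotomy (K := L) (hL11.trans fun g hg => mem_M12_of_mem_M11 hg)
        (by rw [hLc]; norm_num) (Finset.univ \ Spor.squareDodecad)
        (fun g hg r => by simp [apply_mem_D hg])
        (by rw [Finset.card_sdiff_of_subset (Finset.subset_univ _), Finset.card_univ, card_golayPt,
          card_squareDodecad]) hc5 with ⟨r, hr, hfix⟩ | htr
    · exact ⟨r, (Finset.mem_sdiff.1 hr).2, hfix⟩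
    exfalso
    have : Fact (Nat.Prime 3) := ⟨Nat.prime_three⟩
    obtain ⟨⟨g, hg⟩, hgo⟩ := exists_prime_orderOf_dvd_card' (G := L) 3 (by rw [hLc]; norm_num)
    rw [Subgroup.orderOf_mk] at hgo
    obtain ⟨r, hrC, hgr⟩ := exists_fixed_compl (hL11 hg) (by rw [hgo]; norm_num)
    have hrorb : r ∈ orbF L (pt 5) := htr.ge (Finset.mem_sdiff.2 ⟨Finset.mem_univ _, hrC⟩)
    obtain ⟨e, he, her⟩ := mem_orbF.1 hrorb
    have h := card_eq_orbF_mul L (pt 5)
    rw [hLc, htr, Finset.card_sdiff_of_subset (Finset.subset_univ _), Finset.card_univ, card_golayPt,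
      card_squareDodecad] at h
    have hmem : e⁻¹ * g * e ∈ L ⊓ MulAction.stabilizer (Equiv.Perm GolayPt) (pt 5) := by
      refine ⟨L.mul_mem (L.mul_mem (L.inv_mem he) hg) he, ?_⟩
      show (e⁻¹ * g * e) (pt 5) = pt 5
      rw [Equiv.Perm.mul_apply,
        Equiv.Perm.mul_apply, her, hgr, Equiv.Perm.coe_inv, Equiv.symm_apply_eq, her]
    have hd := orderOf_dvd_natCard (⟨_, hmem⟩ : ↥(L ⊓ MulAction.stabilizer (Equiv.Perm GolayPt) (pt 5)))
    rw [Subgroup.orderOf_mk, show e⁻¹ * g * e = MulAut.conj e⁻¹ g by simp,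
      MulEquiv.orderOf_eq, hgo] at hd
    omega
  have hLeq : L = Spor.M11 ⊓ MulAction.stabilizer (Equiv.Perm GolayPt) q :=
    Subgroup.eq_of_le_of_card_ge (le_inf hL11 fun g hg => hqL g hg)
      (by rw [card_M11_stab_compl hqC, hLc])
  obtain ⟨a, ha, haq⟩ := exists_map_compl hqC (show pt 5 ∉ Spor.squareDodecad by
    rw [mem_D_iff, idx_pt (by norm_num), two_point_facts.2.2]; exact Bool.false_ne_true)
  have ha12 := mem_M12_of_mem_M11 ha
  set p' := a⁻¹ (pt 1) with hp'
  have hp'D : p' ∈ Spor.squareDodecad :=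
    (apply_mem_D (Spor.M12.inv_mem ha12) _).2 (pt_mem_D (by norm_num))
  obtain ⟨k, hk, hkp⟩ := mem_orbF.1 (hKD.symm ▸ hp'D : p' ∈ orbF K (some 0))
  have hKC : orbF K q = Finset.univ \ Spor.squareDodecad :=
    (orbF_trichotomy hK h11 _ (fun g hg r => by simp [apply_mem_D hg])
      (by rw [Finset.card_sdiff_of_subset (Finset.subset_univ _), Finset.card_univ, card_golayPt,
        card_squareDodecad]) (Finset.mem_sdiff.2 ⟨Finset.mem_univ _, hqC⟩)).resolve_left (hno _)
  have hLq : L = K ⊓ MulAction.stabilizer (Equiv.Perm GolayPt) q := by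
    refine Subgroup.eq_of_le_of_card_ge (le_inf inf_le_left fun g hg => hqL g hg) ?_
    have h := card_eq_orbF_mul K q
    rw [hc, hKC, Finset.card_sdiff_of_subset (Finset.subset_univ _), Finset.card_univ, card_golayPt,
      card_squareDodecad] at h
    omega
  have hp'0 : p' ≠ some 0 := by
    intro e
    rw [hp', Equiv.Perm.coe_inv, Equiv.symm_apply_eq, apply_zero_M11 ha, ← pt_zero] at e
    exact absurd (pt_inj (by norm_num) (by norm_num) e) (by norm_num)
  have hkq : k q ≠ q := fun h => hp'0 (by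
    have hkL : k ∈ L := hLq.ge ⟨hk, h⟩
    exact hkp.symm.trans hkL.2)
  apply hkq
  obtain ⟨htabs, hcommon, -⟩ := two_point_facts
  have hfixt : ∀ l ∈ twoPointTabs, l.getD (idx (a (k q))) 0 = idx (a (k q)) := by
    intro l hl
    have h := List.all_eq_true.1 htabs l hl
    simp only [Bool.and_eq_true, beq_iff_eq] at h
    obtain ⟨t, ht, tt⟩ := exists_M11 h.1.1
    have t5 : t (pt 5) = pt 5 := tt.apply_pt (by norm_num) h.1.2
    have t1 : t (pt 1) = pt 1 := tt.apply_pt (by norm_num) h.2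
    set u := a⁻¹ * t * a with hu
    have hu11 : u ∈ Spor.M11 := Spor.M11.mul_mem (Spor.M11.mul_mem (Spor.M11.inv_mem ha) ht) ha
    have huq : u q = q := by
      rw [hu, Equiv.Perm.mul_apply, Equiv.Perm.mul_apply, haq, t5, Equiv.Perm.coe_inv,
        Equiv.symm_apply_eq, haq]
    have hup : u p' = p' := by
      rw [hu, hp', Equiv.Perm.mul_apply, Equiv.Perm.mul_apply, Equiv.Perm.coe_inv,
        Equiv.apply_symm_apply, t1]
    have huK : u ∈ K := (hLeq.ge ⟨hu11, huq⟩).1
    have hmem : k⁻¹ * u * k ∈ L := ⟨K.mul_mem (K.mul_mem (K.inv_mem hk) huK) hk, by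
      show (k⁻¹ * u * k) (some 0) = some 0
      rw [Equiv.Perm.mul_apply, Equiv.Perm.mul_apply, hkp, hup, Equiv.Perm.coe_inv,
        Equiv.symm_apply_eq, hkp]⟩
    have h2 := hqL _ hmem
    rw [Equiv.Perm.mul_apply, Equiv.Perm.mul_apply, Equiv.Perm.coe_inv, Equiv.symm_apply_eq, hu,
      Equiv.Perm.mul_apply, Equiv.Perm.mul_apply, Equiv.Perm.coe_inv, Equiv.symm_apply_eq] at h2
    rw [← tt _ (idx_lt _), pt_idx, h2]
  have hkqC : k q ∉ Spor.squareDodecad := fun h => hqC ((apply_mem_D (hK hk) q).1 h)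
  have hc5 := hcommon ⟨idx (a (k q)), idx_lt _⟩ (by
    rw [← Bool.not_eq_true, ← mem_D_iff, apply_mem_D ha12]; exact hkqC) hfixt
  apply a.injective
  rw [haq, ← pt_idx (a (k q))]
  exact congrArg pt hc5

theorem card_M12_stab {p : GolayPt} (hp : p ∈ Spor.squareDodecad) :
    Nat.card ↥(Spor.M12 ⊓ MulAction.stabilizer (Equiv.Perm GolayPt) p) = 7920 := by
  have h := card_eq_orbF_mul Spor.M12 p
  have ho : orbF Spor.M12 p = Spor.squareDodecad := by
    ext r
    rw [mem_orbF]
    constructor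
    · rintro ⟨g, hg, rfl⟩
      exact (apply_mem_D hg p).2 hp
    · exact exists_map12_one hp
  rw [card_M12, ho, card_squareDodecad] at h
  omega

/-- An automorphism of M₁₂ mapping M₁₁ into itself is inner. -/
theorem mem_Inn_M12_of_M11 (φ : MulAut Spor.M12)
    (hφ : ∀ g : Spor.M12, g.1 (some 0) = some 0 ↔ (φ g).1 (some 0) = some 0) :
    φ ∈ Cfsg.Inn Spor.M12 := by
  let ι : Spor.M11 → Spor.M12 := fun g => ⟨g.1, mem_M12_of_mem_M11 g.2⟩
  let ψ : MulAut Spor.M11 :=
    { toFun := fun g => ⟨(φ (ι g)).1, mem_M11_iff.2 ⟨(φ (ι g)).2, (hφ (ι g)).1 (apply_zero_M11 g.2)⟩⟩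
      invFun := fun g => ⟨(φ.symm (ι g)).1, mem_M11_iff.2 ⟨(φ.symm (ι g)).2, (hφ _).2 (by
        rw [MulEquiv.apply_symm_apply]; exact apply_zero_M11 g.2)⟩⟩
      left_inv := fun g => Subtype.ext (congrArg Subtype.val (φ.symm_apply_apply (ι g)) : _)
      right_inv := fun g => Subtype.ext (congrArg Subtype.val (φ.apply_symm_apply (ι g)) : _)
      map_mul' := fun g h => Subtype.ext (congrArg Subtype.val (map_mul φ (ι g) (ι h)) : _) }
  obtain ⟨b, hb⟩ := mem_Inn_M11 ψ
  set b' : Spor.M12 := ι b with hb'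
  set φ' := (MulAut.conj b')⁻¹ * φ with hφ'
  have hfix : ∀ g : Spor.M11, φ' (ι g) = ι g := by
    intro g
    rw [hφ', MulAut.mul_apply, MulAut.inv_def, MulEquiv.symm_apply_eq]
    exact Subtype.ext (congrArg Subtype.val (DFunLike.congr_fun hb g) : _).symm
  have h0 : ∀ g : Spor.M12, g.1 (some 0) = some 0 → (φ' g).1 (some 0) = some 0 := by
    intro g hg
    have : g = ι ⟨g.1, mem_M11_iff.2 ⟨g.2, hg⟩⟩ := rfl
    rw [this, hfix]
    exact hg
  have h0' : ∀ g : Spor.M12, (φ' g).1 (some 0) = some 0 → g.1 (some 0) = some 0 := by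
    intro g hg
    have h1 : φ' g = φ' (ι ⟨(φ' g).1, mem_M11_iff.2 ⟨(φ' g).2, hg⟩⟩) := by rw [hfix]
    rw [φ'.injective h1]
    exact hg
  have hzero : ∀ g : Spor.M12, (φ' g).1 (some 0) = g.1 (some 0) := by
    intro g
    by_cases hg : g.1 (some 0) = some 0
    · rw [h0 g hg, hg]
    have hp : g.1 (some 0) ∈ Spor.squareDodecad.erase (some 0) :=
      Finset.mem_erase.2 ⟨hg, (apply_mem_D g.2 _).2 zero_mem_D⟩
    have hq : (φ' g).1 (some 0) ∈ Spor.squareDodecad.erase (some 0) :=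
      Finset.mem_erase.2 ⟨fun h => hg (h0' g h), (apply_mem_D (φ' g).2 _).2 zero_mem_D⟩
    refine (stab_det11 hp hq fun h hh hhp => ?_).symm
    have h1 := h0 (g⁻¹ * ι ⟨h, hh⟩ * g) (by
      simp only [ι, Subgroup.coe_mul, Subgroup.coe_inv, Equiv.Perm.mul_apply, Equiv.Perm.coe_inv,
        Equiv.symm_apply_eq, hhp])
    rw [map_mul, map_mul, map_inv, hfix] at h1
    simp only [ι, Subgroup.coe_mul, Subgroup.coe_inv, Equiv.Perm.mul_apply,
      Equiv.Perm.coe_inv, Equiv.symm_apply_eq] at h1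
    exact h1
  have hid : φ' = 1 := by
    refine MulEquiv.ext fun g => Subtype.ext (eq12_of_D (φ' g).2 g.2 fun p hp => ?_)
    obtain ⟨h, hh, rfl⟩ := exists_map12_one zero_mem_D hp
    have := hzero (g * ⟨h, hh⟩)
    rw [map_mul, Subgroup.coe_mul, Subgroup.coe_mul, Equiv.Perm.mul_apply, Equiv.Perm.mul_apply,
      hzero ⟨h, hh⟩] at this
    exact this
  rw [show φ = MulAut.conj b' * φ' by rw [hφ', mul_inv_cancel_left], hid, mul_one]
  exact ⟨b', rfl⟩

theorem exists_fixed_image (φ : MulAut Spor.M12) :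
    ∃ p, ∀ g : Spor.M12, g.1 (some 0) = some 0 → (φ g).1 p = p := by
  set K : Subgroup (Equiv.Perm GolayPt) :=
    ((Spor.M11.subgroupOf Spor.M12).map φ.toMonoidHom).map Spor.M12.subtype with hK
  obtain ⟨p, hp⟩ := exists_fixed_7920 (K := K) (Subgroup.map_subtype_le _) (by
    rw [hK, Subgroup.card_map_of_injective Spor.M12.subtype_injective,
      Subgroup.card_map_of_injective φ.injective,
      Nat.card_congr (Subgroup.subgroupOfEquivOfLe fun g hg => mem_M12_of_mem_M11 hg).toEquiv,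
      card_M11])
  exact ⟨p, fun g hg => hp _ ⟨φ g, ⟨g, mem_M11_iff.2 ⟨g.2, hg⟩, rfl⟩, rfl⟩⟩

/-- An automorphism of M₁₂ under which M₁₁ fixes a point of the dodecad is inner. -/
theorem mem_Inn_M12_of_fixed (φ : MulAut Spor.M12) {p : GolayPt} (hp : p ∈ Spor.squareDodecad)
    (hfix : ∀ g : Spor.M12, g.1 (some 0) = some 0 → (φ g).1 p = p) : φ ∈ Cfsg.Inn Spor.M12 := by
  obtain ⟨a, ha, hap⟩ := exists_map12_one hp zero_mem_D
  set φ' := MulAut.conj (⟨a, ha⟩ : Spor.M12) * φ with hφ'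
  have h1 : ∀ g : Spor.M12, g.1 (some 0) = some 0 → (φ' g).1 (some 0) = some 0 := by
    intro g hg
    simp only [hφ', MulAut.mul_apply, MulAut.conj_apply, Subgroup.coe_mul, Subgroup.coe_inv,
      Equiv.Perm.mul_apply, Equiv.Perm.coe_inv]
    rw [← hap, Equiv.symm_apply_apply, hfix g hg]
  suffices h : φ' ∈ Cfsg.Inn Spor.M12 by
    rw [show φ = (MulAut.conj (⟨a, ha⟩ : Spor.M12))⁻¹ * φ' by rw [hφ', inv_mul_cancel_left]]
    exact (Cfsg.Inn _).mul_mem ((Cfsg.Inn _).inv_mem ⟨_, rfl⟩) h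
  refine mem_Inn_M12_of_M11 φ' fun g => ⟨h1 g, fun hg => ?_⟩
  have heq : (Spor.M11.subgroupOf Spor.M12).map φ'.toMonoidHom = Spor.M11.subgroupOf Spor.M12 := by
    refine Subgroup.eq_of_le_of_card_ge ?_ (by rw [Subgroup.card_map_of_injective φ'.injective])
    rintro _ ⟨h, hh, rfl⟩
    exact mem_M11_iff.2 ⟨(φ' h).2, h1 h (apply_zero_M11 hh)⟩
  obtain ⟨h, hh, hhg⟩ := heq.ge (show φ' g ∈ Spor.M11.subgroupOf Spor.M12 from
    mem_M11_iff.2 ⟨(φ' g).2, hg⟩)
  rw [← φ'.injective hhg]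
  exact apply_zero_M11 hh

theorem card_Out_M12 : Nat.card (Cfsg.Out Spor.M12) = 2 := by
  have hnot : exchAut ∉ Cfsg.Inn Spor.M12 := by
    rintro ⟨⟨a, ha⟩, e⟩
    have hz : exch⁻¹ (a (some 0)) ∉ Spor.squareDodecad := fun h =>
      (exch_inv_mem_D _).1 h ((apply_mem_D ha _).2 zero_mem_D)
    obtain ⟨r, hr, hne⟩ : ∃ r, r ∉ Spor.squareDodecad ∧ r ≠ exch⁻¹ (a (some 0)) := by
      by_cases h : exch⁻¹ (a (some 0)) = pt 5
      · exact ⟨pt 7, by decide +kernel, h ▸ by decide +kernel⟩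
      · exact ⟨pt 5, by decide +kernel, Ne.symm h⟩
    obtain ⟨g, hg, hgr⟩ := exists_map_compl hz hr
    refine hne (hgr.symm.trans ?_)
    have h1 : a * g * a⁻¹ = exch * g * exch⁻¹ :=
      congrArg Subtype.val (DFunLike.congr_fun e (⟨g, mem_M12_of_mem_M11 hg⟩ : Spor.M12))
    have h2 := DFunLike.congr_fun h1 (a (some 0))
    simp only [Equiv.Perm.mul_apply, Equiv.Perm.coe_inv, Equiv.symm_apply_apply,
      apply_zero_M11 hg] at h2
    rw [Equiv.Perm.coe_inv]
    exact ((Equiv.symm_apply_eq _).2 h2).symm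
  have hcover : ∀ φ : MulAut Spor.M12,
      φ ∈ Cfsg.Inn Spor.M12 ∨ φ * exchAut ∈ Cfsg.Inn Spor.M12 := by
    intro φ
    obtain ⟨p, hp⟩ := exists_fixed_image φ
    by_cases hpD : p ∈ Spor.squareDodecad
    · exact Or.inl (mem_Inn_M12_of_fixed φ hpD hp)
    · refine Or.inr ?_
      have h := mem_Inn_M12_of_fixed (exchAut * φ) ((exch_mem_D p).2 hpD) fun g hg => by
        rw [MulAut.mul_apply, exchAut_apply, Equiv.Perm.mul_apply, Equiv.Perm.mul_apply,
          Equiv.Perm.coe_inv, Equiv.symm_apply_apply, hp g hg]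
      exact (innNormal Spor.M12).mem_comm h
  rw [Cfsg.Out, ← Subgroup.index_eq_card, Subgroup.index_eq_two_iff]
  refine ⟨exchAut, fun φ => ?_⟩
  rcases hcover φ with h | h
  · exact Or.inr ⟨h, fun h' => hnot (((Cfsg.Inn _).mul_mem_cancel_left h).1 h')⟩
  · refine Or.inl ⟨h, fun h' => hnot (((Cfsg.Inn _).mul_mem_cancel_left h').1 h)⟩

end Cfsg.Agent.Golay
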