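import Cfsg.Agent.Lib.Golay.Involutions
import Mathlib.GroupTheory.GroupAction.Quotient
import Mathlib.LinearAlgebra.Dimension.Constructions
import Mathlib.LinearAlgebra.FiniteDimensional.Basic

/-!
Generation of `M₂₃` by pairs of elements of prime order: a checkable certificate for generation,
and Scott's bound on the ranks of `1 - x`, `1 - y`, `1 - xy` in the permutation module.
-/

set_option autoImplicit false

namespace Cfsg.Agent.Golay

open scoped Pointwise

/-- `M₂₃` is generated by elements of orders `p`, `q`, `r` with product 1. -/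
def GenTriple (p q r : ℕ) : Prop :=
  ∃ x y z : Spor.M23, orderOf x = p ∧ orderOf y = q ∧ orderOf z = r ∧ x * y * z = 1 ∧
    Subgroup.closure {x, y} = ⊤

/-- Two tables and a straight-line program in them reaching the generators of `M₂₃`. -/
structure Wit where
  /-- first table -/
  x : List ℕ
  /-- second table -/
  y : List ℕ
  /-- program -/
  prog : List (ℕ × ℕ)
  /-- position of the shift -/
  i : ℕ
  /-- position of its conjugate -/
  j : ℕ

/-- A table of an element of order `p` of `M₂₃`. -/
def checkElt (p : ℕ) (l : List ℕ) : Bool :=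
  isPermTab l && checkAut l && (l.getD 23 0 == 23) &&
    ((l.getD 1 0 != 1) || (l.getD 2 0 != 2)) && (powTab l p == idTab)

/-- The certificate test. -/
def Wit.check (w : Wit) (p q r : ℕ) : Bool :=
  checkElt p w.x && checkElt q w.y && checkElt r (comp w.x w.y) &&
    ((evalSLP [w.x, w.y] w.prog).getD w.i idTab == shiftTab) &&
    ((evalSLP [w.x, w.y] w.prog).getD w.j idTab == conjTab)

theorem checkElt_sound {p : ℕ} (hp : p.Prime) {l : List ℕ} (h : checkElt p l = true) :
    ∃ g ∈ Spor.M23, Tab g l ∧ orderOf g = p := by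
  simp only [checkElt, Bool.and_eq_true, beq_iff_eq, Bool.or_eq_true, bne_iff_ne] at h
  obtain ⟨⟨⟨⟨h1, h2⟩, h3⟩, h4⟩, h5⟩ := h
  have t := tab_permOf h1
  refine ⟨_, ⟨t.mem_M24 h2, ?_⟩, t, t.orderOf_eq hp h4 h5⟩
  show permOf l h1 none = none
  rw [t.apply, show idx none = 23 from rfl, h3]
  rfl

theorem Wit.sound (w : Wit) {p q r : ℕ} (hp : p.Prime) (hq : q.Prime) (hr : r.Prime)
    (h : w.check p q r = true) : GenTriple p q r := by
  simp only [Wit.check, Bool.and_eq_true, beq_iff_eq] at h
  obtain ⟨⟨⟨⟨h1, h2⟩, h3⟩, h4⟩, h5⟩ := h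
  obtain ⟨a, ha, hta, hao⟩ := checkElt_sound hp h1
  obtain ⟨b, hb, htb, hbo⟩ := checkElt_sound hq h2
  obtain ⟨c, hc, htc, hco⟩ := checkElt_sound hr h3
  obtain rfl : c = a * b := tab_unique htc (hta.mul htb)
  refine ⟨⟨a, ha⟩, ⟨b, hb⟩, ⟨_, hc⟩⁻¹, by rw [Subgroup.orderOf_mk, hao],
    by rw [Subgroup.orderOf_mk, hbo], by rw [orderOf_inv, Subgroup.orderOf_mk, hco], ?_, ?_⟩
  · exact mul_inv_cancel _
  · apply Subgroup.map_injective (f := Spor.M23.subtype) Subtype.val_injective
    rw [MonoidHom.map_closure, Set.image_pair, ← MonoidHom.range_eq_map, Subgroup.range_subtype]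
    simp only [Subgroup.coe_subtype]
    refine le_antisymm ((Subgroup.closure_le _).2 ?_) ?_
    · rintro g (rfl | rfl) <;> assumption
    · have hmem : ∀ k, ∃ g ∈ Subgroup.closure ({a, b} : Set (Equiv.Perm GolayPt)),
          Tab g ((evalSLP [w.x, w.y] w.prog).getD k idTab) := by
        refine evalSLP_mem _ _ _ ?_
        intro l hl
        simp only [List.mem_cons, List.not_mem_nil, or_false] at hl
        rcases hl with rfl | rfl
        · exact ⟨a, Subgroup.subset_closure (by simp), hta⟩
        · exact ⟨b, Subgroup.subset_closure (by simp), htb⟩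
      obtain ⟨g1, hg1, t1⟩ := hmem w.i
      obtain ⟨g2, hg2, t2⟩ := hmem w.j
      rw [h4] at t1
      rw [h5] at t2
      rw [← M23_eq_closure, Subgroup.closure_le]
      rintro g (rfl | rfl)
      · rw [← tab_unique t1 tab_shift]; exact hg1
      · have e : conjShift = g2 := tab_unique (tab_permOf _) t2
        rw [e]; exact hg2

/-- An element of order three of `M₂₃` fixes six of the 24 points. -/
theorem card_fixedPts_three {g : Equiv.Perm GolayPt} (hg : g ∈ Spor.M23) (ho : orderOf g = 3) :
    (fixedPts g).card = 6 := by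
  classical
  have : Fact (Nat.Prime 3) := ⟨by norm_num⟩
  obtain ⟨hgM, hg0⟩ := hg
  have hne : g ≠ 1 := fun h => by rw [h, orderOf_one] at ho; omega
  have hp : g ^ 3 = 1 := ho ▸ pow_orderOf_eq_one g
  have hle := card_fixedPts_le hgM hne
  have hmod : 24 ≡ (fixedPts g).card [MOD 3] := by
    have := card_modEq_fixed hp (S := Finset.univ) (by simp)
    rwa [Finset.card_univ, card_golayPt] at this
  have hpos : 0 < (fixedPts g).card := Finset.card_pos.2 ⟨none, mem_fixedPts.2 hg0⟩
  rw [Nat.ModEq] at hmod
  rcases (show (fixedPts g).card = 3 ∨ (fixedPts g).card = 6 by omega) with h3 | h6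
  swap
  · exact h6
  exfalso
  obtain ⟨u, v, w, huv, huw, hvw, hF⟩ := Finset.card_eq_three.1 h3
  have hu : g u = u := mem_fixedPts.1 (by rw [hF]; simp)
  have hv : g v = v := mem_fixedPts.1 (by rw [hF]; simp)
  have happ : ∀ q, g (g (g q)) = q := fun q => by
    rw [← Equiv.Perm.mul_apply, ← Equiv.Perm.mul_apply]
    have : g * g * g = 1 := by rw [← hp, pow_succ, pow_two]
    rw [this]; rfl
  let s : GolayPt → Finset GolayPt := fun q => {u, v, q, g q, g (g q)}
  have hs : ∀ q, g q ≠ q → (s q).card = 5 := by
    intro q hq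
    have h2 : g (g q) ≠ q := fun e => hq (by simpa [e] using congrArg g e |>.symm.trans (happ q))
    have hfix : ∀ z, g z = z → z ≠ q ∧ z ≠ g q ∧ z ≠ g (g q) := fun z hz =>
      ⟨fun e => hq (e ▸ hz), fun e => hq (g.injective (e ▸ hz)),
        fun e => hq (g.injective (g.injective (e ▸ hz)))⟩
    obtain ⟨a1, a2, a3⟩ := hfix u hu
    obtain ⟨b1, b2, b3⟩ := hfix v hv
    have a4 : q ≠ g (g q) := fun e => h2 e.symm
    have a5 : g q ≠ g (g q) := fun e => hq (g.injective e).symm
    simp [s, huv, a1, a2, a3, b1, b2, b3, a4, a5, Ne.symm hq]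
  let Fc : Finset GolayPt := Finset.univ \ fixedPts g
  have hFc : ∀ q, q ∈ Fc ↔ g q ≠ q := fun q => by simp [Fc]
  have hex : ∀ q, ∃ o, g q ≠ q → o ∈ octads ∧ s q ⊆ o := fun q => by
    by_cases hq : g q = q
    · exact ⟨∅, fun h => absurd hq h⟩
    · obtain ⟨o, ho, hso⟩ := exists_octad (hs q hq)
      exact ⟨o, fun _ => ⟨ho, hso⟩⟩
  choose O hO using hex
  have hinv : ∀ q, g q ≠ q → ∀ z, g z ∈ O q ↔ z ∈ O q := by
    intro q hq z
    obtain ⟨hoct, hsub⟩ := hO q hq
    have hgs : g • s q = s q := by
      ext z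
      simp only [s, Finset.mem_smul_finset, Finset.mem_insert, Finset.mem_singleton,
        Equiv.Perm.smul_def]
      constructor
      · rintro ⟨y, (rfl | rfl | rfl | rfl | rfl), rfl⟩ <;> simp [hu, hv, happ]
      · rintro (rfl | rfl | rfl | rfl | rfl)
        · exact ⟨z, by simp, hu⟩
        · exact ⟨z, by simp, hv⟩
        · exact ⟨g (g z), by simp, happ z⟩
        · exact ⟨q, by simp, rfl⟩
        · exact ⟨g q, by simp, rfl⟩
    have he : g • O q = O q :=
      octad_unique (smul_mem_octads hgM hoct) hoct (s := s q) (by rw [hs q hq])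
        (by rw [← hgs]; exact Finset.smul_finset_subset_smul_finset hsub) hsub
    exact apply_mem_iff_of_smul_eq he z
  have hfib : ∀ q, g q ≠ q → (Fc.filter fun z => O z = O q).card = 6 := by
    intro q hq
    obtain ⟨hoct, hsub⟩ := hO q hq
    have e : (Fc.filter fun z => O z = O q) = (O q).filter fun z => ¬ g z = z := by
      ext z
      simp only [Finset.mem_filter, hFc]
      constructor
      · rintro ⟨hz, e⟩
        exact ⟨e ▸ (hO z hz).2 (by simp [s]), hz⟩
      · rintro ⟨hzO, hz⟩
        refine ⟨hz, ?_⟩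
        refine octad_unique (hO z hz).1 hoct (s := s z) (by rw [hs z hz]) (hO z hz).2 ?_
        intro y hy
        simp only [s, Finset.mem_insert, Finset.mem_singleton] at hy
        rcases hy with rfl | rfl | rfl | rfl | rfl
        · exact hsub (by simp [s])
        · exact hsub (by simp [s])
        · exact hzO
        · exact (hinv q hq _).2 hzO
        · exact (hinv q hq _).2 ((hinv q hq _).2 hzO)
    rw [e]
    have h8 := card_of_mem_octads hoct
    have hm := card_modEq_fixed hp (S := O q) (hinv q hq)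
    have hsplit := Finset.card_filter_add_card_filter_not (s := O q) (fun z => g z = z)
    have h2le : 2 ≤ ((O q).filter fun z => g z = z).card := by
      rw [← Finset.card_pair huv]
      refine Finset.card_le_card ?_
      intro z hz
      rw [Finset.mem_insert, Finset.mem_singleton] at hz
      rcases hz with rfl | rfl
      · exact Finset.mem_filter.2 ⟨hsub (by simp [s]), hu⟩
      · exact Finset.mem_filter.2 ⟨hsub (by simp [s]), hv⟩
    have h3le : ((O q).filter fun z => g z = z).card ≤ 3 := by
      rw [← h3]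
      exact Finset.card_le_card fun z hz => mem_fixedPts.2 (Finset.mem_filter.1 hz).2
    rw [h8, Nat.ModEq] at hm
    omega
  have htot : Fc.card = (Fc.image O).card * 6 := by
    rw [Finset.card_eq_sum_card_image O Fc]
    refine (Finset.sum_const_nat fun o ho => ?_)
    obtain ⟨q, hq, rfl⟩ := Finset.mem_image.1 ho
    exact hfib q ((hFc q).1 hq)
  rw [Finset.card_univ_diff, card_golayPt, h3] at htot
  omega

/-- An involution of `M₂₃` fixes eight of the 24 points. -/
theorem card_fixedPts_two {g : Equiv.Perm GolayPt} (hg : g ∈ Spor.M23) (ho : orderOf g = 2) :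
    (fixedPts g).card = 8 := by
  rcases involution_classes.1 g hg.1 ho with h | h
  · exact card_of_mem_octads h
  · exact absurd hg.2 (h none)

/-- The action on functions. -/
noncomputable def permMap (σ : Equiv.Perm GolayPt) : (GolayPt → ℚ) →ₗ[ℚ] (GolayPt → ℚ) :=
  LinearMap.funLeft ℚ ℚ σ.symm

/-- `1 - σ` on functions. -/
noncomputable def moveMap (σ : Equiv.Perm GolayPt) : (GolayPt → ℚ) →ₗ[ℚ] (GolayPt → ℚ) :=
  LinearMap.id - permMap σ

theorem moveMap_apply (σ : Equiv.Perm GolayPt) (f : GolayPt → ℚ) (a : GolayPt) :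
    moveMap σ f a = f a - f (σ.symm a) := rfl

/-- `1 - σ` has rank at most 24 minus the number of cycles. -/
theorem finrank_moveMap_le {p : ℕ} (hp : p.Prime) {σ : Equiv.Perm GolayPt} (ho : orderOf σ = p) :
    p * Module.finrank ℚ (LinearMap.range (moveMap σ)) + (p - 1) * (fixedPts σ).card ≤
      (p - 1) * 24 := by
  classical
  have : Fact p.Prime := ⟨hp⟩
  set K := Subgroup.zpowers σ
  let Ω := Quotient (MulAction.orbitRel K GolayPt)
  have : Finite Ω := Quotient.finite _
  have := Fintype.ofFinite Ω
  let L : (Ω → ℚ) →ₗ[ℚ] (GolayPt → ℚ) := LinearMap.funLeft ℚ ℚ (Quotient.mk _)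
  have hinj : Function.Injective L := LinearMap.funLeft_injective_of_surjective _ _ _ Quotient.mk_surjective
  have hker : LinearMap.range L ≤ LinearMap.ker (moveMap σ) := by
    rintro _ ⟨f, rfl⟩
    rw [LinearMap.mem_ker]
    funext a
    rw [moveMap_apply, Pi.zero_apply, sub_eq_zero]
    refine congrArg f (Quotient.sound ?_)
    exact ⟨⟨σ, Subgroup.mem_zpowers σ⟩, Equiv.apply_symm_apply σ a⟩
  have h1 : Nat.card Ω ≤ Module.finrank ℚ (LinearMap.ker (moveMap σ)) := by
    have := Submodule.finrank_mono hker
    rwa [LinearMap.finrank_range_of_inj hinj, Module.finrank_fintype_fun_eq_card,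
      ← Nat.card_eq_fintype_card] at this
  have h2 := LinearMap.finrank_range_add_finrank_ker (moveMap σ)
  rw [Module.finrank_fintype_fun_eq_card, card_golayPt] at h2
  have hK : Fintype.card K = p := by
    rw [← Nat.card_eq_fintype_card, Nat.card_zpowers, ho]
  have hfix : ∀ k : K, k ≠ 1 →
      Fintype.card (MulAction.fixedBy GolayPt k) = (fixedPts σ).card := by
    rintro ⟨k, hk⟩ hk1
    rw [← mem_powers_iff_mem_zpowers, Submonoid.mem_powers_iff] at hk
    obtain ⟨n, rfl⟩ := hk
    have hne : σ ^ n ≠ 1 := fun e => hk1 (Subtype.ext e)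
    have hcop : Nat.Coprime n (orderOf σ) := by
      rw [ho, Nat.coprime_comm, hp.coprime_iff_not_dvd, ← ho]
      exact fun h => hne (orderOf_dvd_iff_pow_eq_one.1 h)
    obtain ⟨m, hm⟩ := exists_pow_eq_self_of_coprime hcop
    rw [← Set.toFinset_card]
    apply congrArg
    have e2 : fixedPts (σ ^ n) = fixedPts σ := Finset.Subset.antisymm
      ((fixedPts_subset_pow _ m).trans (by rw [hm])) (fixedPts_subset_pow σ n)
    rw [← e2]
    ext a
    rw [Set.mem_toFinset, MulAction.mem_fixedBy, mem_fixedPts]
    rfl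
  have hB := MulAction.sum_card_fixedBy_eq_card_orbits_mul_card_group K GolayPt
  rw [← Finset.sum_erase_add _ _ (Finset.mem_univ (1 : K)),
    Finset.sum_const_nat (m := (fixedPts σ).card) (fun k hk => hfix k (Finset.ne_of_mem_erase hk)),
    Finset.card_erase_of_mem (Finset.mem_univ _), Finset.card_univ, hK] at hB
  have h1' : Fintype.card (MulAction.fixedBy GolayPt (1 : K)) = 24 := by
    rw [← card_golayPt, ← Set.toFinset_card, ← Finset.card_univ]
    congr 1
  rw [h1', ← Nat.card_eq_fintype_card] at hB
  change (p - 1) * (fixedPts σ).card + 24 = Nat.card Ω * p at hB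
  have h3 : Nat.card Ω * p ≤ Module.finrank ℚ (LinearMap.ker (moveMap σ)) * p :=
    Nat.mul_le_mul_right p h1
  have hp1 : p - 1 + 1 = p := Nat.succ_pred_eq_of_pos hp.pos
  have h4 := congrArg (fun t => p * t) h2
  simp only [mul_add] at h4
  rw [mul_comm (Module.finrank ℚ (LinearMap.ker (moveMap σ))) p] at h3
  have h5 : p * 24 = (p - 1) * 24 + 24 := by rw [← Nat.succ_mul, Nat.succ_eq_add_one, hp1]
  omega

/-- The rank bound at each prime. -/
theorem finrank_moveMap_table {g : Equiv.Perm GolayPt} (hg : g ∈ Spor.M23) :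
    (orderOf g = 2 → Module.finrank ℚ (LinearMap.range (moveMap g)) ≤ 8) ∧
    (orderOf g = 3 → Module.finrank ℚ (LinearMap.range (moveMap g)) ≤ 12) ∧
    (orderOf g = 5 → Module.finrank ℚ (LinearMap.range (moveMap g)) ≤ 16) ∧
    (orderOf g = 7 → Module.finrank ℚ (LinearMap.range (moveMap g)) ≤ 18) ∧
    Module.finrank ℚ (LinearMap.range (moveMap g)) ≤ 22 := by
  refine ⟨fun h => ?_, fun h => ?_, fun h => ?_, fun h => ?_, ?_⟩
  · have := finrank_moveMap_le Nat.prime_two h
    rw [card_fixedPts_two hg h] at this; omega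
  · have := finrank_moveMap_le Nat.prime_three h
    rw [card_fixedPts_three hg h] at this; omega
  · have := finrank_moveMap_le Nat.prime_five h
    rw [card_fixedPts_five hg.1 h] at this; omega
  · have := finrank_moveMap_le (show Nat.Prime 7 by norm_num) h
    rw [card_fixedPts_seven hg.1 h] at this; omega
  · let L : (GolayPt → ℚ) →ₗ[ℚ] ℚ × ℚ :=
      (LinearMap.proj none).prod (∑ a : GolayPt, LinearMap.proj a)
    have hsub : LinearMap.range (moveMap g) ≤ LinearMap.ker L := by
      rintro _ ⟨f, rfl⟩
      rw [LinearMap.mem_ker]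
      have h0 : g.symm none = none := by rw [Equiv.symm_apply_eq]; exact hg.2.symm
      refine Prod.ext ?_ ?_
      · simp [L, moveMap_apply, h0]
      · show (∑ a : GolayPt, LinearMap.proj a : (GolayPt → ℚ) →ₗ[ℚ] ℚ) (moveMap g f) = 0
        simp only [LinearMap.sum_apply, LinearMap.proj_apply, moveMap_apply, Finset.sum_sub_distrib]
        rw [Equiv.sum_comp g.symm f, sub_self]
    have hsurj : Function.Surjective L := by
      rintro ⟨a, b⟩
      refine ⟨Pi.single none a + Pi.single (some 0) (b - a), ?_⟩
      simp [L, Finset.sum_add_distrib, Pi.single_apply]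
    have h2 := LinearMap.finrank_range_add_finrank_ker L
    rw [LinearMap.range_eq_top.2 hsurj, finrank_top, Module.finrank_prod, Module.finrank_self,
      Module.finrank_fintype_fun_eq_card, card_golayPt] at h2
    have := Submodule.finrank_mono hsub
    omega

/-- `M₂₃` is transitive on the residues. -/
theorem exists_map_zero (a : GolayPt) (ha : a ≠ none) : ∃ g ∈ Spor.M23, g (some 0) = a := by
  have hmem : ∀ b : GolayPt, b ≠ none → idx b ∈ orbN.getD 1 [] := by decide +kernel
  obtain ⟨h, hh, e⟩ := exists_transversal (i := 1) (by norm_num) (hmem a ha)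
  refine ⟨h, by rw [M23_eq]; exact hh, idx_injective ?_⟩
  rw [← e]
  rfl

/-- Scott's bound: three generators of `M₂₃` with product 1 have ranks summing to at least 44. -/
theorem scott_bound {x y z : Spor.M23} (hxyz : x * y * z = 1)
    (hgen : Subgroup.closure {x, y} = ⊤) :
    44 ≤ Module.finrank ℚ (LinearMap.range (moveMap x.1)) +
      (Module.finrank ℚ (LinearMap.range (moveMap y.1)) +
        Module.finrank ℚ (LinearMap.range (moveMap z.1))) := by
  classical
  have hprod : x.1 * y.1 * z.1 = 1 := by
    simpa using congrArg Subtype.val hxyz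
  have key : ∀ S : Set (Equiv.Perm GolayPt), x.1 ∈ S → y.1 ∈ S → 1 ∈ S →
      (∀ a b, a ∈ S → b ∈ S → a * b ∈ S) → ∀ g ∈ Spor.M23, g ∈ S := by
    intro S hx hy h1 hm g hg
    have hc : Subgroup.closure ({x.1, y.1} : Set (Equiv.Perm GolayPt)) = Spor.M23 := by
      have := congrArg (Subgroup.map Spor.M23.subtype) hgen
      rw [MonoidHom.map_closure, Set.image_pair, ← MonoidHom.range_eq_map,
        Subgroup.range_subtype] at this
      simpa using this
    rw [← hc, ← Subgroup.mem_toSubmonoid, Subgroup.closure_toSubmonoid_of_finite] at hg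
    refine Submonoid.closure_induction (motive := fun g _ => g ∈ S) ?_ h1 (fun a b _ _ => hm a b) hg
    rintro g (rfl | rfl) <;> assumption
  set Dx := moveMap x.1
  set Dy := moveMap y.1
  set Dz := moveMap z.1
  set W := LinearMap.range Dx ⊔ LinearMap.range Dy with hW
  have hstep : ∀ (w : Equiv.Perm GolayPt), LinearMap.range (moveMap w) ≤ W → ∀ a,
      (Pi.single a 1 - Pi.single (w a) 1 : GolayPt → ℚ) ∈ W := by
    intro w hw a
    refine hw ⟨Pi.single a 1, ?_⟩
    funext b
    rw [moveMap_apply, Pi.sub_apply]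
    simp [Pi.single_apply, Equiv.symm_apply_eq]
  have hall : ∀ g ∈ Spor.M23, ∀ a, (Pi.single a 1 - Pi.single (g a) 1 : GolayPt → ℚ) ∈ W := by
    refine key {g | ∀ a, (Pi.single a 1 - Pi.single (g a) 1 : GolayPt → ℚ) ∈ W}
      (hstep _ le_sup_left) (hstep _ le_sup_right) (fun a => by simp) ?_
    intro g h hg hh a
    have := W.add_mem (hh a) (hg (h a))
    rw [sub_add_sub_cancel] at this
    exact this
  let Lf : (GolayPt → ℚ) →ₗ[ℚ] ℚ × ℚ :=
    (LinearMap.proj none).prod (∑ a : GolayPt, LinearMap.proj a)
  have hker : LinearMap.ker Lf ≤ W := by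
    intro f hf
    rw [LinearMap.mem_ker] at hf
    have hf1 : f none = 0 := congrArg Prod.fst hf
    have hf2 : ∑ a, f a = 0 := by
      simpa [Lf] using congrArg Prod.snd hf
    have e : f = ∑ a, f a • (Pi.single a 1 - Pi.single (some 0) 1 : GolayPt → ℚ) := by
      funext b
      rw [Finset.sum_apply]
      simp only [Pi.smul_apply, Pi.sub_apply, smul_eq_mul, mul_sub, Finset.sum_sub_distrib,
        ← Finset.sum_mul, hf2, zero_mul, sub_zero]
      simp [Pi.single_apply]
    rw [e]
    refine W.sum_mem fun a _ => ?_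
    by_cases ha : a = none
    · rw [ha, hf1, zero_smul]; exact W.zero_mem
    · obtain ⟨g, hg, rfl⟩ := exists_map_zero a ha
      have := W.neg_mem (hall g hg (some 0))
      rw [neg_sub] at this
      exact W.smul_mem _ this
  have hW22 : 22 ≤ Module.finrank ℚ W := by
    have h2 := LinearMap.finrank_range_add_finrank_ker Lf
    rw [Module.finrank_fintype_fun_eq_card, card_golayPt] at h2
    have := Submodule.finrank_le (LinearMap.range Lf)
    rw [Module.finrank_prod, Module.finrank_self] at this
    have := Submodule.finrank_mono hker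
    omega
  let α := Dx.prod (Dy.prod Dz)
  have hα : Module.finrank ℚ (LinearMap.ker α) ≤ 2 := by
    let ev : (LinearMap.ker α) →ₗ[ℚ] ℚ × ℚ :=
      ((LinearMap.proj none).prod (LinearMap.proj (some 0))).comp (LinearMap.ker α).subtype
    have hev : Function.Injective ev := by
      rw [← LinearMap.ker_eq_bot, LinearMap.ker_eq_bot']
      rintro ⟨f, hf⟩ h
      have h0 : f none = 0 := congrArg Prod.fst h
      have h1 : f (some 0) = 0 := congrArg Prod.snd h
      rw [LinearMap.mem_ker] at hf
      have hfix : ∀ w : Equiv.Perm GolayPt, moveMap w f = 0 → ∀ a, f (w a) = f a := by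
        intro w hw a
        have := congrFun hw (w a)
        rw [moveMap_apply, Equiv.symm_apply_apply, Pi.zero_apply, sub_eq_zero] at this
        exact this
      have hinv : ∀ g ∈ Spor.M23, ∀ a, f (g a) = f a :=
        key {g | ∀ a, f (g a) = f a} (hfix _ (congrArg Prod.fst hf))
          (hfix _ (congrArg (fun t => t.2.1) hf)) (fun a => rfl)
          (fun g h hg hh a => (hg (h a)).trans (hh a))
      refine Subtype.ext (funext fun a => ?_)
      show f a = 0
      by_cases ha : a = none
      · rw [ha, h0]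
      · obtain ⟨g, hg, rfl⟩ := exists_map_zero a ha
        rw [hinv g hg, h1]
    have := LinearMap.finrank_le_finrank_of_injective hev
    rwa [Module.finrank_prod, Module.finrank_self] at this
  have hrα : 22 ≤ Module.finrank ℚ (LinearMap.range α) := by
    have h2 := LinearMap.finrank_range_add_finrank_ker α
    rw [Module.finrank_fintype_fun_eq_card, card_golayPt] at h2
    omega
  let β : (LinearMap.range Dx × (LinearMap.range Dy × LinearMap.range Dz)) →ₗ[ℚ] (GolayPt → ℚ) :=
    (LinearMap.range Dx).subtype.coprod (((permMap x.1).comp (LinearMap.range Dy).subtype).coprod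
      (((permMap x.1).comp (permMap y.1)).comp (LinearMap.range Dz).subtype))
  have hWβ : W ≤ LinearMap.range β := by
    refine sup_le ?_ ?_
    · intro b hb
      exact ⟨(⟨b, hb⟩, 0, 0), by simp [β]⟩
    · intro b hb
      refine ⟨(⟨Dx b, LinearMap.mem_range_self _ _⟩, ⟨b, hb⟩, 0), ?_⟩
      show Dx b + (permMap x.1 b + permMap x.1 (permMap y.1 0)) = b
      simp [Dx, moveMap]
  let α' : (GolayPt → ℚ) →ₗ[ℚ] LinearMap.range Dx × (LinearMap.range Dy × LinearMap.range Dz) :=
    Dx.rangeRestrict.prod (Dy.rangeRestrict.prod Dz.rangeRestrict)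
  have hzero : LinearMap.range α' ≤ LinearMap.ker β := by
    rintro _ ⟨f, rfl⟩
    rw [LinearMap.mem_ker]
    funext a
    have e : z.1.symm (y.1.symm (x.1.symm a)) = a := by
      have : z.1 a = y.1.symm (x.1.symm a) := by
        rw [Equiv.eq_symm_apply, Equiv.eq_symm_apply, ← Equiv.Perm.mul_apply,
          ← Equiv.Perm.mul_apply, hprod]
        rfl
      rw [← this, Equiv.symm_apply_apply]
    simp [α', β, Dx, Dy, Dz, moveMap_apply, permMap, LinearMap.funLeft_apply, e]
  have hk : LinearMap.ker α' = LinearMap.ker α := by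
    simp [α', α, LinearMap.ker_prod]
  have hrα' : 22 ≤ Module.finrank ℚ (LinearMap.range α') := by
    have h2 := LinearMap.finrank_range_add_finrank_ker α'
    rw [Module.finrank_fintype_fun_eq_card, card_golayPt, hk] at h2
    omega
  have h3 := LinearMap.finrank_range_add_finrank_ker β
  rw [Module.finrank_prod, Module.finrank_prod] at h3
  have := Submodule.finrank_mono hzero
  have := Submodule.finrank_mono hWβ
  omega

end Cfsg.Agent.Golay
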