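import Cfsg.Agent.Lib.Golay.M23Generation

/-!
Certificates: pairs of elements of prime order generating `M₂₃`.
-/

set_option autoImplicit false

namespace Cfsg.Agent.Golay

def wit2_5_11 : Wit :=
  ⟨[15, 2, 1, 19, 21, 5, 6, 18, 16, 9, 10, 17, 12, 13, 22, 0, 8, 11, 7, 3, 20, 4, 14, 23],
   [13, 10, 1, 14, 8, 9, 20, 22, 2, 15, 4, 18, 7, 3, 16, 11, 0, 17, 5, 19, 12, 21, 6, 23],
   [
    (0, 1), (2, 1), (3, 1), (4, 0), (5, 1), (6, 0), (7, 1), (8, 1), (9, 0),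
    (10, 1), (11, 1), (12, 1), (13, 1), (14, 0), (15, 1), (16, 1), (17, 1), (18, 1),
    (19, 0), (20, 1), (21, 1), (22, 0), (23, 1), (24, 1), (25, 1), (26, 1), (27, 0),
    (28, 1), (29, 1), (0, 1), (31, 0), (32, 1), (33, 1), (34, 1), (35, 0), (36, 1),
    (37, 0), (38, 1), (39, 1), (40, 0), (41, 1), (42, 1), (43, 1), (44, 1), (45, 0),
    (46, 1), (47, 0), (48, 1), (49, 0), (50, 1), (51, 0), (52, 1), (53, 1), (54, 1),
    (55, 1), (56, 0), (57, 1), (58, 1), (59, 0), (60, 1), (61, 0), (62, 1), (63, 0),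
    (64, 1), (65, 1), (66, 1)
   ],
   30, 67⟩

theorem gen2_5_11 : GenTriple 2 5 11 :=
  wit2_5_11.sound (by norm_num) (by norm_num) (by norm_num) (by decide +kernel)

def wit2_5_23 : Wit :=
  ⟨[0, 1, 20, 6, 21, 5, 3, 11, 13, 15, 10, 7, 12, 8, 18, 9, 16, 22, 14, 19, 2, 4, 17, 23],
   [19, 4, 15, 3, 2, 22, 1, 9, 20, 17, 11, 5, 10, 0, 13, 6, 14, 8, 18, 16, 7, 21, 12, 23],
   [
    (0, 1), (2, 0), (3, 1), (4, 1), (5, 1), (6, 0), (7, 1), (8, 1), (9, 0),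
    (10, 1), (11, 0), (12, 1), (13, 0), (14, 1), (15, 1), (16, 0), (17, 1), (18, 1),
    (19, 0), (20, 1), (21, 1), (22, 1), (23, 0), (24, 1), (25, 0), (26, 1), (27, 1),
    (28, 0), (29, 1), (1, 0), (31, 1), (32, 0), (33, 1), (34, 0), (35, 1), (36, 0),
    (37, 1), (38, 1), (39, 1), (40, 1), (41, 0), (42, 1), (43, 1), (44, 1), (45, 1),
    (46, 0), (47, 1), (48, 1), (49, 0), (50, 1), (51, 1), (52, 0), (53, 1), (54, 0),
    (55, 1), (56, 0), (57, 1), (58, 1), (59, 0)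
   ],
   30, 60⟩

theorem gen2_5_23 : GenTriple 2 5 23 :=
  wit2_5_23.sound (by norm_num) (by norm_num) (by norm_num) (by decide +kernel)

def wit2_7_7 : Wit :=
  ⟨[0, 22, 2, 8, 4, 6, 5, 7, 3, 21, 11, 10, 19, 16, 15, 14, 13, 17, 18, 12, 20, 9, 1, 23],
   [3, 16, 15, 11, 1, 12, 0, 4, 8, 9, 22, 21, 7, 5, 19, 14, 13, 18, 6, 10, 2, 17, 20, 23],
   [
    (0, 1), (2, 1), (3, 0), (4, 1), (5, 1), (6, 1), (7, 0), (8, 1), (9, 1),
    (10, 1), (11, 0), (12, 1), (13, 1), (14, 0), (15, 1), (16, 1), (17, 0), (18, 1),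
    (19, 1), (20, 1), (21, 0), (22, 1), (23, 1), (24, 0), (25, 1), (26, 0), (27, 1),
    (28, 1), (29, 1), (30, 0), (31, 1), (1, 0), (33, 1), (34, 0), (35, 1), (36, 0),
    (37, 1), (38, 1), (39, 0), (40, 1), (41, 0), (42, 1), (43, 0), (44, 1), (45, 0),
    (46, 1), (47, 1), (48, 1), (49, 1), (50, 1), (51, 0), (52, 1), (53, 1), (54, 1),
    (55, 1), (56, 1), (57, 0), (58, 1), (59, 0), (60, 1), (61, 1), (62, 0)
   ],
   32, 63⟩

theorem gen2_7_7 : GenTriple 2 7 7 :=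
  wit2_7_7.sound (by norm_num) (by norm_num) (by norm_num) (by decide +kernel)

def wit2_7_11 : Wit :=
  ⟨[0, 2, 1, 22, 14, 16, 6, 7, 8, 9, 15, 11, 18, 17, 4, 10, 5, 13, 12, 21, 20, 19, 3, 23],
   [21, 20, 1, 3, 5, 6, 15, 11, 19, 8, 17, 10, 22, 2, 14, 16, 12, 9, 13, 7, 0, 18, 4, 23],
   [
    (1, 0), (2, 1), (3, 1), (4, 1), (5, 1), (6, 1), (7, 1), (8, 0), (9, 1),
    (10, 0), (11, 1), (12, 1), (13, 1), (14, 0), (15, 1), (16, 1), (17, 1), (18, 0),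
    (19, 1), (20, 0), (21, 1), (22, 0), (23, 1), (24, 1), (25, 1), (26, 1), (27, 1),
    (28, 0), (29, 1), (30, 0), (31, 1), (32, 1), (33, 0), (34, 1), (35, 0), (1, 0),
    (37, 1), (38, 0), (39, 1), (40, 0), (41, 1), (42, 0), (43, 1), (44, 0), (45, 1),
    (46, 1), (47, 0), (48, 1), (49, 1), (50, 1), (51, 1), (52, 0), (53, 1), (54, 1),
    (55, 0), (56, 1), (57, 1), (58, 0), (59, 1), (60, 1), (61, 0), (62, 1), (63, 1),
    (64, 0), (65, 1), (66, 1), (67, 1), (68, 1), (69, 1), (70, 0), (71, 1), (72, 1)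
   ],
   36, 73⟩

theorem gen2_7_11 : GenTriple 2 7 11 :=
  wit2_7_11.sound (by norm_num) (by norm_num) (by norm_num) (by decide +kernel)

def wit2_7_23 : Wit :=
  ⟨[11, 7, 5, 21, 4, 2, 6, 1, 14, 15, 10, 0, 19, 13, 8, 9, 20, 17, 18, 12, 16, 3, 22, 23],
   [16, 0, 11, 17, 12, 9, 20, 13, 8, 6, 1, 22, 3, 21, 19, 15, 7, 2, 5, 18, 14, 10, 4, 23],
   [
    (1, 1), (2, 0), (3, 1), (4, 0), (5, 1), (6, 1), (7, 1), (8, 1), (9, 1),
    (10, 0), (11, 1), (12, 1), (13, 0), (14, 1), (15, 0), (16, 1), (17, 1), (18, 0),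
    (19, 1), (20, 1), (21, 1), (22, 0), (23, 1), (24, 1), (25, 1), (26, 0), (27, 1),
    (28, 1), (29, 0), (30, 1), (31, 1), (32, 0), (33, 1), (34, 1), (1, 0), (36, 1),
    (37, 1), (38, 1), (39, 0), (40, 1), (41, 1), (42, 0), (43, 1), (44, 0), (45, 1),
    (46, 0), (47, 1), (48, 1), (49, 1), (50, 1), (51, 0), (52, 1), (53, 1), (54, 0),
    (55, 1), (56, 1), (57, 0), (58, 1), (59, 1), (60, 0), (61, 1), (62, 1), (63, 0),
    (64, 1), (65, 0), (66, 1)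
   ],
   35, 67⟩

theorem gen2_7_23 : GenTriple 2 7 23 :=
  wit2_7_23.sound (by norm_num) (by norm_num) (by norm_num) (by decide +kernel)

def wit2_11_11 : Wit :=
  ⟨[0, 7, 2, 8, 9, 16, 19, 1, 3, 4, 17, 11, 13, 12, 14, 18, 5, 10, 15, 6, 20, 21, 22, 23],
   [13, 11, 19, 18, 8, 4, 22, 0, 14, 10, 3, 15, 9, 1, 21, 17, 16, 2, 20, 6, 5, 12, 7, 23],
   [
    (1, 0), (2, 1), (3, 1), (4, 0), (5, 1), (6, 0), (7, 1), (8, 1), (9, 1),
    (10, 1), (11, 1), (12, 1), (13, 0), (14, 1), (15, 1), (16, 0), (17, 1), (18, 1),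
    (19, 1), (20, 1), (21, 1), (22, 1), (23, 1), (24, 0), (25, 1), (26, 1), (27, 0),
    (28, 1), (29, 1), (30, 0), (1, 0), (32, 1), (33, 1), (34, 1), (35, 1), (36, 0),
    (37, 1), (38, 1), (39, 0), (40, 1), (41, 1), (42, 0), (43, 1), (44, 1), (45, 1),
    (46, 1), (47, 1), (48, 0), (49, 1), (50, 0), (51, 1), (52, 0), (53, 1), (54, 1),
    (55, 0), (56, 1), (57, 1), (58, 0), (59, 1), (60, 0)
   ],
   31, 61⟩

theorem gen2_11_11 : GenTriple 2 11 11 :=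
  wit2_11_11.sound (by norm_num) (by norm_num) (by norm_num) (by decide +kernel)

def wit2_11_23 : Wit :=
  ⟨[3, 7, 4, 0, 2, 22, 17, 1, 8, 9, 12, 11, 10, 19, 14, 20, 16, 6, 18, 13, 15, 21, 5, 23],
   [5, 1, 7, 10, 12, 13, 21, 22, 17, 4, 15, 19, 20, 6, 18, 8, 3, 2, 9, 16, 0, 14, 11, 23],
   [
    (0, 1), (2, 1), (3, 1), (4, 1), (5, 1), (6, 0), (7, 1), (8, 0), (9, 1),
    (10, 0), (11, 1), (12, 1), (13, 0), (14, 1), (15, 1), (16, 0), (17, 1), (18, 0),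
    (19, 1), (20, 0), (21, 1), (22, 1), (23, 1), (24, 1), (25, 0), (26, 1), (27, 1),
    (28, 0), (29, 1), (0, 1), (31, 0), (32, 1), (33, 0), (34, 1), (35, 1), (36, 0),
    (37, 1), (38, 1), (39, 1), (40, 1), (41, 1), (42, 0), (43, 1), (44, 0), (45, 1),
    (46, 1), (47, 0), (48, 1), (49, 1), (50, 0), (51, 1), (52, 0), (53, 1), (54, 0),
    (55, 1), (56, 0), (57, 1), (58, 1), (59, 1)
   ],
   30, 60⟩

theorem gen2_11_23 : GenTriple 2 11 23 :=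
  wit2_11_23.sound (by norm_num) (by norm_num) (by norm_num) (by decide +kernel)

def wit2_23_23 : Wit :=
  ⟨[0, 9, 12, 3, 15, 11, 20, 18, 22, 1, 17, 5, 2, 13, 14, 4, 16, 10, 7, 19, 6, 21, 8, 23],
   [11, 21, 3, 13, 5, 20, 2, 16, 19, 17, 18, 9, 7, 4, 12, 6, 15, 8, 22, 1, 0, 10, 14, 23],
   [
    (0, 1), (2, 0), (3, 1), (4, 1), (5, 1), (6, 1), (7, 0), (8, 1), (9, 0),
    (10, 1), (11, 1), (12, 1), (13, 1), (14, 0), (15, 1), (16, 1), (17, 1), (18, 0),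
    (19, 1), (20, 1), (21, 1), (22, 1), (23, 1), (24, 1), (25, 1), (26, 0), (27, 1),
    (28, 0), (29, 1), (30, 0), (31, 1), (32, 1), (33, 0), (1, 0), (35, 1), (36, 1),
    (37, 1), (38, 0), (39, 1), (40, 1), (41, 0), (42, 1), (43, 0), (44, 1), (45, 1),
    (46, 1), (47, 1), (48, 1), (49, 1), (50, 0), (51, 1), (52, 0), (53, 1), (54, 0),
    (55, 1), (56, 0), (57, 1), (58, 1), (59, 0), (60, 1), (61, 1)
   ],
   34, 62⟩

theorem gen2_23_23 : GenTriple 2 23 23 :=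
  wit2_23_23.sound (by norm_num) (by norm_num) (by norm_num) (by decide +kernel)

def wit3_3_11 : Wit :=
  ⟨[3, 21, 2, 19, 13, 20, 4, 8, 12, 1, 10, 14, 7, 6, 15, 11, 5, 17, 18, 0, 16, 9, 22, 23],
   [0, 4, 22, 1, 3, 16, 5, 17, 15, 12, 8, 11, 18, 7, 2, 10, 6, 13, 9, 19, 20, 21, 14, 23],
   [
    (1, 1), (2, 0), (3, 1), (4, 0), (5, 1), (6, 0), (7, 0), (8, 1), (9, 0),
    (10, 1), (11, 0), (12, 0), (13, 1), (14, 1), (15, 0), (16, 1), (17, 1), (18, 0),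
    (19, 0), (20, 1), (21, 0), (22, 1), (23, 0), (24, 0), (25, 1), (26, 1), (27, 0),
    (28, 1), (29, 1), (30, 0), (0, 1), (32, 0), (33, 1), (34, 1), (35, 0), (36, 1),
    (37, 1), (38, 0), (39, 1), (40, 0), (41, 1), (42, 1), (43, 0), (44, 0), (45, 1),
    (46, 0), (47, 1), (48, 1), (49, 0), (50, 0), (51, 1), (52, 0), (53, 1), (54, 0),
    (55, 1), (56, 0), (57, 0), (58, 1), (59, 0), (60, 1), (61, 0), (62, 1), (63, 1)
   ],
   31, 64⟩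

theorem gen3_3_11 : GenTriple 3 3 11 :=
  wit3_3_11.sound (by norm_num) (by norm_num) (by norm_num) (by decide +kernel)

def wit3_3_23 : Wit :=
  ⟨[11, 19, 9, 16, 21, 0, 1, 10, 8, 14, 13, 5, 12, 7, 2, 15, 22, 17, 4, 6, 20, 18, 3, 23],
   [8, 9, 13, 3, 4, 5, 16, 12, 19, 22, 10, 21, 17, 20, 14, 11, 18, 7, 6, 0, 2, 15, 1, 23],
   [
    (1, 0), (2, 1), (3, 0), (4, 1), (5, 1), (6, 0), (7, 1), (8, 0), (9, 0),
    (10, 1), (11, 1), (12, 0), (13, 1), (14, 0), (15, 0), (16, 1), (17, 0), (18, 1),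
    (19, 0), (20, 1), (21, 0), (22, 1), (23, 0), (24, 1), (25, 0), (26, 0), (27, 1),
    (28, 0), (29, 1), (30, 1), (1, 0), (32, 0), (33, 1), (34, 0), (35, 0), (36, 1),
    (37, 0), (38, 1), (39, 1), (40, 0), (41, 1), (42, 0), (43, 1), (44, 1), (45, 0),
    (46, 1), (47, 1), (48, 0), (49, 0)
   ],
   31, 50⟩

theorem gen3_3_23 : GenTriple 3 3 23 :=
  wit3_3_23.sound (by norm_num) (by norm_num) (by norm_num) (by decide +kernel)

def wit3_5_5 : Wit :=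
  ⟨[3, 21, 15, 11, 17, 4, 16, 7, 1, 9, 10, 0, 12, 2, 14, 13, 19, 5, 22, 6, 18, 8, 20, 23],
   [0, 13, 5, 18, 16, 3, 22, 14, 21, 2, 8, 11, 1, 7, 12, 19, 6, 4, 9, 10, 20, 15, 17, 23],
   [
    (1, 0), (2, 0), (3, 1), (4, 0), (5, 1), (6, 1), (7, 1), (8, 0), (9, 1),
    (10, 0), (11, 1), (12, 1), (13, 0), (14, 1), (15, 1), (16, 1), (17, 0), (18, 1),
    (19, 1), (20, 0), (21, 1), (22, 1), (23, 1), (24, 0), (25, 0), (26, 1), (1, 0),
    (28, 0), (29, 1), (30, 0), (31, 1), (32, 1), (33, 0), (34, 0), (35, 1), (36, 1),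
    (37, 1), (38, 1), (39, 0), (40, 1), (41, 1), (42, 0), (43, 1), (44, 1), (45, 0),
    (46, 1), (47, 1), (48, 0), (49, 1), (50, 0), (51, 1), (52, 0), (53, 1)
   ],
   27, 54⟩

theorem gen3_5_5 : GenTriple 3 5 5 :=
  wit3_5_5.sound (by norm_num) (by norm_num) (by norm_num) (by decide +kernel)

def wit3_5_7 : Wit :=
  ⟨[21, 1, 9, 0, 2, 13, 20, 14, 8, 4, 16, 7, 12, 17, 11, 15, 18, 5, 10, 6, 19, 3, 22, 23],
   [14, 20, 2, 9, 3, 17, 5, 7, 16, 22, 0, 1, 19, 4, 8, 11, 10, 12, 18, 6, 21, 15, 13, 23],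
   [
    (1, 0), (2, 1), (3, 1), (4, 0), (5, 1), (6, 1), (7, 1), (8, 0), (9, 1),
    (10, 0), (11, 1), (12, 1), (13, 1), (14, 0), (15, 1), (16, 1), (17, 1), (18, 1),
    (19, 0), (20, 1), (21, 1), (22, 0), (23, 0), (24, 1), (25, 1), (26, 0), (1, 1),
    (28, 1), (29, 1), (30, 0), (31, 1), (32, 0), (33, 1), (34, 0), (35, 0), (36, 1),
    (37, 0), (38, 1), (39, 1), (40, 0), (41, 1), (42, 1), (43, 1), (44, 0), (45, 1),
    (46, 1), (47, 1), (48, 0), (49, 0)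
   ],
   27, 50⟩

theorem gen3_5_7 : GenTriple 3 5 7 :=
  wit3_5_7.sound (by norm_num) (by norm_num) (by norm_num) (by decide +kernel)

def wit3_5_11 : Wit :=
  ⟨[15, 13, 6, 3, 4, 14, 9, 7, 18, 2, 10, 8, 5, 21, 12, 16, 0, 17, 11, 22, 19, 1, 20, 23],
   [10, 21, 18, 15, 19, 9, 6, 2, 5, 4, 1, 11, 12, 17, 13, 14, 7, 3, 22, 8, 0, 20, 16, 23],
   [
    (1, 1), (2, 1), (3, 0), (4, 1), (5, 0), (6, 1), (7, 0), (8, 1), (9, 0),
    (10, 1), (11, 1), (12, 0), (13, 0), (14, 1), (15, 1), (16, 0), (17, 1), (18, 1),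
    (19, 1), (20, 1), (21, 0), (22, 0), (23, 1), (24, 0), (0, 1), (26, 1), (27, 0),
    (28, 1), (29, 0), (30, 0), (31, 1), (32, 0), (33, 0), (34, 1), (35, 0), (36, 1),
    (37, 1), (38, 0), (39, 0), (40, 1), (41, 1), (42, 1), (43, 1), (44, 0), (45, 1),
    (46, 0), (47, 1), (48, 1), (49, 1), (50, 0)
   ],
   25, 51⟩

theorem gen3_5_11 : GenTriple 3 5 11 :=
  wit3_5_11.sound (by norm_num) (by norm_num) (by norm_num) (by decide +kernel)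

def wit3_5_23 : Wit :=
  ⟨[0, 21, 2, 11, 19, 22, 18, 5, 17, 9, 3, 10, 12, 6, 14, 4, 1, 20, 13, 15, 8, 16, 7, 23],
   [2, 13, 19, 3, 8, 1, 4, 21, 14, 6, 10, 17, 7, 20, 9, 15, 5, 12, 22, 18, 16, 11, 0, 23],
   [
    (0, 0), (2, 1), (3, 0), (4, 0), (5, 1), (6, 1), (7, 0), (8, 1), (9, 1),
    (10, 0), (11, 0), (12, 1), (13, 1), (14, 0), (15, 1), (16, 0), (17, 0), (18, 1),
    (19, 1), (20, 1), (21, 1), (22, 0), (23, 1), (24, 1), (0, 1), (26, 1), (27, 0),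
    (28, 0), (29, 1), (30, 0), (31, 0), (32, 1), (33, 1), (34, 1), (35, 0), (36, 0),
    (37, 1), (38, 1), (39, 0), (40, 0), (41, 1), (42, 0), (43, 1), (44, 0), (45, 1),
    (46, 0), (47, 0), (48, 1), (49, 0)
   ],
   25, 50⟩

theorem gen3_5_23 : GenTriple 3 5 23 :=
  wit3_5_23.sound (by norm_num) (by norm_num) (by norm_num) (by decide +kernel)

def wit3_7_7 : Wit :=
  ⟨[15, 22, 14, 7, 0, 11, 6, 18, 9, 17, 1, 16, 2, 13, 12, 4, 5, 8, 3, 19, 20, 21, 10, 23],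
   [10, 2, 11, 6, 18, 0, 16, 3, 19, 9, 13, 20, 12, 15, 5, 22, 17, 4, 7, 21, 8, 1, 14, 23],
   [
    (0, 0), (2, 1), (3, 0), (4, 1), (5, 0), (6, 1), (7, 1), (8, 0), (9, 1),
    (10, 1), (11, 0), (12, 1), (13, 0), (14, 0), (15, 1), (16, 1), (17, 0), (18, 1),
    (19, 0), (20, 1), (21, 0), (22, 0), (0, 1), (24, 0), (25, 1), (26, 1), (27, 0),
    (28, 0), (29, 1), (30, 0), (31, 1), (32, 0), (33, 0), (34, 1), (35, 1), (36, 1),
    (37, 1), (38, 0), (39, 0), (40, 1), (41, 1), (42, 1), (43, 1), (44, 1), (45, 1),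
    (46, 0), (47, 1), (48, 0)
   ],
   23, 49⟩

theorem gen3_7_7 : GenTriple 3 7 7 :=
  wit3_7_7.sound (by norm_num) (by norm_num) (by norm_num) (by decide +kernel)

def wit3_7_11 : Wit :=
  ⟨[9, 16, 12, 3, 6, 5, 20, 1, 8, 18, 10, 13, 15, 19, 21, 2, 7, 17, 0, 11, 4, 22, 14, 23],
   [21, 6, 7, 8, 17, 15, 14, 10, 5, 2, 0, 9, 4, 12, 3, 1, 20, 16, 18, 13, 19, 11, 22, 23],
   [
    (1, 1), (2, 1), (3, 1), (4, 1), (5, 0), (6, 0), (7, 1), (8, 0), (9, 0),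
    (10, 1), (11, 1), (12, 0), (13, 1), (14, 1), (15, 1), (16, 0), (17, 1), (18, 1),
    (19, 0), (20, 0), (21, 1), (22, 1), (1, 0), (24, 1), (25, 1), (26, 1), (27, 1),
    (28, 0), (29, 1), (30, 1), (31, 0), (32, 1), (33, 1), (34, 1), (35, 1), (36, 0),
    (37, 0), (38, 1), (39, 0), (40, 1), (41, 1), (42, 1), (43, 1), (44, 1), (45, 0),
    (46, 0)
   ],
   23, 47⟩

theorem gen3_7_11 : GenTriple 3 7 11 :=
  wit3_7_11.sound (by norm_num) (by norm_num) (by norm_num) (by decide +kernel)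

def wit3_7_23 : Wit :=
  ⟨[0, 13, 21, 9, 3, 11, 18, 7, 2, 4, 6, 17, 12, 14, 1, 15, 19, 5, 10, 22, 20, 8, 16, 23],
   [15, 5, 16, 14, 1, 8, 22, 4, 0, 11, 10, 18, 2, 13, 17, 7, 3, 19, 21, 12, 9, 6, 20, 23],
   [
    (0, 0), (2, 1), (3, 1), (4, 1), (5, 1), (6, 1), (7, 1), (8, 0), (9, 0),
    (10, 1), (11, 0), (12, 1), (13, 1), (14, 1), (15, 0), (16, 0), (17, 1), (18, 1),
    (19, 1), (20, 1), (21, 1), (22, 0), (23, 0), (24, 1), (25, 1), (26, 0), (1, 0),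
    (28, 0), (29, 1), (30, 1), (31, 1), (32, 0), (33, 1), (34, 0), (35, 0), (36, 1),
    (37, 1), (38, 1), (39, 0), (40, 1), (41, 1), (42, 1), (43, 1), (44, 1), (45, 0),
    (46, 1), (47, 1), (48, 1), (49, 1), (50, 0), (51, 1)
   ],
   27, 52⟩

theorem gen3_7_23 : GenTriple 3 7 23 :=
  wit3_7_23.sound (by norm_num) (by norm_num) (by norm_num) (by decide +kernel)

def wit3_11_11 : Wit :=
  ⟨[21, 15, 2, 0, 8, 5, 17, 20, 9, 4, 7, 11, 12, 14, 16, 22, 13, 18, 6, 19, 10, 3, 1, 23],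
   [13, 5, 19, 17, 9, 3, 1, 14, 8, 21, 12, 2, 0, 22, 10, 7, 18, 11, 20, 4, 15, 6, 16, 23],
   [
    (0, 1), (2, 1), (3, 0), (4, 1), (5, 0), (6, 1), (7, 1), (8, 0), (9, 0),
    (10, 1), (11, 1), (12, 0), (13, 0), (14, 1), (15, 1), (16, 0), (17, 1), (18, 0),
    (19, 1), (20, 0), (21, 1), (22, 0), (23, 1), (0, 1), (25, 1), (26, 1), (27, 1),
    (28, 1), (29, 0), (30, 1), (31, 1), (32, 1), (33, 1), (34, 1), (35, 1), (36, 1),
    (37, 1), (38, 0), (39, 1), (40, 1), (41, 1), (42, 1), (43, 0), (44, 0), (45, 1),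
    (46, 0)
   ],
   24, 47⟩

theorem gen3_11_11 : GenTriple 3 11 11 :=
  wit3_11_11.sound (by norm_num) (by norm_num) (by norm_num) (by decide +kernel)

def wit3_11_23 : Wit :=
  ⟨[12, 1, 18, 10, 4, 3, 0, 8, 16, 9, 5, 13, 6, 19, 20, 14, 7, 17, 21, 11, 15, 2, 22, 23],
   [18, 22, 16, 2, 3, 6, 14, 12, 8, 13, 5, 10, 1, 4, 7, 9, 20, 11, 15, 0, 19, 17, 21, 23],
   [
    (0, 1), (2, 0), (3, 1), (4, 0), (5, 1), (6, 0), (7, 0), (8, 1), (9, 1),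
    (10, 1), (11, 0), (12, 1), (13, 0), (14, 1), (15, 1), (16, 1), (17, 0), (18, 1),
    (19, 0), (20, 1), (21, 0), (22, 1), (23, 1), (24, 1), (25, 0), (26, 1), (0, 0),
    (28, 1), (29, 0), (30, 1), (31, 1), (32, 1), (33, 0), (34, 0), (35, 1), (36, 0),
    (37, 0), (38, 1), (39, 1), (40, 0), (41, 1), (42, 0), (43, 1), (44, 1), (45, 0),
    (46, 1), (47, 0), (48, 0), (49, 1), (50, 0), (51, 1)
   ],
   27, 52⟩

theorem gen3_11_23 : GenTriple 3 11 23 :=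
  wit3_11_23.sound (by norm_num) (by norm_num) (by norm_num) (by decide +kernel)

def wit3_23_23 : Wit :=
  ⟨[14, 11, 16, 3, 12, 7, 19, 22, 8, 1, 6, 9, 21, 2, 20, 15, 13, 17, 18, 10, 0, 4, 5, 23],
   [4, 14, 20, 21, 15, 7, 12, 18, 13, 0, 9, 3, 2, 22, 8, 16, 1, 19, 10, 11, 5, 6, 17, 23],
   [
    (1, 0), (2, 1), (3, 1), (4, 1), (5, 0), (6, 0), (7, 1), (8, 0), (9, 1),
    (10, 1), (11, 1), (12, 0), (13, 1), (14, 0), (15, 0), (16, 1), (17, 0), (18, 0),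
    (19, 1), (20, 1), (21, 0), (22, 1), (23, 0), (1, 0), (25, 0), (26, 1), (27, 1),
    (28, 0), (29, 1), (30, 0), (31, 0), (32, 1), (33, 0), (34, 1), (35, 0), (36, 0),
    (37, 1), (38, 0), (39, 0), (40, 1), (41, 1), (42, 0), (43, 1)
   ],
   24, 44⟩

theorem gen3_23_23 : GenTriple 3 23 23 :=
  wit3_23_23.sound (by norm_num) (by norm_num) (by norm_num) (by decide +kernel)

def wit5_5_5 : Wit :=
  ⟨[1, 18, 2, 21, 20, 9, 10, 13, 4, 12, 0, 15, 3, 14, 22, 8, 16, 17, 6, 7, 11, 5, 19, 23],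
   [5, 16, 21, 13, 1, 10, 6, 19, 0, 9, 17, 15, 2, 7, 4, 12, 22, 8, 18, 20, 3, 11, 14, 23],
   [
    (1, 0), (2, 0), (3, 1), (4, 1), (5, 0), (6, 0), (7, 1), (8, 0), (9, 0),
    (10, 0), (11, 1), (12, 1), (13, 0), (14, 1), (15, 0), (16, 1), (17, 1), (18, 0),
    (19, 0), (20, 0), (21, 1), (22, 0), (1, 0), (24, 0), (25, 1), (26, 1), (27, 1),
    (28, 1), (29, 0), (30, 0), (31, 0), (32, 1), (33, 0), (34, 0), (35, 0), (36, 0),
    (37, 1), (38, 1), (39, 1), (40, 1)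
   ],
   23, 41⟩

theorem gen5_5_5 : GenTriple 5 5 5 :=
  wit5_5_5.sound (by norm_num) (by norm_num) (by norm_num) (by decide +kernel)

def wit5_5_7 : Wit :=
  ⟨[13, 11, 2, 10, 5, 22, 6, 20, 7, 18, 21, 3, 15, 14, 9, 4, 16, 8, 0, 17, 19, 1, 12, 23],
   [0, 12, 16, 15, 4, 9, 5, 1, 17, 3, 20, 14, 18, 11, 8, 6, 21, 13, 22, 19, 2, 10, 7, 23],
   [
    (0, 0), (2, 0), (3, 1), (4, 1), (5, 1), (6, 1), (7, 0), (8, 1), (9, 0),
    (10, 0), (11, 1), (12, 1), (13, 0), (14, 0), (15, 0), (16, 1), (17, 1), (18, 1),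
    (19, 0), (20, 0), (21, 1), (22, 0), (1, 0), (24, 0), (25, 0), (26, 1), (27, 1),
    (28, 1), (29, 0), (30, 1), (31, 1), (32, 1), (33, 1), (34, 0), (35, 1), (36, 0),
    (37, 1), (38, 0), (39, 0), (40, 0), (41, 1), (42, 0), (43, 0), (44, 0)
   ],
   23, 45⟩

theorem gen5_5_7 : GenTriple 5 5 7 :=
  wit5_5_7.sound (by norm_num) (by norm_num) (by norm_num) (by decide +kernel)

def wit5_5_11 : Wit :=
  ⟨[14, 13, 20, 3, 22, 2, 0, 7, 19, 5, 21, 11, 15, 16, 4, 17, 8, 10, 9, 1, 18, 12, 6, 23],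
   [21, 4, 20, 12, 3, 2, 15, 0, 8, 11, 17, 19, 14, 18, 1, 9, 16, 5, 7, 6, 10, 13, 22, 23],
   [
    (0, 1), (2, 1), (3, 0), (4, 0), (5, 0), (6, 0), (7, 1), (8, 0), (9, 0),
    (10, 0), (11, 1), (12, 1), (13, 1), (14, 0), (15, 0), (16, 0), (17, 0), (18, 1),
    (19, 0), (20, 0), (21, 1), (1, 0), (23, 1), (24, 1), (25, 0), (26, 0), (27, 1),
    (28, 1), (29, 0), (30, 1), (31, 0), (32, 0), (33, 1), (34, 0), (35, 0), (36, 1),
    (37, 0), (38, 1), (39, 0), (40, 1)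
   ],
   22, 41⟩

theorem gen5_5_11 : GenTriple 5 5 11 :=
  wit5_5_11.sound (by norm_num) (by norm_num) (by norm_num) (by decide +kernel)

def wit5_5_23 : Wit :=
  ⟨[0, 7, 5, 9, 21, 12, 6, 16, 11, 1, 8, 14, 19, 20, 22, 4, 3, 2, 18, 17, 15, 13, 10, 23],
   [18, 2, 6, 19, 10, 5, 16, 7, 1, 9, 14, 3, 4, 20, 17, 13, 8, 12, 15, 22, 0, 11, 21, 23],
   [
    (0, 1), (2, 1), (3, 0), (4, 1), (5, 1), (6, 0), (7, 0), (8, 1), (9, 0),
    (10, 1), (11, 1), (12, 0), (13, 1), (14, 1), (15, 1), (16, 1), (17, 0), (18, 1),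
    (19, 1), (20, 0), (21, 1), (22, 0), (0, 0), (24, 1), (25, 0), (26, 1), (27, 1),
    (28, 0), (29, 0), (30, 0), (31, 1), (32, 0), (33, 0), (34, 0), (35, 0), (36, 1),
    (37, 1), (38, 0), (39, 1), (40, 1), (41, 0), (42, 0), (43, 0), (44, 0), (45, 1)
   ],
   23, 46⟩

theorem gen5_5_23 : GenTriple 5 5 23 :=
  wit5_5_23.sound (by norm_num) (by norm_num) (by norm_num) (by decide +kernel)

def wit5_7_7 : Wit :=
  ⟨[0, 7, 6, 19, 15, 2, 17, 13, 3, 9, 8, 22, 14, 12, 1, 11, 10, 21, 4, 16, 20, 5, 18, 23],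
   [20, 16, 10, 2, 12, 22, 4, 1, 11, 19, 8, 0, 13, 15, 5, 9, 14, 17, 18, 6, 3, 7, 21, 23],
   [
    (1, 1), (2, 1), (3, 1), (4, 1), (5, 1), (6, 0), (7, 0), (8, 0), (9, 0),
    (10, 1), (11, 1), (12, 0), (13, 0), (14, 1), (15, 1), (16, 1), (17, 0), (18, 0),
    (19, 1), (20, 0), (21, 0), (22, 0), (1, 0), (24, 0), (25, 0), (26, 1), (27, 1),
    (28, 1), (29, 0), (30, 0), (31, 1), (32, 0), (33, 1), (34, 1), (35, 0), (36, 0),
    (37, 0), (38, 0), (39, 1), (40, 1), (41, 1), (42, 0), (43, 0), (44, 0)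
   ],
   23, 45⟩

theorem gen5_7_7 : GenTriple 5 7 7 :=
  wit5_7_7.sound (by norm_num) (by norm_num) (by norm_num) (by decide +kernel)

def wit5_7_11 : Wit :=
  ⟨[12, 1, 9, 2, 6, 3, 8, 7, 11, 15, 18, 22, 20, 0, 13, 5, 17, 19, 16, 10, 14, 21, 4, 23],
   [5, 6, 18, 1, 12, 22, 21, 4, 15, 14, 10, 11, 8, 17, 20, 16, 19, 0, 13, 7, 3, 9, 2, 23],
   [
    (0, 1), (2, 0), (3, 0), (4, 1), (5, 0), (6, 0), (7, 0), (8, 1), (9, 0),
    (10, 1), (11, 1), (12, 0), (13, 1), (14, 0), (15, 0), (16, 1), (17, 1), (18, 1),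
    (19, 0), (20, 0), (21, 0), (22, 1), (23, 1), (24, 1), (1, 0), (26, 0), (27, 1),
    (28, 1), (29, 1), (30, 1), (31, 0), (32, 1), (33, 0), (34, 1), (35, 1), (36, 1),
    (37, 0), (38, 1), (39, 1), (40, 1), (41, 1), (42, 0), (43, 0), (44, 0)
   ],
   25, 45⟩

theorem gen5_7_11 : GenTriple 5 7 11 :=
  wit5_7_11.sound (by norm_num) (by norm_num) (by norm_num) (by decide +kernel)

def wit5_7_23 : Wit :=
  ⟨[18, 13, 11, 3, 10, 1, 19, 2, 7, 8, 6, 9, 12, 20, 22, 5, 16, 14, 17, 21, 15, 4, 0, 23],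
   [10, 20, 11, 7, 1, 2, 21, 9, 0, 22, 3, 16, 13, 5, 12, 15, 14, 19, 18, 4, 6, 17, 8, 23],
   [
    (0, 0), (2, 0), (3, 1), (4, 0), (5, 0), (6, 1), (7, 0), (8, 1), (9, 1),
    (10, 0), (11, 0), (12, 0), (13, 1), (14, 1), (15, 1), (16, 1), (17, 0), (18, 0),
    (19, 0), (20, 1), (21, 0), (22, 0), (23, 1), (0, 0), (25, 1), (26, 1), (27, 0),
    (28, 0), (29, 1), (30, 1), (31, 0), (32, 0), (33, 1), (34, 0), (35, 1), (36, 1),
    (37, 1), (38, 0), (39, 0), (40, 1), (41, 1), (42, 1), (43, 0), (44, 1), (45, 0),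
    (46, 1)
   ],
   24, 47⟩

theorem gen5_7_23 : GenTriple 5 7 23 :=
  wit5_7_23.sound (by norm_num) (by norm_num) (by norm_num) (by decide +kernel)

def wit5_11_11 : Wit :=
  ⟨[11, 17, 20, 1, 14, 2, 22, 18, 10, 5, 0, 21, 9, 7, 13, 15, 16, 6, 4, 19, 12, 8, 3, 23],
   [18, 4, 13, 15, 11, 7, 12, 3, 8, 6, 17, 9, 20, 21, 16, 10, 2, 14, 1, 0, 22, 5, 19, 23],
   [
    (0, 0), (2, 1), (3, 1), (4, 1), (5, 0), (6, 0), (7, 1), (8, 1), (9, 1),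
    (10, 0), (11, 0), (12, 0), (13, 1), (14, 0), (15, 1), (16, 1), (17, 1), (18, 0),
    (19, 1), (0, 1), (21, 0), (22, 0), (23, 0), (24, 0), (25, 1), (26, 1), (27, 0),
    (28, 1), (29, 1), (30, 0), (31, 0), (32, 0), (33, 1), (34, 1), (35, 0), (36, 1),
    (37, 0), (38, 0), (39, 0)
   ],
   20, 40⟩

theorem gen5_11_11 : GenTriple 5 11 11 :=
  wit5_11_11.sound (by norm_num) (by norm_num) (by norm_num) (by decide +kernel)

def wit5_11_23 : Wit :=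
  ⟨[10, 16, 7, 19, 12, 18, 6, 4, 2, 11, 15, 0, 8, 13, 21, 9, 22, 17, 14, 1, 5, 20, 3, 23],
   [18, 6, 14, 20, 21, 12, 3, 16, 13, 17, 7, 2, 0, 19, 4, 1, 15, 11, 9, 10, 8, 5, 22, 23],
   [
    (1, 0), (2, 1), (3, 1), (4, 1), (5, 1), (6, 1), (7, 1), (8, 0), (9, 0),
    (10, 0), (11, 1), (12, 1), (13, 0), (14, 1), (15, 1), (16, 0), (17, 1), (18, 0),
    (19, 1), (20, 1), (21, 1), (22, 0), (23, 1), (24, 0), (1, 0), (26, 0), (27, 1),
    (28, 1), (29, 0), (30, 1), (31, 0), (32, 1), (33, 0), (34, 1), (35, 1), (36, 1),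
    (37, 1), (38, 1), (39, 1), (40, 0), (41, 1), (42, 1), (43, 0), (44, 0), (45, 1)
   ],
   25, 46⟩

theorem gen5_11_23 : GenTriple 5 11 23 :=
  wit5_11_23.sound (by norm_num) (by norm_num) (by norm_num) (by decide +kernel)

def wit5_23_23 : Wit :=
  ⟨[21, 10, 7, 13, 4, 6, 9, 12, 3, 17, 18, 5, 20, 15, 14, 19, 2, 11, 0, 8, 16, 1, 22, 23],
   [17, 18, 5, 13, 19, 20, 9, 8, 11, 3, 7, 1, 4, 12, 21, 22, 2, 14, 16, 0, 15, 10, 6, 23],
   [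
    (0, 1), (2, 1), (3, 0), (4, 1), (5, 1), (6, 1), (7, 1), (8, 0), (9, 0),
    (10, 1), (11, 0), (12, 0), (13, 0), (14, 1), (15, 0), (16, 1), (17, 0), (18, 0),
    (19, 1), (20, 1), (21, 0), (0, 1), (23, 0), (24, 0), (25, 0), (26, 1), (27, 0),
    (28, 0), (29, 1), (30, 0), (31, 1), (32, 0), (33, 0), (34, 0), (35, 0), (36, 1),
    (37, 1), (38, 0), (39, 1), (40, 0), (41, 0)
   ],
   22, 42⟩

theorem gen5_23_23 : GenTriple 5 23 23 :=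
  wit5_23_23.sound (by norm_num) (by norm_num) (by norm_num) (by decide +kernel)

def wit7_7_7 : Wit :=
  ⟨[0, 12, 17, 20, 7, 11, 22, 16, 4, 2, 10, 1, 9, 8, 15, 21, 3, 5, 6, 14, 13, 18, 19, 23],
   [22, 20, 2, 11, 3, 0, 18, 13, 17, 4, 19, 10, 16, 8, 14, 9, 7, 21, 5, 15, 6, 12, 1, 23],
   [
    (1, 0), (2, 0), (3, 1), (4, 1), (5, 0), (6, 0), (7, 0), (8, 1), (9, 1),
    (10, 0), (11, 1), (12, 0), (13, 0), (14, 0), (15, 0), (16, 1), (17, 0), (18, 1),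
    (19, 0), (0, 1), (21, 1), (22, 1), (23, 1), (24, 0), (25, 0), (26, 1), (27, 1),
    (28, 0), (29, 0), (30, 0), (31, 0), (32, 1), (33, 0), (34, 0), (35, 1), (36, 0),
    (37, 0), (38, 1), (39, 0), (40, 1), (41, 0)
   ],
   20, 42⟩

theorem gen7_7_7 : GenTriple 7 7 7 :=
  wit7_7_7.sound (by norm_num) (by norm_num) (by norm_num) (by decide +kernel)

def wit7_7_11 : Wit :=
  ⟨[14, 16, 3, 11, 18, 7, 12, 4, 13, 22, 2, 21, 0, 5, 20, 15, 10, 17, 19, 8, 9, 1, 6, 23],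
   [10, 7, 2, 18, 14, 1, 12, 19, 15, 17, 6, 22, 4, 0, 13, 3, 16, 5, 21, 20, 9, 11, 8, 23],
   [
    (0, 0), (2, 1), (3, 0), (4, 1), (5, 1), (6, 0), (7, 1), (8, 1), (9, 1),
    (10, 0), (11, 1), (12, 0), (13, 1), (14, 0), (15, 0), (16, 0), (17, 0), (18, 1),
    (19, 0), (20, 0), (21, 1), (0, 1), (23, 1), (24, 1), (25, 0), (26, 0), (27, 1),
    (28, 1), (29, 0), (30, 0), (31, 1), (32, 0), (33, 0), (34, 0), (35, 1), (36, 1),
    (37, 0), (38, 0), (39, 1), (40, 1), (41, 1)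
   ],
   22, 42⟩

theorem gen7_7_11 : GenTriple 7 7 11 :=
  wit7_7_11.sound (by norm_num) (by norm_num) (by norm_num) (by decide +kernel)

def wit7_7_23 : Wit :=
  ⟨[13, 4, 8, 18, 19, 9, 6, 7, 10, 14, 17, 21, 5, 22, 20, 0, 15, 1, 16, 2, 11, 12, 3, 23],
   [11, 16, 13, 18, 4, 10, 15, 22, 19, 2, 12, 1, 8, 3, 0, 14, 6, 20, 7, 17, 5, 21, 9, 23],
   [
    (1, 0), (2, 1), (3, 1), (4, 0), (5, 0), (6, 1), (7, 1), (8, 1), (9, 1),
    (10, 1), (11, 1), (12, 0), (13, 0), (14, 0), (15, 1), (16, 0), (17, 0), (18, 0),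
    (19, 1), (20, 0), (21, 1), (22, 0), (1, 1), (24, 0), (25, 0), (26, 0), (27, 0),
    (28, 1), (29, 1), (30, 0), (31, 0), (32, 0), (33, 0), (34, 0), (35, 1), (36, 0),
    (37, 0), (38, 1), (39, 1), (40, 1), (41, 1), (42, 1)
   ],
   23, 43⟩

theorem gen7_7_23 : GenTriple 7 7 23 :=
  wit7_7_23.sound (by norm_num) (by norm_num) (by norm_num) (by decide +kernel)

def wit7_11_11 : Wit :=
  ⟨[21, 10, 12, 4, 18, 6, 16, 20, 8, 17, 13, 1, 7, 5, 3, 2, 11, 19, 9, 14, 0, 15, 22, 23],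
   [16, 5, 12, 2, 7, 13, 22, 6, 17, 1, 10, 3, 21, 20, 11, 0, 8, 14, 9, 4, 19, 15, 18, 23],
   [
    (1, 1), (2, 0), (3, 1), (4, 0), (5, 1), (6, 0), (7, 1), (8, 1), (9, 1),
    (10, 1), (11, 0), (12, 0), (13, 0), (14, 1), (15, 1), (16, 1), (17, 0), (18, 0),
    (19, 1), (20, 0), (21, 1), (22, 0), (0, 0), (24, 1), (25, 0), (26, 1), (27, 0),
    (28, 0), (29, 0), (30, 1), (31, 0), (32, 0), (33, 0), (34, 0), (35, 0), (36, 1),
    (37, 0), (38, 1), (39, 1), (40, 1), (41, 1), (42, 0), (43, 0), (44, 1), (45, 1)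
   ],
   23, 46⟩

theorem gen7_11_11 : GenTriple 7 11 11 :=
  wit7_11_11.sound (by norm_num) (by norm_num) (by norm_num) (by decide +kernel)

def wit7_11_23 : Wit :=
  ⟨[12, 8, 10, 17, 13, 16, 7, 9, 0, 2, 3, 22, 4, 19, 11, 15, 14, 6, 20, 1, 5, 21, 18, 23],
   [22, 4, 5, 17, 3, 0, 8, 14, 7, 15, 16, 11, 13, 9, 21, 6, 1, 19, 20, 2, 12, 18, 10, 23],
   [
    (1, 0), (2, 1), (3, 1), (4, 1), (5, 1), (6, 0), (7, 1), (8, 0), (9, 0),
    (10, 1), (11, 0), (12, 1), (13, 0), (14, 1), (15, 0), (16, 1), (17, 1), (18, 0),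
    (19, 1), (20, 1), (21, 0), (22, 0), (0, 0), (24, 1), (25, 1), (26, 1), (27, 0),
    (28, 0), (29, 0), (30, 0), (31, 1), (32, 0), (33, 1), (34, 0), (35, 0), (36, 1),
    (37, 1), (38, 0), (39, 0), (40, 1), (41, 1), (42, 0)
   ],
   23, 43⟩

theorem gen7_11_23 : GenTriple 7 11 23 :=
  wit7_11_23.sound (by norm_num) (by norm_num) (by norm_num) (by decide +kernel)

def wit7_23_23 : Wit :=
  ⟨[6, 1, 4, 21, 9, 22, 19, 13, 7, 18, 2, 20, 10, 0, 8, 15, 12, 11, 16, 14, 3, 5, 17, 23],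
   [7, 16, 8, 15, 11, 6, 20, 18, 22, 14, 0, 9, 17, 19, 21, 2, 13, 3, 4, 5, 10, 12, 1, 23],
   [
    (1, 0), (2, 0), (3, 0), (4, 1), (5, 0), (6, 0), (7, 1), (8, 1), (9, 1),
    (10, 1), (11, 0), (12, 0), (13, 0), (14, 1), (15, 1), (16, 1), (17, 1), (18, 1),
    (19, 0), (20, 1), (21, 0), (0, 0), (23, 1), (24, 0), (25, 0), (26, 1), (27, 0),
    (28, 0), (29, 1), (30, 1), (31, 1), (32, 0), (33, 0), (34, 1), (35, 0), (36, 1),
    (37, 1), (38, 1), (39, 0), (40, 0), (41, 1), (42, 0), (43, 0), (44, 0)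
   ],
   22, 45⟩

theorem gen7_23_23 : GenTriple 7 23 23 :=
  wit7_23_23.sound (by norm_num) (by norm_num) (by norm_num) (by decide +kernel)

def wit11_11_11 : Wit :=
  ⟨[11, 4, 17, 13, 22, 8, 18, 1, 21, 15, 19, 20, 9, 2, 14, 6, 12, 0, 10, 5, 7, 16, 3, 23],
   [16, 1, 6, 17, 9, 19, 12, 21, 15, 20, 7, 14, 11, 2, 3, 4, 8, 22, 0, 13, 10, 18, 5, 23],
   [
    (0, 0), (2, 0), (3, 1), (4, 1), (5, 1), (6, 0), (7, 0), (8, 0), (9, 0),
    (10, 0), (11, 0), (12, 1), (13, 1), (14, 0), (15, 1), (16, 0), (17, 0), (18, 1),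
    (19, 1), (20, 1), (21, 1), (22, 0), (23, 0), (24, 1), (0, 1), (26, 1), (27, 1),
    (28, 1), (29, 1), (30, 1), (31, 0), (32, 0), (33, 1), (34, 0), (35, 0), (36, 0),
    (37, 1), (38, 1), (39, 0), (40, 1), (41, 0), (42, 0), (43, 0), (44, 0), (45, 1),
    (46, 0)
   ],
   25, 47⟩

theorem gen11_11_11 : GenTriple 11 11 11 :=
  wit11_11_11.sound (by norm_num) (by norm_num) (by norm_num) (by decide +kernel)

def wit11_11_23 : Wit :=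
  ⟨[6, 4, 12, 10, 16, 3, 2, 13, 11, 17, 0, 20, 14, 5, 19, 9, 22, 21, 18, 7, 1, 8, 15, 23],
   [9, 7, 4, 22, 18, 16, 12, 3, 0, 11, 2, 10, 13, 5, 8, 1, 21, 17, 19, 20, 14, 15, 6, 23],
   [
    (1, 0), (2, 1), (3, 1), (4, 0), (5, 0), (6, 1), (7, 1), (8, 0), (9, 0),
    (10, 1), (11, 0), (12, 1), (13, 1), (14, 1), (15, 0), (16, 1), (17, 0), (18, 1),
    (19, 0), (20, 0), (21, 1), (1, 1), (23, 0), (24, 0), (25, 0), (26, 0), (27, 0),
    (28, 0), (29, 0), (30, 1), (31, 0), (32, 1), (33, 0), (34, 0), (35, 0), (36, 1),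
    (37, 1), (38, 1), (39, 0), (40, 1), (41, 0), (42, 0), (43, 1)
   ],
   22, 44⟩

theorem gen11_11_23 : GenTriple 11 11 23 :=
  wit11_11_23.sound (by norm_num) (by norm_num) (by norm_num) (by decide +kernel)

def wit11_23_23 : Wit :=
  ⟨[0, 6, 22, 17, 7, 15, 20, 18, 10, 11, 19, 16, 9, 14, 2, 12, 3, 8, 21, 5, 13, 1, 4, 23],
   [22, 18, 17, 7, 19, 3, 16, 0, 2, 13, 6, 1, 9, 11, 15, 10, 8, 5, 21, 12, 4, 14, 20, 23],
   [
    (1, 1), (2, 1), (3, 0), (4, 1), (5, 1), (6, 1), (7, 1), (8, 1), (9, 1),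
    (10, 1), (11, 0), (12, 1), (13, 1), (14, 0), (15, 1), (16, 1), (17, 1), (18, 1),
    (19, 1), (20, 0), (21, 0), (22, 1), (23, 1), (0, 1), (25, 1), (26, 0), (27, 1),
    (28, 1), (29, 1), (30, 1), (31, 0), (32, 1), (33, 0), (34, 0), (35, 1)
   ],
   24, 36⟩

theorem gen11_23_23 : GenTriple 11 23 23 :=
  wit11_23_23.sound (by norm_num) (by norm_num) (by norm_num) (by decide +kernel)

def wit23_23_23 : Wit :=
  ⟨[11, 20, 14, 18, 3, 4, 15, 19, 1, 22, 21, 5, 10, 7, 12, 0, 17, 6, 8, 9, 2, 13, 16, 23],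
   [22, 12, 4, 0, 11, 8, 21, 14, 15, 18, 1, 6, 5, 3, 20, 7, 17, 10, 16, 13, 19, 9, 2, 23],
   [
    (1, 0), (2, 0), (3, 0), (4, 0), (5, 1), (6, 0), (7, 0), (8, 0), (9, 0),
    (10, 1), (11, 0), (12, 0), (13, 1), (14, 0), (15, 1), (16, 1), (17, 1), (18, 1),
    (19, 0), (20, 1), (21, 1), (22, 1), (0, 0), (24, 0), (25, 0), (26, 0), (27, 0),
    (28, 0), (29, 0), (30, 0), (31, 1), (32, 0), (33, 0), (34, 0), (35, 1), (36, 1),
    (37, 0), (38, 1), (39, 1), (40, 1), (41, 1), (42, 1), (43, 0), (44, 0), (45, 1)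
   ],
   23, 46⟩

theorem gen23_23_23 : GenTriple 23 23 23 :=
  wit23_23_23.sound (by norm_num) (by norm_num) (by norm_num) (by decide +kernel)

end Cfsg.Agent.Golay
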