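import Cfsg.Agent.Lib.Golay.Coinvariant
import Cfsg.Agent.Lib.Golay.CodeSteiner

/-!
The invariant subspaces of the permutation module of M₂₄ over the field with two elements.
-/

set_option autoImplicit false

namespace Cfsg.Agent.Golay

open scoped Pointwise

/-- The words of even weight. -/
def evenWords : Submodule (ZMod 2) (GolayPt → ZMod 2) where
  carrier := {w | ∑ p, w p = 0}
  zero_mem' := by simp
  add_mem' {a b} ha hb := by
    simp only [Set.mem_ofPred_eq, Pi.add_apply, Finset.sum_add_distrib] at *
    rw [ha, hb, add_zero]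
  smul_mem' r a ha := by
    simp only [Set.mem_ofPred_eq, Pi.smul_apply, smul_eq_mul, ← Finset.mul_sum] at *
    rw [ha, mul_zero]

theorem golayCode_min (w : GolayPt → ZMod 2) (hw : w ∈ golayCode) (h0 : w ≠ 0) :
    8 ≤ (support₂ w).card ∧ 4 ∣ (support₂ w).card := by
  have h := golayCode_weights w hw
  rw [hammingNorm_eq] at h
  have hpos : (support₂ w).card ≠ 0 := by
    rw [← hammingNorm_eq]
    exact fun e => h0 (hammingNorm_eq_zero.1 e)
  omega

theorem indWord_add_indWord {a b : GolayPt} {s : Finset GolayPt} (ha : a ∉ s) (hb : b ∉ s)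
    (hab : a ≠ b) : indWord (insert a s) + indWord (insert b s) = indWord {a, b} := by
  funext p
  simp only [Pi.add_apply, indWord, Finset.mem_insert, Finset.mem_singleton]
  have two : (1 : ZMod 2) + 1 = 0 := by decide
  by_cases hpa : p = a
  · subst hpa; simp [ha, hab]
  by_cases hpb : p = b
  · subst hpb; simp [hb, Ne.symm hab]
  by_cases hps : p ∈ s <;> simp [hpa, hpb, hps, two]

theorem indWord_comp (σ : Equiv.Perm GolayPt) (s : Finset GolayPt) :
    (fun p => indWord s (σ.symm p)) = indWord (s.map σ.toEmbedding) := by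
  funext p
  simp only [indWord, Finset.mem_map_equiv]

/-- Invariance under `M₂₄` of a subspace of words. -/
def InvariantSub (U : Submodule (ZMod 2) (GolayPt → ZMod 2)) : Prop :=
  ∀ σ ∈ M24, ∀ w ∈ U, (fun p => w (σ.symm p)) ∈ U

theorem exists_map_two' {a b c d : GolayPt} (hab : a ≠ b) (hcd : c ≠ d) :
    ∃ g ∈ M24, g a = c ∧ g b = d := by
  obtain ⟨g, hg, g1, g2⟩ := exists_map_two hab
  obtain ⟨h, hh, h1, h2⟩ := exists_map_two hcd
  refine ⟨h * g⁻¹, M24.mul_mem hh (M24.inv_mem hg), ?_, ?_⟩
  · rw [← g1, Equiv.Perm.mul_apply, Equiv.Perm.coe_inv, Equiv.symm_apply_apply, h1]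
  · rw [← g2, Equiv.Perm.mul_apply, Equiv.Perm.coe_inv, Equiv.symm_apply_apply, h2]

theorem all_pairs_of_one_pair {U : Submodule (ZMod 2) (GolayPt → ZMod 2)} (hU : InvariantSub U)
    {a b : GolayPt} (hab : a ≠ b) (h : indWord {a, b} ∈ U) {c d : GolayPt} (hcd : c ≠ d) :
    indWord {c, d} ∈ U := by
  obtain ⟨g, hg, g1, g2⟩ := exists_map_two' hab hcd
  have := hU g hg _ h
  rw [indWord_comp, Finset.map_insert, Finset.map_singleton] at this
  simpa [g1, g2] using this

/-- An invariant subspace with the indicator of a set of one to four points has all pairs. -/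
theorem pairs_of_small {U : Submodule (ZMod 2) (GolayPt → ZMod 2)} (hU : InvariantSub U)
    {t : Finset GolayPt} (h1 : 1 ≤ t.card) (h4 : t.card ≤ 4) (h : indWord t ∈ U) {c d : GolayPt}
    (hcd : c ≠ d) : indWord {c, d} ∈ U := by
  obtain ⟨a, ha⟩ := Finset.card_pos.1 h1
  obtain ⟨b, -, hb⟩ := Finset.exists_mem_notMem_of_card_lt_card
    (show t.card < (Finset.univ : Finset GolayPt).card by
      rw [Finset.card_univ, card_golayPt]; omega)
  have hab : a ≠ b := fun e => hb (e ▸ ha)
  set s := t.erase a with hs
  have has : a ∉ s := Finset.notMem_erase a t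
  have hbs : b ∉ s := fun e => hb (Finset.mem_of_mem_erase e)
  have hsc : s.card = t.card - 1 := Finset.card_erase_of_mem ha
  -- enumerate s, then a; and s, then b
  let e : GolayPt → ℕ → GolayPt := fun x j =>
    if h : j < s.card then (s.equivFin.symm ⟨j, h⟩ : GolayPt) else x
  have he : ∀ x, x ∉ s → ∀ j k, j < s.card + 1 → k < s.card + 1 → e x j = e x k → j = k := by
    intro x hx j k hj hk h
    simp only [e] at h
    split_ifs at h with h1 h2 h2
    · simpa [← Subtype.ext_iff, Fin.ext_iff] using h
    · exact absurd (h ▸ Finset.coe_mem _) hx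
    · exact absurd (h.symm ▸ Finset.coe_mem _) hx
    · omega
  obtain ⟨g, hg, hgj⟩ := exists_map_base (e a) (s.card + 1) (by omega) (he a has)
  obtain ⟨g', hg', hgj'⟩ := exists_map_base (e b) (s.card + 1) (by omega) (he b hbs)
  set σ := g' * g⁻¹
  have hσa : σ a = b := by
    have h1 := hgj s.card (Nat.lt_succ_self _)
    have h2 := hgj' s.card (Nat.lt_succ_self _)
    simp only [e, lt_irrefl, dite_false] at h1 h2
    simp only [σ, Equiv.Perm.mul_apply, Equiv.Perm.coe_inv, ← h1, Equiv.symm_apply_apply, h2]
  have hσs : ∀ x ∈ s, σ x = x := by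
    intro x hx
    have hlt := (s.equivFin ⟨x, hx⟩).isLt
    have h1 := hgj (s.equivFin ⟨x, hx⟩).val (by omega)
    have h2 := hgj' (s.equivFin ⟨x, hx⟩).val (by omega)
    simp only [e, dif_pos hlt, Fin.eta, Equiv.symm_apply_apply] at h1 h2
    simp only [σ, Equiv.Perm.mul_apply, Equiv.Perm.coe_inv]
    rw [show g.symm x = bp (s.equivFin ⟨x, hx⟩).val from (Equiv.symm_apply_eq g).2 h1.symm, h2]
  have hmap := hU σ (M24.mul_mem hg' (M24.inv_mem hg)) _ h
  have ht : t.map σ.toEmbedding = insert b s := by
    rw [← Finset.insert_erase ha, ← hs, Finset.map_insert]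
    congr 1
    ext x
    simp only [Finset.mem_map, Equiv.coe_toEmbedding]
    constructor
    · rintro ⟨y, hy, rfl⟩; rwa [hσs y hy]
    · intro hx; exact ⟨x, hx, hσs x hx⟩
  rw [indWord_comp, ht] at hmap
  have hsum := U.add_mem h hmap
  rw [← Finset.insert_erase ha, ← hs, indWord_add_indWord has hbs hab] at hsum
  exact all_pairs_of_one_pair hU hab hsum hcd

theorem evenWords_le {U : Submodule (ZMod 2) (GolayPt → ZMod 2)}
    (h : ∀ c d : GolayPt, c ≠ d → indWord {c, d} ∈ U) : evenWords ≤ U := by
  intro w hw
  have key : ∀ n : ℕ, ∀ w : GolayPt → ZMod 2, (support₂ w).card = 2 * n → w ∈ U := by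
    intro n
    induction n with
    | zero =>
      intro w hw
      rw [mul_zero, Finset.card_eq_zero] at hw
      rw [← indWord_support₂ w, hw]
      convert U.zero_mem using 1
      funext p
      simp [indWord]
    | succ n ih =>
      intro w hw
      obtain ⟨c, hc⟩ := Finset.card_pos.1 (show 0 < (support₂ w).card by omega)
      obtain ⟨d, hd⟩ := Finset.card_pos.1 (show 0 < ((support₂ w).erase c).card by
        rw [Finset.card_erase_of_mem hc]; omega)
      rw [Finset.mem_erase] at hd
      have hs := card_support₂_add w (indWord {c, d})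
      rw [support₂_indWord, Finset.inter_eq_right.2 (by
        intro x hx
        rw [Finset.mem_insert, Finset.mem_singleton] at hx
        rcases hx with rfl | rfl
        exacts [hc, hd.2]), Finset.card_pair (Ne.symm hd.1)] at hs
      have hm := U.add_mem (ih (w + indWord {c, d}) (by omega)) (h c d (Ne.symm hd.1))
      have e : w + indWord {c, d} + indWord {c, d} = w := by
        funext p
        simp only [Pi.add_apply, add_assoc, CharTwo.add_self_eq_zero, add_zero]
      rwa [e] at hm
  have hpar : ((support₂ w).card : ZMod 2) = 0 := by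
    have : ∑ p, w p = ((support₂ w).card : ZMod 2) := by
      have two : ∀ z : ZMod 2, z = if z ≠ 0 then 1 else 0 := by decide
      rw [support₂, ← Finset.sum_boole]
      exact Finset.sum_congr rfl fun p _ => two _
    rwa [show ∑ p, w p = 0 from hw, eq_comm] at this
  rw [ZMod.natCast_eq_zero_iff_even] at hpar
  obtain ⟨n, hn⟩ := hpar
  exact key n w (by omega)

theorem golayCode_le_evenWords : golayCode ≤ evenWords := fun w hw => by
  show ∑ p, w p = 0
  have := golayCode_orth hw one_mem_golayCode
  simpa using this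

theorem eq_code_or_small {W : Submodule (ZMod 2) (GolayPt → ZMod 2)} (hle : W ≤ golayCode)
    (hW : InvariantSub W) :
    (∀ w ∈ W, w = 0 ∨ w = fun _ => (1 : ZMod 2)) ∨ W = golayCode := by
  by_cases hsmall : ∀ w ∈ W, w = 0 ∨ w = fun _ => (1 : ZMod 2)
  · exact Or.inl hsmall
  push Not at hsmall
  obtain ⟨w, hw, hw0, hw1⟩ := hsmall
  set one : GolayPt → ZMod 2 := fun _ => 1
  set S := Submodule.span (ZMod 2) {one}
  have hinv : InvariantSub (W ⊔ S) := by
    intro σ hσ v hv
    obtain ⟨x, hx, y, hy, rfl⟩ := Submodule.mem_sup.1 hv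
    obtain ⟨r, rfl⟩ := Submodule.mem_span_singleton.1 hy
    exact Submodule.mem_sup.2 ⟨_, hW σ hσ x hx, r • one, hy, rfl⟩
  rcases invariant_eq_span_or_top (Submodule.mem_sup_right (Submodule.mem_span_singleton_self one))
      (sup_le hle ((Submodule.span_singleton_le_iff_mem _ _).2 one_mem_golayCode)) hinv with h | h
  · exfalso
    obtain ⟨r, hr⟩ := Submodule.mem_span_singleton.1
      (h ▸ Submodule.mem_sup_left hw : w ∈ Submodule.span (ZMod 2) {one})
    have : r = 0 ∨ r = 1 := (by decide : ∀ z : ZMod 2, z = 0 ∨ z = 1) r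
    rcases this with rfl | rfl
    · exact hw0 (by rw [← hr, zero_smul])
    · exact hw1 (by rw [← hr, one_smul])
  refine Or.inr (le_antisymm hle ?_)
  -- every octad, up to complement
  have hoct : ∀ n, inCode n = true → popc n = 8 → toWord n ∈ W ∨ toWord n + one ∈ W := by
    intro n hn _
    have : toWord n ∈ W ⊔ S := h.symm ▸ toWord_mem_of_inCode hn
    obtain ⟨x, hx, y, hy, e⟩ := Submodule.mem_sup.1 this
    obtain ⟨r, rfl⟩ := Submodule.mem_span_singleton.1 hy
    have : r = 0 ∨ r = 1 := (by decide : ∀ z : ZMod 2, z = 0 ∨ z = 1) r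
    rcases this with rfl | rfl
    · left; rwa [← e, zero_smul, add_zero]
    · right
      rw [← e, one_smul]
      convert hx using 1
      funext p
      simp only [Pi.add_apply, add_assoc, CharTwo.add_self_eq_zero, add_zero]
  have move : ∀ {n k : ℕ} {σ : Equiv.Perm GolayPt}, σ ∈ M24 → σ • toSet n = toSet k →
      toWord n ∈ W → toWord k ∈ W := by
    intro n k σ hσ e hv
    rw [← support₂_toWord, smul_support₂, ← support₂_toWord] at e
    rw [← support₂_injective e]
    exact hW σ hσ _ hv
  have oct_trans : ∀ n k, inCode n = true → popc n = 8 → toWord n ∈ W → inCode k = true →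
      popc k = 8 → toWord k ∈ W := by
    intro n k hn hn8 hv hk hk8
    obtain ⟨σ, hσ, e⟩ := octad_transitive (octad_mem_iff.2 ⟨n, hn, hn8, rfl⟩)
      (octad_mem_iff.2 ⟨k, hk, hk8, rfl⟩)
    exact move hσ e hv
  obtain ⟨a, b, c, d, e, f, ha, hb, hc, habc, hd, he, hf, hdef⟩ := sum_witness
  have hsome : ∃ n, inCode n = true ∧ popc n = 8 ∧ toWord n ∈ W := by
    rcases hoct _ (inCode_comb a.isLt) ha with h1 | h1
    · exact ⟨_, inCode_comb a.isLt, ha, h1⟩
    rcases hoct _ (inCode_comb b.isLt) hb with h2 | h2
    · exact ⟨_, inCode_comb b.isLt, hb, h2⟩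
    have hdod : toWord (comb c.val) ∈ W := by
      have := W.add_mem h1 h2
      rw [← habc, toWord_xor]
      convert this using 1
      funext p
      simp only [Pi.add_apply]
      rw [add_add_add_comm, CharTwo.add_self_eq_zero, add_zero]
    refine ⟨_, inCode_comb f.isLt, hf, ?_⟩
    rw [← hdef, toWord_xor]
    refine W.add_mem ?_ ?_
    · obtain ⟨σ, hσ, e'⟩ := dodecad_transitive (dodecad_mem_iff.2 ⟨_, inCode_comb c.isLt, hc, rfl⟩)
        (dodecad_mem_iff.2 ⟨_, inCode_comb d.isLt, hd, rfl⟩)
      exact move hσ e' hdod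
    · obtain ⟨σ, hσ, e'⟩ := dodecad_transitive (dodecad_mem_iff.2 ⟨_, inCode_comb c.isLt, hc, rfl⟩)
        (dodecad_mem_iff.2 ⟨_, inCode_comb e.isLt, he, rfl⟩)
      exact move hσ e' hdod
  obtain ⟨n, hn, hn8, hnW⟩ := hsome
  rw [golayCode_eq]
  rintro _ ⟨m, -, rfl⟩
  refine toWord_combAux_mem _ _ _ fun x hx => ?_
  rw [octBasis_facts.1, List.mem_map] at hx
  obtain ⟨k, -, rfl⟩ := hx
  refine toWord_combAux_mem _ _ _ fun o ho => ?_
  have ho' := List.all_eq_true.1 octBasis_facts.2 o ho
  simp only [Bool.and_eq_true, beq_iff_eq] at ho'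
  exact oct_trans n o hn hn8 hnW ho'.1 ho'.2

/-- The invariant subspaces of the permutation module. -/
theorem invariant_subspaces {W : Submodule (ZMod 2) (GolayPt → ZMod 2)} (hW : InvariantSub W) :
    W = ⊥ ∨ W = Submodule.span (ZMod 2) {fun _ => (1 : ZMod 2)} ∨ W = golayCode ∨
      W = evenWords ∨ W = ⊤ := by
  set one : GolayPt → ZMod 2 := fun _ => 1 with hone
  by_cases hWC : W ≤ golayCode
  · rcases eq_code_or_small hWC hW with hs | h
    · by_cases h1 : one ∈ W
      · refine Or.inr (Or.inl (le_antisymm (fun w hw => ?_)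
          ((Submodule.span_singleton_le_iff_mem _ _).2 h1)))
        rcases hs w hw with rfl | rfl
        · exact Submodule.zero_mem _
        · exact Submodule.mem_span_singleton_self _
      · left
        rw [eq_bot_iff]
        intro w hw
        rcases hs w hw with rfl | rfl
        · exact Submodule.zero_mem _
        · exact absurd hw h1
    · exact Or.inr (Or.inr (Or.inl h))
  obtain ⟨u, hu, huC⟩ := SetLike.not_le_iff_exists.1 hWC
  -- pairs modulo the code
  have hsupinv : InvariantSub (W ⊔ golayCode) := by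
    intro σ hσ v hv
    obtain ⟨x, hx, y, hy, rfl⟩ := Submodule.mem_sup.1 hv
    exact Submodule.mem_sup.2 ⟨_, hW σ hσ x hx, _, mem_M24_iff.1 hσ y hy, rfl⟩
  obtain ⟨t, ht, hte⟩ := exists_small_rep (C := golayCode) golayCode_min card_golayPt
    finrank_golayCode (Submodule.Quotient.mk u)
  have hsub : indWord t - u ∈ golayCode := (Submodule.Quotient.eq _).1 hte
  have ht1 : 1 ≤ t.card := by
    by_contra h
    rw [not_le, Nat.lt_one_iff, Finset.card_eq_zero] at h
    have hz : indWord t = (0 : GolayPt → ZMod 2) := by funext p; simp [indWord, h]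
    rw [hz, zero_sub, neg_mem_iff] at hsub
    exact huC hsub
  have hpairs : ∀ c d : GolayPt, c ≠ d → indWord {c, d} ∈ W ⊔ golayCode := fun c d hcd => by
    refine pairs_of_small hsupinv ht1 ht ?_ hcd
    exact Submodule.mem_sup.2 ⟨u, hu, indWord t - u, hsub, add_sub_cancel u _⟩
  -- the intersection with the code is the code
  have hcode : golayCode ≤ W := by
    have hinf : InvariantSub (W ⊓ golayCode) := fun σ hσ v hv =>
      ⟨hW σ hσ v hv.1, mem_M24_iff.1 hσ v hv.2⟩
    rcases eq_code_or_small (inf_le_right : W ⊓ golayCode ≤ golayCode) hinf with hs | h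
    swap
    · exact h ▸ inf_le_left
    have hp : ∀ a b : GolayPt, a ≠ b → ∃ c : GolayPt → ZMod 2, (c = 0 ∨ c = one) ∧
        indWord {a, b} + c ∈ W := by
      intro a b hab
      obtain ⟨x, hx, y, hy, e⟩ := Submodule.mem_sup.1 (hpairs a b hab)
      have hxy : indWord {a, b} + y = x := by
        rw [← e]
        funext p
        simp only [Pi.add_apply, add_assoc, CharTwo.add_self_eq_zero, add_zero]
      refine ⟨y, ?_, hxy ▸ hx⟩
      obtain ⟨g, hg, g1, g2⟩ := exists_map_two hab
      have hfixc : ∀ h ∈ M24, h a = a → h b = b → ∀ q, y (h.symm q) = y q := by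
        intro h hh ha hb
        have hx' := hW h hh x hx
        have hpair : (fun p => indWord ({a, b} : Finset GolayPt) (h.symm p)) = indWord {a, b} := by
          rw [indWord_comp, Finset.map_insert, Finset.map_singleton]
          simp [ha, hb]
        have hd : (fun p => y (h.symm p)) + y ∈ W ⊓ golayCode := by
          refine ⟨?_, Submodule.add_mem _ (mem_M24_iff.1 hh y hy) hy⟩
          show (fun p => y (h.symm p)) + y ∈ W
          convert W.add_mem hx' hx using 1
          funext p
          have hpp := congrFun hpair p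
          simp only [← hxy, Pi.add_apply] at hpp ⊢
          rw [hpp, add_add_add_comm, CharTwo.add_self_eq_zero, zero_add]
        intro q
        rcases hs _ hd with h0 | h0
        · exact CharTwo.add_eq_zero.1 (congrFun h0 q)
        · exfalso
          have h1 := congrFun h0 a
          simp only [Pi.add_apply] at h1
          rw [show h.symm a = a from (Equiv.symm_apply_eq h).2 ha.symm,
            CharTwo.add_self_eq_zero] at h1
          exact absurd h1 (by decide)
      have hconst : ∀ q r, q ∉ ({a, b} : Finset GolayPt) → r ∉ ({a, b} : Finset GolayPt) →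
          y q = y r := by
        intro q r hq hr
        have mem : ∀ s, s ∉ ({a, b} : Finset GolayPt) → g⁻¹ s ∉ baseSet 2 := by
          intro s hs' hm
          obtain ⟨j, hj, e⟩ := mem_baseSet.1 hm
          rw [Equiv.Perm.coe_inv, Equiv.eq_symm_apply] at e
          interval_cases j
          · rw [bp_zero, g1] at e; simp [e] at hs'
          · rw [bp_one, g2] at e; simp [e] at hs'
        obtain ⟨k, hk, hkq⟩ := exists_transport le_rfl (mem r hr) (mem q hq)
        obtain ⟨hk1, hk2⟩ := mem_fixUpTo.1 hk
        set h := g * k * g⁻¹ with hh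
        have ha : h a = a := by
          rw [hh, Equiv.Perm.mul_apply, Equiv.Perm.mul_apply, Equiv.Perm.coe_inv, ← g1,
            Equiv.symm_apply_apply, ← bp_zero, hk2 0 (by norm_num)]
        have hb : h b = b := by
          rw [hh, Equiv.Perm.mul_apply, Equiv.Perm.mul_apply, Equiv.Perm.coe_inv, ← g2,
            Equiv.symm_apply_apply, ← bp_one, hk2 1 (by norm_num)]
        have hrq : h r = q := by
          rw [hh, Equiv.Perm.mul_apply, Equiv.Perm.mul_apply, hkq, Equiv.Perm.coe_inv,
            Equiv.apply_symm_apply]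
        have := hfixc h (M24.mul_mem (M24.mul_mem hg hk1) (M24.inv_mem hg)) ha hb q
        rw [← this, show h.symm q = r from (Equiv.symm_apply_eq h).2 hrq.symm]
      obtain ⟨q₀, hq₀⟩ : ∃ q, q ∉ ({a, b} : Finset GolayPt) := by
        obtain ⟨q, -, hq⟩ := Finset.exists_mem_notMem_of_card_lt_card
          (show ({a, b} : Finset GolayPt).card < (Finset.univ : Finset GolayPt).card by
            rw [Finset.card_pair hab, Finset.card_univ, card_golayPt]; norm_num)
        exact ⟨q, hq⟩
      have hyw := golayCode_weights y hy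
      rw [hammingNorm_eq] at hyw
      have two : y q₀ = 0 ∨ y q₀ = 1 := by
        have hz : ∀ z : ZMod 2, z = 0 ∨ z = 1 := by decide
        exact hz _
      rcases two with h0 | h0
      · left
        have hsub : support₂ y ⊆ {a, b} := fun s hs' => by
          by_contra hsn
          simp only [support₂, Finset.mem_filter] at hs'
          exact hs'.2 ((hconst s q₀ hsn hq₀).trans h0)
        have := Finset.card_le_card hsub
        rw [Finset.card_pair hab] at this
        exact hammingNorm_eq_zero.1 (by rw [hammingNorm_eq]; omega)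
      · right
        have hsub : Finset.univ \ ({a, b} : Finset GolayPt) ⊆ support₂ y := fun s hs' => by
          rw [Finset.mem_sdiff] at hs'
          simp only [support₂, Finset.mem_filter, Finset.mem_univ, true_and]
          rw [hconst s q₀ hs'.2 hq₀, h0]
          decide
        have := Finset.card_le_card hsub
        rw [Finset.card_sdiff_of_subset (Finset.subset_univ _), Finset.card_univ, card_golayPt,
          Finset.card_pair hab] at this
        apply support₂_injective
        rw [show support₂ one = Finset.univ by simp [support₂, one]]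
        exact Finset.eq_univ_of_card _ (by rw [card_golayPt]; omega)
    obtain ⟨a, b, c, hab, hac, hbc⟩ : ∃ a b c : GolayPt, a ≠ b ∧ a ≠ c ∧ b ≠ c :=
      ⟨none, some 0, some 1, Option.some_ne_none 0 |>.symm, Option.some_ne_none 1 |>.symm,
        by decide⟩
    -- three pairs: two of them carry the same constant
    have key : ∃ p q : GolayPt, p ≠ q ∧ indWord {p, q} ∈ W := by
      obtain ⟨k1, hk1, m1⟩ := hp a b hab
      obtain ⟨k2, hk2, m2⟩ := hp a c hac
      obtain ⟨k3, hk3, m3⟩ := hp b c hbc
      have same : ∀ {p q r : GolayPt} {k : GolayPt → ZMod 2}, p ≠ q → p ≠ r → q ≠ r →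
          indWord {p, q} + k ∈ W → indWord {p, r} + k ∈ W → indWord {q, r} ∈ W := by
        intro p q r k hpq hpr hqr h1 h2
        have := W.add_mem h1 h2
        convert this using 1
        funext s
        simp only [Pi.add_apply]
        rw [add_add_add_comm, CharTwo.add_self_eq_zero, add_zero]
        have := congrFun (indWord_add_indWord (a := q) (b := r) (s := {p})
          (by simpa using Ne.symm hpq) (by simpa using Ne.symm hpr) hqr) s
        simp only [Pi.add_apply, Finset.pair_comm q p, Finset.pair_comm r p] at this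
        exact this.symm
      rcases hk1 with rfl | rfl
      · exact ⟨a, b, hab, by simpa using m1⟩
      rcases hk2 with rfl | rfl
      · exact ⟨a, c, hac, by simpa using m2⟩
      exact ⟨b, c, hbc, same hab hac hbc m1 m2⟩
    obtain ⟨p, q, hpq, hm⟩ := key
    exact golayCode_le_evenWords.trans
      (evenWords_le fun c d hcd => all_pairs_of_one_pair hW hpq hm hcd)
  have heven : evenWords ≤ W :=
    evenWords_le fun c d hcd => (sup_eq_left.2 hcode) ▸ hpairs c d hcd
  by_cases hodd : W ≤ evenWords
  · exact Or.inr (Or.inr (Or.inr (Or.inl (le_antisymm hodd heven))))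
  refine Or.inr (Or.inr (Or.inr (Or.inr ?_)))
  obtain ⟨v, hv, hve⟩ := SetLike.not_le_iff_exists.1 hodd
  rw [eq_top_iff]
  intro w _
  have htwo : ∀ z : ZMod 2, z = 0 ∨ z = 1 := by decide
  rcases htwo (∑ p, w p) with h | h
  · exact heven h
  · have h1 : ∑ p, v p = 1 := (htwo _).resolve_left hve
    have : w - v ∈ W := heven (by
      show ∑ p, (w - v) p = 0
      simp only [Pi.sub_apply, Finset.sum_sub_distrib, h, h1, sub_self])
    simpa using W.add_mem this hv

end Cfsg.Agent.Golay
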